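import Groth.Agent.Ega4A.CplFlat
import Groth.Agent.S0544
import Groth.Agent.Ega43.EtaleReduced
import Mathlib.RingTheory.Unramified.LocalRing
import Mathlib.RingTheory.Smooth.Fiber
import Mathlib.RingTheory.Etale.Locus

/-!
# Completion of an étale local homomorphism

For a flat, essentially of finite type, formally unramified local homomorphism `A → B` of Noetherian local
rings, the completion `B^` is a finite étale `A^`-algebra; so analytic reducedness passes from `A` to `B`.
-/

set_option autoImplicit false
set_option linter.style.haveILetI false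
universe u

open IsLocalRing TensorProduct

namespace K151.AnRed

open Groth.Agent.Ega4A.CplFlat

local notation "Cpl" A => AdicCompletion (maximalIdeal A) A

theorem isAdicComplete_cpl (A : Type u) [CommRing A] [IsLocalRing A] [IsNoetherianRing A] :
    IsAdicComplete (maximalIdeal (Cpl A)) (Cpl A) := by
  rw [AdicCompletion.maximalIdeal_eq_map, IsAdicComplete.map_algebraMap_iff]
  exact AdicCompletion.isAdicComplete (maximalIdeal A).fg_of_isNoetherianRing

theorem surjective_residue_cpl (A : Type u) [CommRing A] [IsLocalRing A] [IsNoetherianRing A] :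
    Function.Surjective (algebraMap A (ResidueField (Cpl A))) := by
  intro x
  obtain ⟨y, rfl⟩ := residue_surjective x
  obtain ⟨a, ha⟩ := surjective_algebraMap_quotient A 1
    (Ideal.Quotient.mk (((maximalIdeal A) ^ 1).map (algebraMap A (Cpl A))) y)
  refine ⟨a, ?_⟩
  have h1 : algebraMap A (Cpl A) a - y ∈ ((maximalIdeal A) ^ 1).map (algebraMap A (Cpl A)) :=
    Ideal.Quotient.eq.mp ha
  rw [pow_one, ← AdicCompletion.maximalIdeal_eq_map] at h1
  have h2 : residue (Cpl A) (algebraMap A (Cpl A) a - y) = 0 := by
    rwa [residue_eq_zero_iff]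
  rw [map_sub, sub_eq_zero] at h2
  exact h2

variable (A B : Type u) [CommRing A] [CommRing B] [Algebra A B] [IsLocalRing A] [IsLocalRing B]
  [IsNoetherianRing A] [IsNoetherianRing B] [IsLocalHom (algebraMap A B)]
  [Module.Flat A B] [Algebra.EssFiniteType A B] [Algebra.FormallyUnramified A B]

theorem etale_cplMap : letI := (cplMap A B).toAlgebra
    Algebra.Etale (Cpl A) (Cpl B) ∧ Module.Finite (Cpl A) (Cpl B) := by
  letI : Algebra (Cpl A) (Cpl B) := (cplMap A B).toAlgebra
  haveI : IsLocalHom (algebraMap (Cpl A) (Cpl B)) := isLocalHom_cplMap A B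
  haveI : IsNoetherianRing (Cpl A) := isNoetherianRing_cpl A
  haveI : IsNoetherianRing (Cpl B) := isNoetherianRing_cpl B
  haveI : IsAdicComplete (maximalIdeal (Cpl A)) (Cpl A) := isAdicComplete_cpl A
  haveI h4 : IsScalarTower A B (Cpl B) := IsScalarTower.of_algebraMap_eq fun x => rfl
  haveI h6 : IsScalarTower A (Cpl A) (Cpl B) :=
    IsScalarTower.of_algebraMap_eq fun x => (cplMap_algebraMap A B x).symm
  have hflat : Module.Flat (Cpl A) (Cpl B) := flat_cplMap A B
  have hm : (maximalIdeal (Cpl A)).map (algebraMap (Cpl A) (Cpl B)) = maximalIdeal (Cpl B) := by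
    have h1 := map_maximalIdeal_cplMap A B
    rw [Algebra.FormallyUnramified.map_maximalIdeal, ← AdicCompletion.maximalIdeal_eq_map] at h1
    exact h1
  have hcB : IsAdicComplete (maximalIdeal (Cpl A)) (Cpl B) := by
    rw [← IsAdicComplete.map_algebraMap_iff (S := Cpl B), hm]
    exact isAdicComplete_cpl B
  -- finiteness
  have hfin0 : Module.Finite A (ResidueField B) :=
    Module.Finite.trans (R := A) (ResidueField A) (ResidueField B)
  have hfin1 : Module.Finite A (ResidueField (Cpl B)) := by
    let φ : ResidueField B →ₐ[A] ResidueField (Cpl B) :=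
      { ResidueField.map (algebraMap B (Cpl B)) with
        commutes' := fun a => by
          change ResidueField.map (algebraMap B (Cpl B)) (residue B (algebraMap A B a)) = _
          rw [ResidueField.map_residue]
          rfl }
    refine Module.Finite.of_surjective φ.toLinearMap ?_
    intro x
    obtain ⟨b, hb⟩ := surjective_residue_cpl B x
    refine ⟨residue B b, ?_⟩
    rw [← hb]
    change ResidueField.map (algebraMap B (Cpl B)) (residue B b) = _
    rw [ResidueField.map_residue]
    rfl
  have hfin2 : Module.Finite (Cpl A) (ResidueField (Cpl B)) :=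
    Module.Finite.of_restrictScalars_finite A (Cpl A) (ResidueField (Cpl B))
  have hfin3 : Module.Finite (Cpl A)
      ((Cpl B) ⧸ (maximalIdeal (Cpl A) • ⊤ : Submodule (Cpl A) (Cpl B))) := by
    let ψ : (Cpl B) ⧸ (maximalIdeal (Cpl A) • ⊤ : Submodule (Cpl A) (Cpl B)) →ₗ[Cpl A]
        ResidueField (Cpl B) :=
      Submodule.liftQ _ (IsScalarTower.toAlgHom (Cpl A) (Cpl B) (ResidueField (Cpl B))).toLinearMap
        (by
          intro x hx
          rw [Ideal.smul_top_eq_map, Submodule.restrictScalars_mem, hm] at hx
          rw [LinearMap.mem_ker]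
          exact (residue_eq_zero_iff x).mpr hx)
    refine Module.Finite.of_injective ψ ?_
    rw [← LinearMap.ker_eq_bot, Submodule.ker_liftQ_eq_bot]
    intro x hx
    rw [LinearMap.mem_ker] at hx
    have hx' : x ∈ maximalIdeal (Cpl B) := (residue_eq_zero_iff x).mp hx
    rw [Ideal.smul_top_eq_map, Submodule.restrictScalars_mem, hm]
    exact hx'
  have hfin : Module.Finite (Cpl A) (Cpl B) :=
    Groth.Agent.S0544.result (Cpl A) (maximalIdeal (Cpl A)) (Cpl B) hfin3
  -- separability
  have hsep0 : Algebra.IsSeparable (ResidueField A) (ResidueField B) := inferInstance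
  let eB : ResidueField B ≃+* ResidueField (Cpl B) :=
    RingEquiv.ofBijective (ResidueField.map (algebraMap B (Cpl B))) ⟨RingHom.injective _, by
      intro x
      obtain ⟨b, hb⟩ := surjective_residue_cpl B x
      refine ⟨residue B b, ?_⟩
      rw [← hb, ResidueField.map_residue]
      rfl⟩
  let eA : ResidueField A ≃+* ResidueField (Cpl A) :=
    RingEquiv.ofBijective (ResidueField.map (algebraMap A (Cpl A))) ⟨RingHom.injective _, by
      intro x
      obtain ⟨b, hb⟩ := surjective_residue_cpl A x
      refine ⟨residue A b, ?_⟩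
      rw [← hb, ResidueField.map_residue]
      rfl⟩
  have hsep : Algebra.IsSeparable (ResidueField (Cpl A)) (ResidueField (Cpl B)) := by
    refine Algebra.IsSeparable.of_equiv_equiv eA eB ?_
    ext x
    obtain ⟨a, rfl⟩ := residue_surjective x
    change algebraMap (ResidueField (Cpl A)) (ResidueField (Cpl B))
      (ResidueField.map (algebraMap A (Cpl A)) (residue A a)) =
      ResidueField.map (algebraMap B (Cpl B)) (residue B (algebraMap A B a))
    rw [ResidueField.map_residue, ResidueField.map_residue]
    change residue (Cpl B) (algebraMap (Cpl A) (Cpl B) (algebraMap A (Cpl A) a)) = _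
    rw [← IsScalarTower.algebraMap_apply, ← IsScalarTower.algebraMap_apply]
  have hunr : Algebra.FormallyUnramified (Cpl A) (Cpl B) :=
    Algebra.FormallyUnramified.of_map_maximalIdeal hm
  haveI : Algebra.FinitePresentation (Cpl A) (Cpl B) :=
    (Algebra.FinitePresentation.of_finiteType).mp inferInstance
  exact ⟨Algebra.Etale.of_formallyUnramified_of_flat, hfin⟩

theorem isReduced_cpl [IsReduced (Cpl A)] : IsReduced (Cpl B) := by
  letI : Algebra (Cpl A) (Cpl B) := (cplMap A B).toAlgebra
  haveI := (etale_cplMap A B).1
  haveI : IsNoetherianRing (Cpl A) := isNoetherianRing_cpl A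
  exact Groth.Agent.Ega43.EtaleReduced.isReduced_of_etale (Cpl A) (Cpl B)

theorem isReduced_of_isReduced_cpl (B : Type u) [CommRing B] [IsLocalRing B] [IsNoetherianRing B]
    [IsReduced (Cpl B)] : IsReduced B := by
  haveI : Module.FaithfullyFlat B (Cpl B) := Module.FaithfullyFlat.of_flat_of_isLocalHom
  exact isReduced_of_injective (algebraMap B (Cpl B)) (FaithfulSMul.algebraMap_injective B (Cpl B))

end K151.AnRed
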