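import Mathlib.RingTheory.Flat.FaithfullyFlat.Basic
import Mathlib.RingTheory.TensorProduct.Maps

/-!
# One-cocycles for a faithfully flat extension: additive and multiplicative coefficients
-/

set_option autoImplicit false

open TensorProduct

namespace K151.Amitsur

variable {R B : Type*} [CommRing R] [CommRing B] [Algebra R B]

variable (R B) in
/-- `b ⊗ b' ↦ b ⊗ b' ⊗ 1`. -/
noncomputable abbrev p12 : B ⊗[R] B →ₐ[R] B ⊗[R] (B ⊗[R] B) :=
  Algebra.TensorProduct.map (AlgHom.id R B) Algebra.TensorProduct.includeLeft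

variable (R B) in
/-- `b ⊗ b' ↦ b ⊗ 1 ⊗ b'`. -/
noncomputable abbrev p13 : B ⊗[R] B →ₐ[R] B ⊗[R] (B ⊗[R] B) :=
  Algebra.TensorProduct.map (AlgHom.id R B) Algebra.TensorProduct.includeRight

variable (R B) in
/-- `b ⊗ b' ↦ 1 ⊗ b ⊗ b'`. -/
noncomputable abbrev p23 : B ⊗[R] B →ₐ[R] B ⊗[R] (B ⊗[R] B) :=
  Algebra.TensorProduct.includeRight

/-- Additive one-cocycles for a faithfully flat extension are coboundaries. -/
theorem exists_of_add [Module.FaithfullyFlat R B] (u : B ⊗[R] B)
    (hu : p12 R B u + p23 R B u = p13 R B u) : ∃ b : B, 1 ⊗ₜ[R] b - b ⊗ₜ[R] 1 = u := by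
  let D : B →ₗ[R] B ⊗[R] B :=
    (Algebra.TensorProduct.includeRight : B →ₐ[R] B ⊗[R] B).toLinearMap -
      (Algebra.TensorProduct.includeLeft : B →ₐ[R] B ⊗[R] B).toLinearMap
  let Φ : (B × R) →ₗ[R] B ⊗[R] B :=
    D ∘ₗ LinearMap.fst R B R - LinearMap.toSpanSingleton R _ u ∘ₗ LinearMap.snd R B R
  let K := LinearMap.ker Φ
  have hex : Function.Exact K.subtype Φ := LinearMap.exact_subtype_ker_map Φ
  have hex' := Module.Flat.lTensor_exact B hex
  let w : B ⊗[R] (B × R) := (LinearMap.inl R B R).lTensor B u + 1 ⊗ₜ (0, 1)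
  have hw : Φ.lTensor B w = 0 := by
    have h1 : ∀ β : B ⊗[R] B, D.lTensor B β = p13 R B β - p12 R B β := by
      intro β
      induction β with
      | zero => simp
      | add x y hx hy => rw [map_add, hx, hy, map_add, map_add]; abel
      | tmul x y => simp [D]
    have h2 : Φ ∘ₗ LinearMap.inl R B R = D := by
      ext b
      simp [Φ]
    have h3 : Φ (0, 1) = - u := by simp [Φ]
    rw [map_add, ← LinearMap.comp_apply, ← LinearMap.lTensor_comp, h2, h1, LinearMap.lTensor_tmul,
      h3, tmul_neg, ← hu]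
    change _ + _ - _ + -(p23 R B u) = 0
    abel
  obtain ⟨κ, hκ⟩ := (hex' w).mp hw
  have hs : Function.Surjective ((LinearMap.snd R B R ∘ₗ K.subtype).lTensor B) := by
    have h1 : LinearMap.range ((LinearMap.snd R B R ∘ₗ K.subtype).baseChange B) = ⊤ := by
      have h2 : (1 : B) ⊗ₜ[R] (1 : R) ∈
          LinearMap.range ((LinearMap.snd R B R ∘ₗ K.subtype).baseChange B) := by
        refine ⟨κ, ?_⟩
        change ((LinearMap.snd R B R ∘ₗ K.subtype).lTensor B) κ = _
        rw [LinearMap.lTensor_comp, LinearMap.comp_apply, hκ, map_add, ← LinearMap.comp_apply,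
          ← LinearMap.lTensor_comp]
        have h3 : LinearMap.snd R B R ∘ₗ LinearMap.inl R B R = 0 := by ext; simp
        rw [h3]
        simp
      rw [eq_top_iff]
      rintro x -
      induction x with
      | zero => exact zero_mem _
      | add x y hx hy => exact add_mem hx hy
      | tmul x y =>
        have h3 : x ⊗ₜ[R] y = (y • x) • ((1 : B) ⊗ₜ[R] (1 : R)) := by
          rw [smul_tmul', smul_eq_mul, mul_one, smul_tmul, smul_eq_mul, mul_one]
        rw [h3]
        exact Submodule.smul_mem _ _ h2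
    intro x
    have h4 : x ∈ LinearMap.range ((LinearMap.snd R B R ∘ₗ K.subtype).baseChange B) :=
      h1 ▸ Submodule.mem_top
    exact h4
  rw [Module.FaithfullyFlat.lTensor_surjective_iff_surjective] at hs
  obtain ⟨⟨⟨b, c⟩, hb⟩, hc⟩ := hs 1
  change c = 1 at hc
  subst hc
  refine ⟨b, ?_⟩
  have hb' : Φ (b, 1) = 0 := hb
  simp only [Φ, D, LinearMap.sub_apply, LinearMap.comp_apply, LinearMap.fst_apply,
    LinearMap.snd_apply, LinearMap.toSpanSingleton_apply, one_smul, AlgHom.toLinearMap_apply,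
    Algebra.TensorProduct.includeRight_apply, Algebra.TensorProduct.includeLeft_apply] at hb'
  exact sub_eq_zero.mp hb'

/-- The solutions `k` of `1 ⊗ k = u (k ⊗ 1)`, for a multiplicative one-cocycle `u` of a flat
extension, generate the unit ideal. -/
theorem span_eq_top [Module.Flat R B] (u : B ⊗[R] B) (hunit : IsUnit u)
    (hu : p12 R B u * p23 R B u = p13 R B u) :
    Ideal.span {k : B | (1 : B) ⊗ₜ[R] k = u * (k ⊗ₜ[R] (1 : B))} = ⊤ := by
  let Φ : B →ₗ[R] B ⊗[R] B :=
    (Algebra.TensorProduct.includeRight : B →ₐ[R] B ⊗[R] B).toLinearMap -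
      LinearMap.mulLeft R u ∘ₗ
        (Algebra.TensorProduct.includeLeft : B →ₐ[R] B ⊗[R] B).toLinearMap
  let K := LinearMap.ker Φ
  have hex : Function.Exact K.subtype Φ := LinearMap.exact_subtype_ker_map Φ
  have hex' := Module.Flat.lTensor_exact B hex
  have hw : Φ.lTensor B u = 0 := by
    have h1 : ∀ β : B ⊗[R] B, Φ.lTensor B β = p13 R B β - p23 R B u * p12 R B β := by
      intro β
      induction β with
      | zero => simp
      | add x y hx hy => rw [map_add, hx, hy, map_add, map_add]; ring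
      | tmul x y => simp [Φ]
    rw [h1, ← hu]
    ring
  obtain ⟨κ, hκ⟩ := (hex' u).mp hw
  let μ : B ⊗[R] B →ₐ[R] B := Algebra.TensorProduct.lmul' R
  have hμ1 : μ u = 1 := by
    let m3 : B ⊗[R] (B ⊗[R] B) →ₐ[R] B := μ.comp (Algebra.TensorProduct.map (AlgHom.id R B) μ)
    have e12 : m3.comp (p12 R B) = μ := by ext <;> simp [m3, μ]
    have e13 : m3.comp (p13 R B) = μ := by ext <;> simp [m3, μ]
    have e23 : m3.comp (p23 R B) = μ := by ext <;> simp [m3, μ]
    have h2 := congrArg m3 hu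
    rw [map_mul] at h2
    change m3.comp (p12 R B) u * m3.comp (p23 R B) u = m3.comp (p13 R B) u at h2
    rw [e12, e13, e23] at h2
    exact (hunit.map μ).mul_left_cancel (by rw [h2, mul_one])
  have key : ∀ κ, μ ((K.subtype.lTensor B) κ) ∈
      Ideal.span {k : B | (1 : B) ⊗ₜ[R] k = u * (k ⊗ₜ[R] (1 : B))} := by
    intro κ
    induction κ with
    | zero => simp
    | add x y hx hy => rw [map_add, map_add]; exact add_mem hx hy
    | tmul x y =>
      obtain ⟨k, hk⟩ := y
      have hk' : (1 : B) ⊗ₜ[R] k = u * (k ⊗ₜ[R] (1 : B)) := by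
        have : Φ k = 0 := hk
        simpa [Φ, sub_eq_zero] using this
      have h3 : μ ((K.subtype.lTensor B) (x ⊗ₜ ⟨k, hk⟩)) = x * k := by simp [μ]
      rw [h3]
      exact Ideal.mul_mem_left _ _ (Ideal.subset_span hk')
  have h4 := key κ
  rw [hκ, hμ1] at h4
  exact (Ideal.eq_top_iff_one _).mpr h4

end K151.Amitsur
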