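import Groth.Agent.NonAbH1.K554.Fpqc
import Groth.Agent.NonAbH1.K551.Tors
import Groth.Agent.Picfga.FiniteDescent

/-!
# fpqc torsors: surjectivity, flatness, affineness; fpqc torsors and quasi-compact structure morphisms
-/

set_option autoImplicit false
universe u

open CategoryTheory CategoryTheory.Limits MonoidalCategory CartesianMonoidalCategory MonObj GrpObj
open AlgebraicGeometry

namespace K151.TorsFpqc

theorem exists_mem_of_fpqc {S : Scheme.{u}} {R : Presieve S} (hR : R ∈ Scheme.fpqcPrecoverage S)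
    (s : S) : ∃ (T : Scheme.{u}) (f : T ⟶ S) (_ : R f) (t : T), f t = s := by
  obtain ⟨I, Y, f, rfl⟩ := R.exists_eq_ofArrows
  have h : Presieve.ofArrows Y f ∈ Scheme.precoverage @Flat S := hR.2
  rw [Scheme.ofArrows_mem_precoverage_iff] at h
  obtain ⟨i, t, ht⟩ := h.1 s
  exact ⟨_, f i, ⟨i⟩, t, ht⟩

variable {S : Scheme.{u}} {G X : Over S} [GrpObj G] {a : AlgGrp.Action G X}

omit [GrpObj G] in
theorem surjective_of_isLocallyTrivialFor
    (h : NonAbH1.IsLocallyTrivialFor Scheme.fpqcPrecoverage X) : Surjective X.hom := by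
  obtain ⟨R, hR, hsec⟩ := h
  refine ⟨fun s => ?_⟩
  obtain ⟨T, f, hf, t, rfl⟩ := exists_mem_of_fpqc hR s
  obtain ⟨σ, hσ⟩ := hsec f hf
  exact ⟨σ t, by rw [← Scheme.Hom.comp_apply, hσ]⟩

theorem flat_of_torsor (ha : NonAbH1.IsTorsorFor Scheme.fpqcPrecoverage a) [Flat G.hom] :
    Flat X.hom := K554.Fpqc.prop_of_isTorsorFor @Flat ha inferInstance

theorem quasiCompact_of_torsor (ha : NonAbH1.IsTorsorFor Scheme.fpqcPrecoverage a)
    [QuasiCompact G.hom] : QuasiCompact X.hom :=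
  K554.Fpqc.prop_of_isTorsorFor @QuasiCompact ha inferInstance

theorem isAffineHom_of_torsor (ha : NonAbH1.IsTorsorFor Scheme.fpqcPrecoverage a)
    [IsAffineHom G.hom] : IsAffineHom X.hom :=
  K554.Fpqc.prop_of_isTorsorFor @IsAffineHom ha inferInstance

/-- A surjective flat quasi-compact morphism acquires a section over itself. -/
theorem isLocallyTrivialFor_of_flat [Surjective X.hom] [Flat X.hom] [QuasiCompact X.hom] :
    NonAbH1.IsLocallyTrivialFor Scheme.fpqcPrecoverage X :=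
  ⟨Presieve.singleton X.hom, X.hom.singleton_mem_fpqcPrecoverage, by
    rintro T f ⟨⟩
    exact ⟨𝟙 _, Category.id_comp _⟩⟩

theorem isTorsorFor_fpqc_iff [Flat G.hom] [QuasiCompact G.hom] (a : AlgGrp.Action G X) :
    NonAbH1.IsTorsorFor Scheme.fpqcPrecoverage a ↔
      (NonAbH1.IsPseudoTorsorSch a ∧ Surjective X.hom ∧ Flat X.hom ∧ QuasiCompact X.hom) := by
  refine ⟨fun h => ⟨h.1, surjective_of_isLocallyTrivialFor h.2, flat_of_torsor h,
    quasiCompact_of_torsor h⟩, fun ⟨h1, h2, h3, h4⟩ => ⟨h1, isLocallyTrivialFor_of_flat⟩⟩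

theorem isPseudoTorsorSch_of_equivIso {X' : Over S} {a' : AlgGrp.Action G X'}
    (e : NonAbH1.EquivIso a a') (ha : NonAbH1.IsPseudoTorsorSch a) :
    NonAbH1.IsPseudoTorsorSch a' := by
  apply K551.Tors.isPseudoTorsorSch_of_points
  intro Y x x'
  have h : ∀ (g : Y ⟶ G) (x : Y ⟶ X), Groth.Agent.Books.BorelOrb.sm a g x ≫ e.iso.hom =
      Groth.Agent.Books.BorelOrb.sm a' g (x ≫ e.iso.hom) := fun g x => K551.Tors.equivIso_sm e g x
  refine ⟨K551.Tors.dif ha (x ≫ e.iso.inv) (x' ≫ e.iso.inv), ?_, fun g hg => ?_⟩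
  · have h1 := h (K551.Tors.dif ha (x ≫ e.iso.inv) (x' ≫ e.iso.inv)) (x' ≫ e.iso.inv)
    rw [K551.Tors.sm_dif, Category.assoc, Category.assoc, e.iso.inv_hom_id, Category.comp_id,
      Category.comp_id] at h1
    exact h1.symm
  · symm
    apply K551.Tors.dif_eq
    rw [← cancel_mono e.iso.hom, h, Category.assoc, Category.assoc, e.iso.inv_hom_id,
      Category.comp_id, Category.comp_id]
    exact hg

theorem nonempty_equivIso_trivialAction_iff (a : AlgGrp.Action G X) :
    Nonempty (NonAbH1.EquivIso (NonAbH1.trivialAction G) a) ↔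
      (NonAbH1.IsPseudoTorsorSch a ∧ NonAbH1.HasSectionOver X (𝟙 S)) := by
  refine ⟨fun ⟨e⟩ => ⟨isPseudoTorsorSch_of_equivIso e
    (NonAbH1.isPseudoTorsorSch_trivialAction G), K551.Tors.hasSectionOver_of_equivIso_trivial e⟩,
    fun h => K551.Tors.nonempty_equivIso_trivial h.1 h.2⟩

end K151.TorsFpqc
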