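import Groth.Agent.S1488
import Groth.Agent.S1382
import Groth.Agent.S1383
import Groth.Agent.S0440
import Groth.Agent.S0075
import Groth.Agent.UnramB.SmoothLoc
import Groth.Agent.Smoothlim.Glue2

/-!
# Lifting smooth affine schemes along nil-immersions
-/

set_option autoImplicit false
set_option linter.style.haveILetI false
universe u

open AlgebraicGeometry CategoryTheory Limits
open Groth.Agent.Smoothlim.Glue2

namespace K151.NilLift

section lifting

/-- Formally smooth morphisms have the lifting property against nilpotent thickenings of affine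
schemes. -/
theorem exists_lift_surj {X Y : Scheme.{u}} {f : X ⟶ Y} (hf : MoreMor.IsFormallySmoothHom f)
    (n : ℕ) : ∀ {A B : CommRingCat.{u}} (π : A ⟶ B) (_ : Function.Surjective π.hom)
    (_ : RingHom.ker π.hom ^ (2 ^ n) = ⊥) (a : Spec B ⟶ X) (b : Spec A ⟶ Y)
    (_ : Spec.map π ≫ b = a ≫ f), ∃ l : Spec A ⟶ X, Spec.map π ≫ l = a ∧ l ≫ f = b := by
  induction n with
  | zero =>
    intro A B π hπ hn a b h
    rw [pow_zero, pow_one] at hn
    have hbij : Function.Bijective π.hom := ⟨(RingHom.injective_iff_ker_eq_bot _).mpr hn, hπ⟩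
    have : IsIso π := (ConcreteCategory.isIso_iff_bijective π).mpr hbij
    refine ⟨inv (Spec.map π) ≫ a, by rw [IsIso.hom_inv_id_assoc], ?_⟩
    rw [Category.assoc, ← h, IsIso.inv_hom_id_assoc]
  | succ n ih =>
    intro A B π hπ hn a b h
    let J : Ideal A := RingHom.ker π.hom ^ (2 ^ n)
    have hJ : J ^ 2 = ⊥ := by
      rw [← hn, pow_succ 2 n, pow_mul]
    have hJK : J ≤ RingHom.ker π.hom := Ideal.pow_le_self (by positivity)
    let q : A →+* A ⧸ J := Ideal.Quotient.mk J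
    let π' : (A ⧸ J) →+* B := Ideal.Quotient.lift J π.hom fun x hx => hJK hx
    have hcomp : π'.comp q = π.hom := by
      ext x
      rfl
    have hπ' : Function.Surjective π' := by
      intro y
      obtain ⟨x, rfl⟩ := hπ y
      exact ⟨q x, rfl⟩
    have hker : RingHom.ker π' = (RingHom.ker π.hom).map q := by
      apply le_antisymm
      · intro x hx
        obtain ⟨y, rfl⟩ := Ideal.Quotient.mk_surjective x
        exact Ideal.mem_map_of_mem _ hx
      · rw [Ideal.map_le_iff_le_comap]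
        intro x hx
        exact hx
    have hn' : RingHom.ker (CommRingCat.ofHom π').hom ^ (2 ^ n) = ⊥ := by
      change RingHom.ker π' ^ (2 ^ n) = ⊥
      rw [hker, ← Ideal.map_pow]
      exact Ideal.map_quotient_self J
    have hfac : CommRingCat.ofHom q ≫ CommRingCat.ofHom π' = π := by
      ext x
      rfl
    obtain ⟨l₁, hl₁, hl₁'⟩ := ih (A := CommRingCat.of (A ⧸ J)) (CommRingCat.ofHom π') hπ' hn' a
      (Spec.map (CommRingCat.ofHom q) ≫ b) (by
        rw [← Spec.map_comp_assoc, hfac, h])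
    obtain ⟨l, hl, hl'⟩ := hf A J hJ l₁ b hl₁'.symm
    refine ⟨l, ?_, hl'⟩
    rw [← hl₁, ← hl, ← Spec.map_comp_assoc]
    exact congrArg (fun t => Spec.map t ≫ l) hfac.symm

/-- Smooth morphisms have the lifting property against thickenings of Noetherian affine schemes. -/
theorem exists_lift_affine {X Y U T : Scheme.{u}} (f : X ⟶ Y) [Smooth f] (j : U ⟶ T)
    [IsClosedImmersion j] [Surjective j] [IsAffine T] [IsNoetherian T] (a : U ⟶ X) (b : T ⟶ Y)
    (h : j ≫ b = a ≫ f) : ∃ l : T ⟶ X, j ≫ l = a ∧ l ≫ f = b := by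
  have hf := ((Groth.Agent.S1488.result f).mp inferInstance).2
  have : IsAffine U := isAffine_of_isAffineHom j
  have hsurj : Function.Surjective j.appTop.hom := by
    exact (IsClosedImmersion.isAffine_surjective_of_isAffine j).2
  have hnoeth : IsNoetherianRing Γ(T, ⊤) :=
    IsLocallyNoetherian.component_noetherian ⟨⊤, isAffineOpen_top T⟩
  have hnat : j ≫ T.isoSpec.hom = U.isoSpec.hom ≫ Spec.map j.appTop :=
    (Scheme.isoSpec_hom_naturality j).symm
  have hs : Surjective (Spec.map j.appTop) := by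
    have : Spec.map j.appTop = U.isoSpec.inv ≫ j ≫ T.isoSpec.hom := by
      rw [hnat, Iso.inv_hom_id_assoc]
    rw [this]
    infer_instance
  have hnil : RingHom.ker j.appTop.hom ≤ nilradical Γ(T, ⊤) := by
    have h1 : PrimeSpectrum.zeroLocus (RingHom.ker j.appTop.hom : Set Γ(T, ⊤)) = Set.univ := by
      rw [← range_comap_of_surjective _ _ hsurj]
      exact hs.surj.range_eq
    have h2 := (PrimeSpectrum.zeroLocus_eq_univ_iff _).mp h1
    exact h2
  obtain ⟨m, hm⟩ := IsNoetherianRing.isNilpotent_nilradical Γ(T, ⊤)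
  have hker : RingHom.ker j.appTop.hom ^ (2 ^ m) = ⊥ := by
    rw [eq_bot_iff]
    calc RingHom.ker j.appTop.hom ^ (2 ^ m) ≤ RingHom.ker j.appTop.hom ^ m :=
          Ideal.pow_le_pow_right Nat.lt_two_pow_self.le
      _ ≤ nilradical Γ(T, ⊤) ^ m := Ideal.pow_right_mono hnil m
      _ = ⊥ := hm
  obtain ⟨l, hl, hl'⟩ := exists_lift_surj hf m j.appTop hsurj hker (U.isoSpec.inv ≫ a)
    (T.isoSpec.inv ≫ b) (by
      rw [Category.assoc, ← h, ← cancel_epi U.isoSpec.hom, ← Category.assoc, ← hnat]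
      simp)
  refine ⟨T.isoSpec.hom ≫ l, ?_, ?_⟩
  · rw [reassoc_of% hnat, hl]
    simp
  · rw [Category.assoc, hl']
    simp

end lifting

/-- `g : X ⟶ Y` together with `j : U ⟶ X` is a smooth lift of `f : U ⟶ Y₀` along `i`. -/
structure IsLift {Y₀ Y U X : Scheme.{u}} (i : Y₀ ⟶ Y) (f : U ⟶ Y₀) (j : U ⟶ X) (g : X ⟶ Y) :
    Prop where
  smooth : Smooth g
  isPullback : IsPullback j f g i

/-- `f : U ⟶ Y₀` has a smooth lift along `i`. -/
def HasLift {Y₀ Y U : Scheme.{u}} (i : Y₀ ⟶ Y) (f : U ⟶ Y₀) : Prop :=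
  ∃ (X : Scheme.{u}) (j : U ⟶ X) (g : X ⟶ Y), IsLift i f j g

section

variable {Y₀ Y : Scheme.{u}} (i : Y₀ ⟶ Y) [IsClosedImmersion i] [Surjective i]

theorem exists_iso [IsLocallyNoetherian Y] {U X X' : Scheme.{u}} [IsAffine U] {f : U ⟶ Y₀}
    {j : U ⟶ X} {g : X ⟶ Y} {j' : U ⟶ X'} {g' : X' ⟶ Y} (h : IsLift i f j g)
    (h' : IsLift i f j' g') : ∃ φ : X ≅ X', φ.hom ≫ g' = g ∧ j ≫ φ.hom = j' := by
  have := h.smooth
  have := h'.smooth
  have hj : IsClosedImmersion j := MorphismProperty.of_isPullback h.isPullback.flip inferInstance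
  have hj2 : Surjective j := MorphismProperty.of_isPullback h.isPullback.flip inferInstance
  have : IsAffine X := Groth.Agent.S0440.result j hj2.surj
  have : IsLocallyNoetherian X := LocallyOfFiniteType.isLocallyNoetherian g
  have : IsNoetherian X := {}
  obtain ⟨φ, h1, h2⟩ := exists_lift_affine g' j j' g
    (by rw [h.isPullback.w, h'.isPullback.w])
  have h3 : IsPullback j (𝟙 U ≫ f) (φ ≫ g') i := by
    rw [h2, Category.id_comp]
    exact h.isPullback
  have : Smooth (φ ≫ g') := by rw [h2]; infer_instance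
  have h4 : IsIso φ := (Groth.Agent.S1382.result j j' i (𝟙 U) φ f g' ⟨inferInstance, inferInstance⟩
    h3 h'.isPullback (by rw [h1, Category.id_comp])).mp inferInstance
  exact ⟨asIso φ, h2, h1⟩

end

theorem exists_etale {U X U' : Scheme.{u}} (j : U ⟶ X) [IsClosedImmersion j] [Surjective j]
    (a : U' ⟶ U) [Etale a] : ∃ (X' : Scheme.{u}) (b : X' ⟶ X) (j' : U' ⟶ X'), Etale b ∧
      IsPullback j' a b j := by
  have := Groth.Agent.S0075.result j
  let V : U.Etale := MorphismProperty.Over.mk ⊤ a (inferInstanceAs (Etale a))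
  let W := (EtCoh.bc j).objPreimage V
  let e : (EtCoh.bc j).obj W ≅ V := (EtCoh.bc j).objObjPreimageIso V
  have hW : Etale W.hom := W.prop
  have h1 : IsPullback (pullback.fst W.hom j) (pullback.snd W.hom j) W.hom j :=
    IsPullback.of_hasPullback _ _
  let e' : U' ≅ pullback W.hom j :=
    ((MorphismProperty.Over.forget _ _ _ ⋙ Over.forget _).mapIso e).symm
  have he : e'.hom ≫ pullback.snd W.hom j = a := by
    exact MorphismProperty.Over.w e.inv
  refine ⟨W.left, W.hom, e'.hom ≫ pullback.fst W.hom j, hW, ?_⟩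
  exact IsPullback.of_iso h1 e'.symm (Iso.refl _) (Iso.refl _) (Iso.refl _)
    (by simp) (by simp [← he]) (by simp) (by simp)

theorem exists_open {U X U' : Scheme.{u}} (j : U ⟶ X) [IsClosedImmersion j] [Surjective j]
    (a : U' ⟶ U) [IsOpenImmersion a] : ∃ (X' : Scheme.{u}) (b : X' ⟶ X) (j' : U' ⟶ X'),
      IsOpenImmersion b ∧ IsPullback j' a b j := by
  obtain ⟨X', b, j', hb, h⟩ := exists_etale j a
  refine ⟨X', b, j', ?_, h⟩
  have h1 : IsPullback j' (a ≫ 𝟙 U) (b ≫ 𝟙 X) j := by simpa using h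
  have h2 : IsPullback j (𝟙 U) (𝟙 X) j := IsPullback.of_vert_isIso ⟨by simp⟩
  have : Etale (b ≫ 𝟙 X) := by rw [Category.comp_id]; exact hb
  exact (Groth.Agent.S1383.result j' j j a b (𝟙 U) (𝟙 X) ⟨inferInstance, inferInstance⟩ h1 h2
    h.w).mp inferInstance

theorem smooth_affineSpace (n : Type u) [Finite n] (S : Scheme.{u}) : Smooth (𝔸(n; S) ↘ S) := by
  wlog hS : ∃ R, S = Spec R
  · refine (IsZariskiLocalAtTarget.iff_of_openCover (P := @Smooth) S.affineCover).mpr ?_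
    intro i
    have := this (n := n) (S.affineCover.X i) ⟨_, rfl⟩
    rwa [← (AffineSpace.isPullback_map (n := n) (S.affineCover.f i)).isoPullback_hom_snd,
      MorphismProperty.cancel_left_of_respectsIso (P := @Smooth)] at this
  obtain ⟨R, rfl⟩ := hS
  rw [← MorphismProperty.cancel_left_of_respectsIso (P := @Smooth)
    (AffineSpace.SpecIso n R).inv, AffineSpace.SpecIso_inv_over]
  rw [HasRingHomProperty.Spec_iff (P := @Smooth)]
  change (algebraMap R (MvPolynomial n R)).Smooth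
  rw [RingHom.smooth_algebraMap]
  exact ⟨inferInstance, inferInstance⟩

section exist

variable {Y₀ Y : Scheme.{u}} (i : Y₀ ⟶ Y) [IsClosedImmersion i] [Surjective i]

theorem IsLift.etale {U U' X : Scheme.{u}} {f : U ⟶ Y₀} {j : U ⟶ X} {g : X ⟶ Y}
    (h : IsLift i f j g) (a : U' ⟶ U) [Etale a] : HasLift i (a ≫ f) := by
  have := h.smooth
  have hj : IsClosedImmersion j := MorphismProperty.of_isPullback h.isPullback.flip inferInstance
  have hj2 : Surjective j := MorphismProperty.of_isPullback h.isPullback.flip inferInstance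
  obtain ⟨X', b, j', hb, h'⟩ := exists_etale j a
  exact ⟨X', j', b ≫ g, inferInstance, h'.paste_vert h.isPullback⟩

theorem IsLift.open {U U' X : Scheme.{u}} {f : U ⟶ Y₀} {j : U ⟶ X} {g : X ⟶ Y}
    (h : IsLift i f j g) (a : U' ⟶ U) [IsOpenImmersion a] :
    ∃ (X' : Scheme.{u}) (b : X' ⟶ X) (j' : U' ⟶ X'),
      IsOpenImmersion b ∧ IsPullback j' a b j ∧ IsLift i (a ≫ f) j' (b ≫ g) := by
  have := h.smooth
  have hj : IsClosedImmersion j := MorphismProperty.of_isPullback h.isPullback.flip inferInstance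
  have hj2 : Surjective j := MorphismProperty.of_isPullback h.isPullback.flip inferInstance
  obtain ⟨X', b, j', hb, h'⟩ := exists_open j a
  exact ⟨X', b, j', hb, h', inferInstance, h'.paste_vert h.isPullback⟩

theorem exists_local {X₀ : Scheme.{u}} (f : X₀ ⟶ Y₀) [Smooth f] (x : X₀) :
    ∃ U : X₀.Opens, x ∈ U ∧ HasLift i (U.ι ≫ f) := by
  obtain ⟨U, V, e, n, g, hx, hU, hV, hg, hgf⟩ :=
    Groth.Agent.UnramB.SmoothLoc.exists_etale_affineSpace f x
  refine ⟨U, hx, ?_⟩
  have h1 : IsPullback (AffineSpace.map (ULift.{u} (Fin n)) i)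
      (𝔸(ULift.{u} (Fin n); Y₀) ↘ Y₀) (𝔸(ULift.{u} (Fin n); Y) ↘ Y) i :=
    AffineSpace.isPullback_map i
  have h2 : IsLift i (𝔸(ULift.{u} (Fin n); Y₀) ↘ Y₀) (AffineSpace.map (ULift.{u} (Fin n)) i)
      (𝔸(ULift.{u} (Fin n); Y) ↘ Y) := ⟨smooth_affineSpace _ _, h1⟩
  have hV' : IsOpenImmersion (AffineSpace.map (ULift.{u} (Fin n)) V.ι) :=
    MorphismProperty.of_isPullback (AffineSpace.isPullback_map (n := ULift.{u} (Fin n)) V.ι).flip
      inferInstance
  have h3 : U.ι ≫ f = (g ≫ AffineSpace.map (ULift.{u} (Fin n)) V.ι) ≫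
      (𝔸(ULift.{u} (Fin n); Y₀) ↘ Y₀) := by
    rw [Category.assoc, AffineSpace.map_over, reassoc_of% hgf]
    simp
  rw [h3]
  exact h2.etale i _

variable [IsLocallyNoetherian Y]

theorem HasLift.glue {U₁₂ U₁ U₂ U : Scheme.{u}} {i₁ : U₁₂ ⟶ U₁} {i₂ : U₁₂ ⟶ U₂} {j₁ : U₁ ⟶ U}
    {j₂ : U₂ ⟶ U} (hg : IsGlue i₁ i₂ j₁ j₂) [IsAffine U₁₂] (f : U ⟶ Y₀)
    (h₁ : HasLift i (j₁ ≫ f)) (h₂ : HasLift i (j₂ ≫ f)) : HasLift i f := by
  have hj₁ := hg.open₁
  have hj₂ := hg.open₂
  have hi₁ : IsOpenImmersion i₁ := MorphismProperty.of_isPullback hg.isPullback.flip hj₂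
  have hi₂ : IsOpenImmersion i₂ := MorphismProperty.of_isPullback hg.isPullback hj₁
  obtain ⟨X₁, J₁, g₁, H₁⟩ := h₁
  obtain ⟨X₂, J₂, g₂, H₂⟩ := h₂
  obtain ⟨X₁', b₁, J₁', hb₁, sq₁, H₁'⟩ := H₁.open i i₁
  obtain ⟨X₂', b₂, J₂', hb₂, sq₂, H₂'⟩ := H₂.open i i₂
  have hw : i₂ ≫ j₂ ≫ f = i₁ ≫ j₁ ≫ f := by rw [← reassoc_of% hg.isPullback.w]
  rw [hw] at H₂'
  obtain ⟨φ, hφ, hφ'⟩ := exists_iso i H₁' H₂'
  obtain ⟨X, k₁, k₂, hX⟩ := exists_isGlue b₁ (φ.hom ≫ b₂)
  have hk₁ := hX.open₁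
  have hk₂ := hX.open₂
  have sq₂' : IsPullback J₁' i₂ (φ.hom ≫ b₂) J₂ :=
    sq₂.of_iso (Iso.refl _) φ.symm (Iso.refl _) (Iso.refl _) (by simp [← hφ']) (by simp)
      (by simp) (by simp)
  obtain ⟨g, hgg₁, hgg₂⟩ := hX.exists_desc g₁ g₂ (by rw [Category.assoc, hφ])
  obtain ⟨J, hJ₁, hJ₂⟩ := hg.exists_desc (J₁ ≫ k₁) (J₂ ≫ k₂) (by
    rw [← reassoc_of% sq₁.w, ← reassoc_of% sq₂'.w]
    congr 1
    exact hX.isPullback.w.trans (Category.assoc _ _ _))
  have s₁ := H₁.smooth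
  have s₂ := H₂.smooth
  refine ⟨X, J, g, hX.of_source @Smooth g (by rw [hgg₁]; infer_instance)
    (by rw [hgg₂]; infer_instance), ?_⟩
  have p₁ : IsPullback j₁ J₁ J k₁ := IsGlue.isPullback_of_isPullback hg hX J₁' J₁ J₂ J sq₂'.flip
    hJ₁ hJ₂
  have p₂ : IsPullback j₂ J₂ J k₂ := IsGlue.isPullback_of_isPullback hg.swap hX.swap J₁' J₂ J₁ J
    sq₁.flip hJ₂ hJ₁
  refine Scheme.isPullback_of_openCover J f g i hX.openCover fun b => ?_
  cases b
  · change IsPullback (pullback.snd J k₂) (pullback.fst J k₂ ≫ f) (k₂ ≫ g) i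
    have := H₂.isPullback
    rw [hgg₂]
    exact this.of_iso p₂.isoPullback (Iso.refl _) (Iso.refl _) (Iso.refl _) (by simp) (by simp)
      (by simp) (by simp)
  · change IsPullback (pullback.snd J k₁) (pullback.fst J k₁ ≫ f) (k₁ ≫ g) i
    have := H₁.isPullback
    rw [hgg₁]
    exact this.of_iso p₁.isoPullback (Iso.refl _) (Iso.refl _) (Iso.refl _) (by simp) (by simp)
      (by simp) (by simp)

omit [IsLocallyNoetherian Y] in
theorem HasLift.open {U U' : Scheme.{u}} {f : U ⟶ Y₀} (h : HasLift i f) (a : U' ⟶ U)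
    [IsOpenImmersion a] : HasLift i (a ≫ f) := by
  obtain ⟨X, j, g, h⟩ := h
  obtain ⟨X', b, j', -, -, h'⟩ := h.open i a
  exact ⟨X', j', _, h'⟩

omit [IsLocallyNoetherian Y] in
theorem HasLift.mono {X₀ : Scheme.{u}} {f : X₀ ⟶ Y₀} {U V : X₀.Opens} (hUV : U ≤ V)
    (h : HasLift i (V.ι ≫ f)) : HasLift i (U.ι ≫ f) := by
  have := h.open i (X₀.homOfLE hUV)
  rwa [Scheme.homOfLE_ι_assoc] at this

theorem HasLift.sup {X₀ : Scheme.{u}} {f : X₀ ⟶ Y₀} {U V : X₀.Opens} (hUV : IsAffineOpen (U ⊓ V))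
    (h₁ : HasLift i (U.ι ≫ f)) (h₂ : HasLift i (V.ι ≫ f)) : HasLift i ((U ⊔ V).ι ≫ f) := by
  have hg : IsGlue (X₀.homOfLE (inf_le_left : U ⊓ V ≤ U)) (X₀.homOfLE (inf_le_right : U ⊓ V ≤ V))
      (X₀.homOfLE (le_sup_left : U ≤ U ⊔ V)) (X₀.homOfLE (le_sup_right : V ≤ U ⊔ V)) := by
    refine ⟨isPullback_opens_inf_le _ _, inferInstance, inferInstance, ?_⟩
    rintro ⟨x, hx⟩
    rcases hx with hx | hx
    · exact Or.inl ⟨⟨x, hx⟩, Subtype.ext (X₀.homOfLE_apply le_sup_left ⟨x, hx⟩)⟩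
    · exact Or.inr ⟨⟨x, hx⟩, Subtype.ext (X₀.homOfLE_apply le_sup_right ⟨x, hx⟩)⟩
  have : IsAffine (U ⊓ V : X₀.Opens).toScheme := hUV
  refine HasLift.glue i hg _ ?_ ?_
  · rwa [Scheme.homOfLE_ι_assoc]
  · rwa [Scheme.homOfLE_ι_assoc]

omit [IsLocallyNoetherian Y] [Surjective i] in
theorem hasLift_of_isEmpty {U : Scheme.{u}} [IsEmpty U] (f : U ⟶ Y₀) : HasLift i f := by
  refine ⟨U, 𝟙 U, f ≫ i, inferInstance, ⟨⟨by simp⟩, ⟨PullbackCone.IsLimit.mk _ (fun s => s.fst)
    (fun s => by simp) (fun s => ?_) (fun s m h1 h2 => by simpa using h1)⟩⟩⟩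
  rw [← cancel_mono i]
  simpa using s.condition

/-- Existence of smooth lifts of affine schemes. -/
theorem hasLift {X₀ : Scheme.{u}} [IsAffine X₀] (f : X₀ ⟶ Y₀) [Smooth f] : HasLift i f := by
  let S : Set Γ(X₀, ⊤) := {r | HasLift i ((X₀.basicOpen r).ι ≫ f)}
  have hS : Ideal.span S = ⊤ := by
    rw [← (isAffineOpen_top X₀).self_le_iSup_basicOpen_iff]
    intro x _
    obtain ⟨U, hxU, hU⟩ := exists_local i f x
    obtain ⟨r, hr, hxr⟩ := (isAffineOpen_top X₀).exists_basicOpen_le ⟨x, hxU⟩ trivial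
    exact TopologicalSpace.Opens.mem_iSup.mpr ⟨⟨r, hU.mono i hr⟩, hxr⟩
  have key : ∀ r ∈ Ideal.span S, HasLift i ((X₀.basicOpen r).ι ≫ f) := by
    intro r hr
    induction hr using Submodule.span_induction with
    | mem x hx => exact hx
    | zero =>
      have : IsEmpty (X₀.basicOpen (0 : Γ(X₀, ⊤))).toScheme := by
        rw [Scheme.basicOpen_zero]
        exact ⟨fun x => x.2⟩
      exact hasLift_of_isEmpty i _
    | add a b _ _ ha hb =>
      have e : X₀.basicOpen (a + b) = X₀.basicOpen ((a + b) * a) ⊔ X₀.basicOpen ((a + b) * b) := by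
        apply le_antisymm
        · intro x hx
          by_contra hcon
          have h1 : x ∉ X₀.basicOpen a := fun h => hcon (Or.inl (by
            rw [Scheme.basicOpen_mul]; exact ⟨hx, h⟩))
          have h2 : x ∉ X₀.basicOpen b := fun h => hcon (Or.inr (by
            rw [Scheme.basicOpen_mul]; exact ⟨hx, h⟩))
          have hx' := (Scheme.mem_basicOpen X₀ (a + b) x (TopologicalSpace.Opens.mem_top x)).mp hx
          have h1' := fun h => h1 ((Scheme.mem_basicOpen X₀ a x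
            (TopologicalSpace.Opens.mem_top x)).mpr h)
          have h2' := fun h => h2 ((Scheme.mem_basicOpen X₀ b x
            (TopologicalSpace.Opens.mem_top x)).mpr h)
          rw [map_add] at hx'
          exact (IsLocalRing.isUnit_or_isUnit_of_isUnit_add hx').elim h1' h2'
        · rw [Scheme.basicOpen_mul, Scheme.basicOpen_mul]
          exact sup_le inf_le_left inf_le_left
      rw [e]
      refine HasLift.sup i ?_ (ha.mono i ?_) (hb.mono i ?_)
      · rw [← Scheme.basicOpen_mul]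
        exact (isAffineOpen_top X₀).basicOpen _
      · rw [Scheme.basicOpen_mul]; exact inf_le_right
      · rw [Scheme.basicOpen_mul]; exact inf_le_right
    | smul c a _ ha =>
      refine ha.mono i ?_
      rw [smul_eq_mul, Scheme.basicOpen_mul]
      exact inf_le_right
  have h1 := key 1 (hS ▸ Submodule.mem_top)
  have h2 : (⊤ : X₀.Opens) ≤ X₀.basicOpen (1 : Γ(X₀, ⊤)) := by
    rw [Scheme.basicOpen_of_isUnit _ isUnit_one]
  have h3 := (h1.mono i h2).open i X₀.topIso.inv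
  simpa using h3

end exist

end K151.NilLift
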