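import Groth.Agent.Sga1.AbhMixed2
import Groth.Agent.Sga1.AbhExp
import Groth.Agent.Sga1.KummerFinite
import Groth.Agent.Pi1.H414.TameSub
import Groth.Agent.Pi1.H644.SplitOfExt
import Groth.Agent.S0505
import Groth.Agent.S2821
import Mathlib.RingTheory.DiscreteValuationRing.TFAE
import Mathlib.RingTheory.LocalRing.ResidueField.Ideal

/-!
# Domination by Kummer algebras, ring form

Let `A` be a strictly henselian regular local ring, `f_1, …, f_r` part of a regular system of
parameters, and `B` a nonzero finite torsion-free `A`-algebra, étale over `A[1/f_1⋯f_r]` and tamely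
ramified along the `f_i`. Then there is an `A`-algebra homomorphism from `B` to a Kummer algebra
with exponents invertible in the residue field; it is injective if `B` is a domain.
-/

set_option autoImplicit false

universe u

open IsLocalRing TensorProduct

namespace K151.KumDom

open Groth.Agent Groth.Agent.Sga1 SGA1

/-- the localization at a nonzero principal prime is a DVR -/
theorem isDVR_atPrime {H : Type u} [CommRing H] [IsDomain H] [IsNoetherianRing H] (a : H) (ha : a ≠ 0)
    [(Ideal.span {a}).IsPrime] : IsDiscreteValuationRing (Localization.AtPrime (Ideal.span {a})) := by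
  have hmax : maximalIdeal (Localization.AtPrime (Ideal.span {a})) = Ideal.span {algebraMap H _ a} := by
    have := Localization.AtPrime.map_eq_maximalIdeal (I := Ideal.span {a})
    rw [Ideal.map_span, Set.image_singleton] at this
    exact this.symm
  have hnf : ¬ IsField (Localization.AtPrime (Ideal.span {a})) := by
    have h0 : Ideal.span {a} ≠ ⊥ := by
      rwa [Ne, Ideal.span_singleton_eq_bot]
    exact IsLocalization.AtPrime.not_isField H h0 (Localization.AtPrime (Ideal.span {a}))
  refine ((IsDiscreteValuationRing.TFAE (Localization.AtPrime (Ideal.span {a})) hnf).out 4 0).mp ?_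
  exact ⟨_, hmax⟩

/-- Tameness along the `f_i` passes to localizations. -/
theorem isTameAlong_localization {A : Type u} [CommRing A] [IsDomain A] [IsNoetherianRing A] {r : ℕ}
    (f : Fin r → A) [∀ i, (Ideal.span {f i}).IsPrime] (hf0 : ∀ i, f i ≠ 0) {B B' : Type u} [CommRing B]
    [CommRing B'] [Algebra A B] [Algebra A B'] [Algebra B B'] [IsScalarTower A B B'] (M : Submonoid B)
    [IsLocalization M B'] (h : IsTameAlong f (algebraMap A B)) :
    IsTameAlong f (algebraMap A B') := by
  intro i q' _ hq'
  let q : Ideal B := q'.comap (algebraMap B B')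
  have hq : q.comap (algebraMap A B) = ⊥ := by
    rw [← hq', Ideal.comap_comap, ← IsScalarTower.algebraMap_eq]
  have hbij : Function.Bijective (Ideal.ResidueField.map q q' (algebraMap B B') rfl) :=
    (RingHom.surjectiveOnStalks_of_isLocalization M B').residueFieldMap_bijective q q' rfl
  let e : q.ResidueField ≃+* q'.ResidueField := RingEquiv.ofBijective _ hbij
  have hdvr := isDVR_atPrime (f i) (hf0 i)
  refine Groth.Agent.Pi1.H414.TameSub.isTamelyRamified_of_comp _ (e.symm : q'.ResidueField →+* q.ResidueField) ?_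
  have key : (e.symm : q'.ResidueField →+* q.ResidueField).comp
      (genericResidueMap (algebraMap A B') (Ideal.span {f i}) q' hq') =
      genericResidueMap (algebraMap A B) (Ideal.span {f i}) q hq := by
    refine IsLocalization.ringHom_ext (Ideal.span {f i}).primeCompl ?_
    ext a
    simp only [RingHom.comp_apply, genericResidueMap, IsLocalization.lift_eq]
    rw [RingHom.coe_coe, RingEquiv.symm_apply_eq]
    change _ = Ideal.ResidueField.map q q' (algebraMap B B') rfl (algebraMap B _ (algebraMap A B a))
    rw [Ideal.ResidueField.map_algebraMap, ← IsScalarTower.algebraMap_apply A B B']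
  rw [key]
  exact h i q hq

section Main

variable (A : Type u) [CommRing A] [IsRegularLocalRing A] [IsDomain A] {r : ℕ} (f : Fin r → A)
    (hm : ∀ i, f i ∈ maximalIdeal A)
    (hf : LinearIndependent (ResidueField A) (fun i => (maximalIdeal A).toCotangent ⟨f i, hm i⟩))

include hf in
omit [IsDomain A] in
/-- Elements of the localization of the Kummer algebra, integral over `A`, are in the Kummer
algebra. -/
theorem exists_of_isIntegral (n : Fin r → ℕ) (hn : ∀ i, 1 ≤ n i) (F : kummerAlg A f n) (hF : F ≠ 0)
    (x : Localization.Away F) (hx : IsIntegral A x) :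
    ∃ y : kummerAlg A f n, algebraMap _ (Localization.Away F) y = x := by
  have hreg := KummerReg.isRegularLocalRing f n hm hf hn
  have hdom := AbhLocal.isDomain_kummer A f hm hf n hn
  obtain ⟨_, hufd⟩ := S2821.result (kummerAlg A f n)
  have hic : IsIntegrallyClosed (kummerAlg A f n) := inferInstance
  let K := kummerAlg A f n
  let θ : Localization.Away F →ₐ[K] FractionRing K :=
    IsLocalization.liftAlgHom (M := Submonoid.powers F) (f := Algebra.ofId K (FractionRing K))
      (fun y => by
        obtain ⟨_, m, rfl⟩ := y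
        rw [isUnit_iff_ne_zero]
        simp only [map_pow]
        refine pow_ne_zero _ ?_
        change algebraMap K (FractionRing K) F ≠ 0
        rwa [Ne, map_eq_zero_iff _ (IsFractionRing.injective K (FractionRing K))])
  have h1 : IsIntegral K (θ x) := (hx.tower_top).map θ
  obtain ⟨y, hy⟩ := IsIntegrallyClosed.isIntegral_iff.mp h1
  refine ⟨y, ?_⟩
  obtain ⟨a, s, rfl⟩ := IsLocalization.exists_mk'_eq (Submonoid.powers F) x
  rw [eq_comm, IsLocalization.mk'_eq_iff_eq_mul, ← map_mul]
  congr 1
  apply IsFractionRing.injective K (FractionRing K)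
  have h2 : θ (algebraMap K _ a) = θ (IsLocalization.mk' _ a s) * θ (algebraMap K _ s) := by
    rw [← map_mul, IsLocalization.mk'_spec]
  rw [AlgHom.commutes, AlgHom.commutes, ← hy, ← map_mul] at h2
  exact h2

variable [HenselianLocalRing A] [IsSepClosed (ResidueField A)] [∀ i, (Ideal.span {f i}).IsPrime]
    (B : Type u) [CommRing B] [Algebra A B] [Module.Finite A B]
    [Algebra.Etale (Localization.Away (∏ i, f i)) (TensorProduct A (Localization.Away (∏ i, f i)) B)]
    (htame : SGA1.IsTameAlong f (algebraMap A B))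
    (β : B →ₐ[A] AlgebraicClosure (FractionRing A))

include hf htame β in
/-- Ring form of the domination by Kummer algebras. -/
theorem exists_algHom : ∃ n : Fin r → ℕ, (∀ i, 1 ≤ n i) ∧ (∀ i, IsUnit ((n i : ℕ) : ResidueField A)) ∧
    Nonempty (B →ₐ[A] kummerAlg A f n) := by
  let F := ∏ i, f i
  have hF0 : F ≠ 0 := by
    rw [Finset.prod_ne_zero_iff]
    exact fun i _ => AbhLocal.ne_zero A f hm hf i
  let AF := Localization.Away F
  let B' := AF ⊗[A] B
  let : Algebra B B' := Algebra.TensorProduct.rightAlgebra
  have : IsScalarTower A B B' := Algebra.TensorProduct.right_isScalarTower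
  have hloc : IsLocalization (Algebra.algebraMapSubmonoid B (Submonoid.powers F)) B' :=
    IsLocalization.tensorRight AF (Submonoid.powers F)
  have htame' : IsTameAlong f (algebraMap A B') :=
    isTameAlong_localization f (fun i => AbhLocal.ne_zero A f hm hf i)
      (Algebra.algebraMapSubmonoid B (Submonoid.powers F)) htame
  have hfinB' : Module.Finite AF B' := Module.Finite.base_change A AF B
  obtain ⟨n, hn1, hn2, hn3⟩ := AbhExp.exists_exponent A f hm B' htame'
    (fun p hp _ j hj => AbhMixed.mixed A f hm hf B' htame' p hp j hj)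
  obtain ⟨C, _, _, hC1, hC2, ⟨e⟩⟩ := AbhMain.alg_main A f hm hf B' htame' (fun _ => n) (fun _ => hn1) hn3
  refine ⟨fun _ => n, fun _ => hn1, fun _ => hn2, ?_⟩
  let K := kummerAlg A f (fun _ => n)
  let Q := Localization.Away (algebraMap A K F)
  have hreg : IsRegularLocalRing K := KummerReg.isRegularLocalRing f _ hm hf (fun _ => hn1)
  have hdom : IsDomain K := AbhLocal.isDomain_kummer A f hm hf _ (fun _ => hn1)
  have hfin : Module.Finite A K := KummerFinite.finite_kummerAlg A f _ (fun _ => hn1)
  have hinj : Function.Injective (algebraMap A K) := AbhLocal.injective_kummer A f _ (fun _ => hn1)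
  have hhens : HenselianLocalRing K := Groth.Agent.S0505.result A K
  have hsep : IsSepClosed (ResidueField K) :=
    KummerFinite.isSepClosed_residueField_kummerAlg A f hm _ (fun _ => hn1)
  -- a geometric point
  let Ω := AlgebraicClosure (FractionRing A)
  obtain ⟨ρ, hρ⟩ := KummerFinite.exists_geometric_point A f (fun _ => n) (fun _ => hn1)
  let ρ' : K →ₐ[A] Ω := { ρ with commutes' := fun a => RingHom.congr_fun hρ a }
  have hFΩ : algebraMap A Ω F ≠ 0 := by
    rw [IsScalarTower.algebraMap_apply A (FractionRing A) Ω, map_ne_zero_iff _ (algebraMap (FractionRing A) Ω).injective,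
      map_ne_zero_iff _ (IsFractionRing.injective A (FractionRing A))]
    exact hF0
  let ρQ : Q →ₐ[A] Ω := IsLocalization.liftAlgHom (M := Submonoid.powers (algebraMap A K F)) (f := ρ')
    (fun y => by
      obtain ⟨_, m, rfl⟩ := y
      simp only [map_pow, AlgHom.commutes]
      exact (isUnit_iff_ne_zero.mpr hFΩ).pow m)
  let ρAF : AF →ₐ[A] Ω := IsLocalization.liftAlgHom (M := Submonoid.powers F) (f := Algebra.ofId A Ω)
    (fun y => by
      obtain ⟨_, m, rfl⟩ := y
      simp only [map_pow]
      exact (isUnit_iff_ne_zero.mpr hFΩ).pow m)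
  let β' : B' →ₐ[A] Ω := Algebra.TensorProduct.lift ρAF β (fun _ _ => Commute.all _ _)
  let γ : Q ⊗[A] B' →ₐ[A] Ω := Algebra.TensorProduct.lift ρQ β' (fun _ _ => Commute.all _ _)
  let c : C →+* Ω := (γ.toRingHom.comp (e : (Q ⊗[K] C) →+* (Q ⊗[A] B'))).comp
    (Algebra.TensorProduct.includeRight : C →ₐ[K] Q ⊗[K] C).toRingHom
  obtain ⟨s, -⟩ := Groth.Agent.Pi1.H644.SplitOfExt.exists_algHom K C Ω c
  let π : Q ⊗[K] C →ₐ[Q] Q := Algebra.TensorProduct.lift (AlgHom.id Q Q) ((Algebra.ofId K Q).comp s)
    (fun _ _ => Commute.all _ _)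
  let ψ₀ : B →+* Q := (π.toRingHom.comp (e.symm : (Q ⊗[A] B') →+* (Q ⊗[K] C))).comp
    ((Algebra.TensorProduct.includeRight : B' →ₐ[A] Q ⊗[A] B').toRingHom.comp
      (Algebra.TensorProduct.includeRight : B →ₐ[A] AF ⊗[A] B).toRingHom)
  have hψ₀ : ∀ a : A, ψ₀ (algebraMap A B a) = algebraMap A Q a := by
    intro a
    change π (e.symm ((Algebra.TensorProduct.includeRight : B' →ₐ[A] Q ⊗[A] B')
        ((Algebra.TensorProduct.includeRight : B →ₐ[A] AF ⊗[A] B) (algebraMap A B a)))) = _
    rw [AlgHom.commutes, AlgHom.commutes]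
    have h2 := e.symm.commutes (algebraMap A Q a)
    refine (congrArg π h2).trans ?_
    rw [AlgHom.commutes]
    rfl
  let ψ₁ : B →ₐ[A] Q := { ψ₀ with commutes' := hψ₀ }
  let ι : K →ₐ[A] Q := IsScalarTower.toAlgHom A K Q
  have hFK : algebraMap A K F ≠ 0 := (map_ne_zero_iff _ hinj).mpr hF0
  have hι : Function.Injective ι :=
    IsLocalization.injective Q (powers_le_nonZeroDivisors_of_noZeroDivisors hFK)
  have hmem : ∀ b : B, ψ₁ b ∈ ι.range := by
    intro b
    have hb : IsIntegral A (ψ₁ b) := (Algebra.IsIntegral.isIntegral b).map ψ₁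
    obtain ⟨y, hy⟩ := exists_of_isIntegral A f hm hf (fun _ => n) (fun _ => hn1) (algebraMap A K F) hFK _ hb
    exact ⟨y, hy⟩
  exact ⟨(AlgEquiv.ofInjective ι hι).symm.toAlgHom.comp (ψ₁.codRestrict ι.range hmem)⟩

include hf htame in
/-- A finite torsion-free domain over a strictly henselian regular local ring, étale outside
`f_1⋯f_r = 0` and tame along the `f_i`, embeds into a Kummer algebra. -/
theorem exists_injective_algHom [IsDomain B] [Module.IsTorsionFree A B] :
    ∃ n : Fin r → ℕ, (∀ i, 1 ≤ n i) ∧ (∀ i, IsUnit ((n i : ℕ) : ResidueField A)) ∧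
    ∃ ψ : B →ₐ[A] kummerAlg A f n, Function.Injective ψ := by
  have htf : Module.IsTorsionFree A (AlgebraicClosure (FractionRing A)) := by
    have : FaithfulSMul A (AlgebraicClosure (FractionRing A)) := by
      rw [faithfulSMul_iff_algebraMap_injective,
        IsScalarTower.algebraMap_eq A (FractionRing A) (AlgebraicClosure (FractionRing A))]
      exact (algebraMap (FractionRing A) _).injective.comp (IsFractionRing.injective A _)
    infer_instance
  obtain ⟨n, hn1, hn2, ⟨ψ⟩⟩ := exists_algHom A f hm hf B htame
    (IsAlgClosed.lift (R := A) (S := B) (M := AlgebraicClosure (FractionRing A)))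
  refine ⟨n, hn1, hn2, ψ, ?_⟩
  rw [← AlgHom.coe_toRingHom, RingHom.injective_iff_ker_eq_bot]
  apply Ideal.eq_bot_of_comap_eq_bot (R := A)
  rw [eq_bot_iff]
  intro a ha
  rw [Ideal.mem_comap, RingHom.mem_ker] at ha
  have h1 : algebraMap A (kummerAlg A f n) a = 0 := by
    rw [← ψ.commutes]
    exact ha
  exact (map_eq_zero_iff _ (AbhLocal.injective_kummer A f n hn1)).mp h1

end Main

end K151.KumDom
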