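import Groth.Agent.SGA1.K151.AbStable
import Groth.Agent.Sga7.H510.KumAlg
import Groth.Agent.Sga1.AbhLocal
import Mathlib.RingTheory.IntegralDomain
import Mathlib.RingTheory.RootsOfUnity.PrimitiveRoots

/-!
# Kummer algebras: Galois group and regular subrings

`K = A[T_1, …, T_r]/(T_i^{n_i} - f_i)` over a domain `A` containing primitive `n_i`-th roots of
unity, with its action of `∏ μ_{n_i}(A)`: monomials, projections onto the isotypic parts,
invariants, and the structure of the factorial `A`-subalgebras.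
-/

set_option autoImplicit false

universe u v

open IsLocalRing

namespace K151.KumStruct

open Groth.Agent.Sga1.Kummer

section Defs

variable {A : Type u} [CommRing A] {r : ℕ} (f : Fin r → A) (n : Fin r → ℕ)

theorem smul_eq (a : A) (x : SGA1.kummerAlg A f n) :
    a • x = algebraMap A (SGA1.kummerAlg A f n) a * x := Algebra.smul_def a x

/-- The monomials `T^a`. -/
noncomputable def mon (a : Fin r → ℕ) : SGA1.kummerAlg A f n := ∏ i, T f n i ^ a i

theorem mon_zero : mon f n 0 = 1 := by simp [mon]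

theorem mon_add (a b : Fin r → ℕ) : mon f n (a + b) = mon f n a * mon f n b := by
  simp [mon, pow_add, Finset.prod_mul_distrib]

theorem mon_nsmul (k : ℕ) (a : Fin r → ℕ) : mon f n (k • a) = mon f n a ^ k := by
  simp [mon, ← Finset.prod_pow, ← pow_mul, mul_comm]

theorem mon_single [DecidableEq (Fin r)] (i : Fin r) (k : ℕ) : mon f n (Pi.single i k) = T f n i ^ k := by
  rw [mon, Finset.prod_eq_single i]
  · rw [Pi.single_eq_same]
  · intro j _ hj
    rw [Pi.single_eq_of_ne hj, pow_zero]
  · simp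

/-- The monomials span the Kummer algebra. -/
theorem span_mon : Submodule.span A (Set.range (mon f n)) = ⊤ := by
  rw [eq_top_iff]
  rintro x -
  have hx : x ∈ Algebra.adjoin A (Set.range (T f n)) := by rw [adjoin_T]; trivial
  have hle : (Algebra.adjoin A (Set.range (T f n))).toSubmodule ≤
      Submodule.span A (Set.range (mon f n)) := by
    rw [Algebra.adjoin_eq_span]
    refine Submodule.span_mono ?_
    intro y hy
    induction hy using Submonoid.closure_induction with
    | mem y hy =>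
      obtain ⟨i, rfl⟩ := hy
      classical
      exact ⟨Pi.single i 1, by rw [mon_single, pow_one]⟩
    | one => exact ⟨0, mon_zero f n⟩
    | mul y z _ _ hy hz =>
      obtain ⟨a, rfl⟩ := hy
      obtain ⟨b, rfl⟩ := hz
      exact ⟨a + b, mon_add f n a b⟩
  exact hle hx

/-- Reduction of monomials to the box. -/
theorem mon_mod (a : Fin r → ℕ) :
    mon f n a = (∏ i, f i ^ (a i / n i)) • mon f n (fun i => a i % n i) := by
  rw [mon, mon, smul_eq, map_prod, ← Finset.prod_mul_distrib]
  refine Finset.prod_congr rfl fun i _ => ?_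
  rw [map_pow, ← T_pow, ← pow_mul, ← pow_add, Nat.div_add_mod]

theorem span_box (hn : ∀ i, 1 ≤ n i) :
    Submodule.span A (Set.range fun a : (i : Fin r) → Fin (n i) => mon f n (fun i => (a i : ℕ))) = ⊤ := by
  rw [eq_top_iff, ← span_mon f n, Submodule.span_le]
  rintro _ ⟨a, rfl⟩
  rw [mon_mod]
  refine Submodule.smul_mem _ _ (Submodule.subset_span ⟨fun i => ⟨a i % n i, Nat.mod_lt _ (hn i)⟩, rfl⟩)

theorem exists_sum (hn : ∀ i, 1 ≤ n i) (x : SGA1.kummerAlg A f n) :
    ∃ c : ((i : Fin r) → Fin (n i)) → A, x = ∑ a, c a • mon f n (fun i => (a i : ℕ)) := by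
  have hx : x ∈ Submodule.span A (Set.range fun a : (i : Fin r) → Fin (n i) =>
      mon f n (fun i => (a i : ℕ))) := by rw [span_box f n hn]; trivial
  obtain ⟨c, hc⟩ := (Submodule.mem_span_range_iff_exists_fun A).mp hx
  exact ⟨c, hc.symm⟩

/-- The Galois group. -/
abbrev Gal (A : Type u) [CommRing A] {r : ℕ} (n : Fin r → ℕ) := (i : Fin r) → rootsOfUnity (n i) A

/-- The twist `T_i ↦ g_i T_i`. -/
noncomputable def tw (g : Gal A n) : SGA1.kummerAlg A f n →ₐ[A] SGA1.kummerAlg A f n :=
  lift f n (fun i => ((g i : Aˣ) : A) • T f n i) (fun i => by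
    have h1 : ((g i : Aˣ) : A) ^ n i = 1 := by
      rw [← Units.val_pow_eq_pow_val, (mem_rootsOfUnity _ _).mp (g i).2, Units.val_one]
    rw [smul_pow, h1, one_smul, T_pow])

theorem tw_T (g : Gal A n) (i : Fin r) : tw f n g (T f n i) = ((g i : Aˣ) : A) • T f n i :=
  lift_T _ _ _ _ _

/-- The character `χ_a(g) = ∏ g_i^{a_i}`. -/
def chi (a : Fin r → ℕ) : Gal A n →* Aˣ where
  toFun g := ∏ i, ((g i : Aˣ)) ^ a i
  map_one' := by simp
  map_mul' g h := by simp [mul_pow, Finset.prod_mul_distrib]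

theorem chi_zero : chi (A := A) n 0 = 1 := by
  ext g
  simp [chi]

theorem tw_mon (g : Gal A n) (a : Fin r → ℕ) :
    tw f n g (mon f n a) = ((chi n a g : Aˣ) : A) • mon f n a := by
  rw [mon, map_prod]
  simp only [map_pow, tw_T, smul_pow, chi, MonoidHom.coe_mk, OneHom.coe_mk, Units.coe_prod,
    Units.val_pow_eq_pow_val]
  rw [smul_eq, map_prod, ← Finset.prod_mul_distrib]
  exact Finset.prod_congr rfl fun i _ => smul_eq _ _ _ _

theorem tw_one : tw f n (1 : Gal A n) = AlgHom.id A _ := by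
  refine hom_ext f n fun i => ?_
  rw [tw_T]
  simp

theorem tw_mul (g h : Gal A n) : tw f n (g * h) = (tw f n g).comp (tw f n h) := by
  refine hom_ext f n fun i => ?_
  rw [AlgHom.comp_apply, tw_T, tw_T, map_smul, tw_T, smul_smul]
  simp [mul_comm]

/-- The Galois action. -/
noncomputable abbrev act : MulSemiringAction (Gal A n) (SGA1.kummerAlg A f n) where
  smul g x := tw f n g x
  one_smul x := by change tw f n 1 x = x; rw [tw_one]; rfl
  mul_smul g h x := by change tw f n (g * h) x = tw f n g (tw f n h x); rw [tw_mul]; rfl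
  smul_zero g := map_zero (tw f n g)
  smul_add g := map_add (tw f n g)
  smul_one g := map_one (tw f n g)
  smul_mul g := map_mul (tw f n g)

end Defs

section Proj

variable {A : Type u} [CommRing A] {r : ℕ} (f : Fin r → A) (n : Fin r → ℕ) [Fintype (Gal A n)]

/-- The (unnormalised) projection to the isotypic part of the character `χ_c`. -/
noncomputable def S (c : Fin r → ℕ) : SGA1.kummerAlg A f n →ₗ[A] SGA1.kummerAlg A f n :=
  ∑ g : Gal A n, (((chi n c g)⁻¹ : Aˣ) : A) • (tw f n g).toLinearMap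

theorem S_apply (c : Fin r → ℕ) (x : SGA1.kummerAlg A f n) :
    S f n c x = ∑ g : Gal A n, (((chi n c g)⁻¹ : Aˣ) : A) • tw f n g x := by
  simp [S, LinearMap.sum_apply]

theorem S_mon_self (c : Fin r → ℕ) :
    S f n c (mon f n c) = ((Fintype.card (Gal A n) : ℕ) : A) • mon f n c := by
  rw [S_apply]
  have h : ∀ g : Gal A n, (((chi n c g)⁻¹ : Aˣ) : A) • tw f n g (mon f n c) = mon f n c := by
    intro g
    rw [tw_mon, smul_smul, Units.inv_mul, one_smul]
  rw [Finset.sum_congr rfl fun g _ => h g, Finset.sum_const, Finset.card_univ, Nat.cast_smul_eq_nsmul]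

theorem S_mon_ne [IsDomain A] (a c : Fin r → ℕ) (hac : chi (A := A) n a ≠ chi n c) :
    S f n c (mon f n a) = 0 := by
  rw [S_apply]
  have h : ∀ g : Gal A n, (((chi n c g)⁻¹ : Aˣ) : A) • tw f n g (mon f n a) =
      (((Units.coeHom A).comp ((chi n c)⁻¹ * chi n a)) g) • mon f n a := by
    intro g
    rw [tw_mon, smul_smul]
    simp
  rw [Finset.sum_congr rfl fun g _ => h g, ← Finset.sum_smul, sum_hom_units_eq_zero, zero_smul]
  intro h1
  apply hac
  refine MonoidHom.ext fun g => ?_
  have h2 := DFunLike.congr_fun h1 g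
  simp only [MonoidHom.comp_apply, MonoidHom.one_apply, MonoidHom.mul_apply, MonoidHom.inv_apply,
    Units.coeHom_apply] at h2
  have h3 : ((chi n c g)⁻¹ * chi n a g : Aˣ) = 1 := Units.ext h2
  exact (inv_mul_eq_one.mp h3).symm

theorem S_mul (c : Fin r → ℕ) (x : SGA1.kummerAlg A f n) :
    S f n c (mon f n c * x) = mon f n c * S f n 0 x := by
  rw [S_apply, S_apply, Finset.mul_sum]
  refine Finset.sum_congr rfl fun g _ => ?_
  rw [map_mul, tw_mon, chi_zero, smul_mul_assoc, smul_smul, Units.inv_mul, one_smul]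
  simp

end Proj

section Box

variable {A : Type u} [CommRing A] [IsDomain A] {r : ℕ} (n : Fin r → ℕ)

omit [IsDomain A] in
theorem chi_injective (hζ : ∀ i, ∃ z : A, IsPrimitiveRoot z (n i)) {a c : Fin r → ℕ}
    (ha : ∀ i, a i < n i) (hc : ∀ i, c i < n i) (h : chi (A := A) n a = chi n c) : a = c := by
  funext i
  obtain ⟨z, hz⟩ := hζ i
  have hni : n i ≠ 0 := by have := ha i; omega
  have : NeZero (n i) := ⟨hni⟩
  have h1 := DFunLike.congr_fun h (Pi.mulSingle i (rootsOfUnity.mkOfPowEq z hz.pow_eq_one))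
  have h2 : ∀ b : Fin r → ℕ, ((chi n b (Pi.mulSingle i (rootsOfUnity.mkOfPowEq z hz.pow_eq_one)) : Aˣ) : A) =
      z ^ b i := by
    intro b
    rw [chi]
    simp only [MonoidHom.coe_mk, OneHom.coe_mk]
    rw [Finset.prod_eq_single i]
    · rw [Pi.mulSingle_eq_same, Units.val_pow_eq_pow_val]
      rfl
    · intro j _ hj
      rw [Pi.mulSingle_eq_of_ne hj]
      simp
    · simp
  have h3 := congrArg (fun u : Aˣ => (u : A)) h1
  simp only [h2] at h3
  exact hz.pow_inj (ha i) (hc i) h3

end Box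

section Inv

variable {A : Type u} [CommRing A] [IsDomain A] {r : ℕ} (f : Fin r → A) (n : Fin r → ℕ)
  [Fintype (Gal A n)] (hn : ∀ i, 1 ≤ n i) (hζ : ∀ i, ∃ z : A, IsPrimitiveRoot z (n i))

include hζ in
/-- The components of an element. -/
theorem S_sum (x : SGA1.kummerAlg A f n) (c : ((i : Fin r) → Fin (n i)) → A)
    (hx : x = ∑ a, c a • mon f n (fun i => (a i : ℕ))) (b : (i : Fin r) → Fin (n i)) :
    S f n (fun i => (b i : ℕ)) x =
      (((Fintype.card (Gal A n) : ℕ) : A) * c b) • mon f n (fun i => (b i : ℕ)) := by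
  rw [hx, map_sum, Finset.sum_eq_single b]
  · rw [map_smul, S_mon_self, smul_smul, mul_comm]
  · intro a _ hab
    rw [map_smul, S_mon_ne, smul_zero]
    intro h
    apply hab
    have h1 := chi_injective n hζ (fun i => (a i).2) (fun i => (b i).2) h
    funext i
    exact Fin.ext (congrFun h1 i)
  · simp

include hn hζ in
theorem S_zero_mem (x : SGA1.kummerAlg A f n) : ∃ a : A, S f n 0 x = algebraMap A _ a := by
  obtain ⟨c, hc⟩ := exists_sum f n hn x
  have h1 := S_sum f n hζ x c hc (fun i => ⟨0, hn i⟩)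
  refine ⟨((Fintype.card (Gal A n) : ℕ) : A) * c (fun i => ⟨0, hn i⟩), ?_⟩
  have h2 : (fun i => (((⟨0, hn i⟩ : Fin (n i))) : ℕ)) = (0 : Fin r → ℕ) := rfl
  rw [h2, mon_zero, smul_eq, mul_one] at h1
  exact h1

include hn hζ in
theorem isInvariant (hu : IsUnit ((Fintype.card (Gal A n) : ℕ) : A)) (x : SGA1.kummerAlg A f n)
    (hx : ∀ g : Gal A n, tw f n g x = x) : ∃ a : A, algebraMap A _ a = x := by
  obtain ⟨a, ha⟩ := S_zero_mem f n hn hζ x
  rw [S_apply] at ha
  have h : ∀ g : Gal A n, (((chi n 0 g)⁻¹ : Aˣ) : A) • tw f n g x = x := by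
    intro g
    rw [hx, chi_zero]
    simp
  rw [Finset.sum_congr rfl fun g _ => h g, Finset.sum_const, Finset.card_univ,
    ← Nat.cast_smul_eq_nsmul A] at ha
  obtain ⟨u, hu⟩ := hu
  refine ⟨(u⁻¹ : Aˣ) * a, ?_⟩
  rw [map_mul, ← ha, ← hu, ← smul_eq, smul_smul, Units.inv_mul, one_smul]

end Inv

section Local

open Groth.Agent.Sga1

variable {A : Type u} [CommRing A] [IsRegularLocalRing A] [IsDomain A] {r : ℕ} (f : Fin r → A)
  (hm : ∀ i, f i ∈ maximalIdeal A)
  (hf : LinearIndependent (ResidueField A) (fun i => (maximalIdeal A).toCotangent ⟨f i, hm i⟩))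
  (n : Fin r → ℕ) [Fintype (Gal A n)] (hn : ∀ i, 1 ≤ n i)
  (hζ : ∀ i, ∃ z : A, IsPrimitiveRoot z (n i))
  (hu : IsUnit ((Fintype.card (Gal A n) : ℕ) : A))

include hm hn hζ hu in
theorem S_zero_unit (u : SGA1.kummerAlg A f n) (hunit : IsUnit u) :
    ∃ w : A, IsUnit w ∧ S f n 0 u = algebraMap A _ w := by
  obtain ⟨w, hw⟩ := S_zero_mem f n hn hζ u
  refine ⟨w, ?_, hw⟩
  have hloc := KummerReg.isLocalRing f n hm hn
  have hlh := KummerReg.isLocalHom f n hm hn
  let K := SGA1.kummerAlg A f n
  let I : Ideal K := Ideal.span (Set.range (T f n))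
  have hI : I ≤ maximalIdeal K := by
    rw [KummerReg.eq_of_isMaximal f n hm hn (maximalIdeal K)]
    exact le_sup_right
  obtain ⟨a, ha⟩ := KummerReg.exists_sub_mem f n u
  have hIt : ∀ g : Gal A n, ∀ x ∈ I, tw f n g x ∈ I := by
    intro g x hx
    have h1 : I ≤ I.comap (tw f n g) := by
      rw [Ideal.span_le]
      rintro _ ⟨i, rfl⟩
      change tw f n g (T f n i) ∈ I
      rw [tw_T, smul_eq]
      exact Ideal.mul_mem_left _ _ (Ideal.subset_span ⟨i, rfl⟩)
    exact h1 hx
  have h2 : S f n 0 u - algebraMap A K (((Fintype.card (Gal A n) : ℕ) : A) * a) ∈ I := by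
    have h3 : S f n 0 u - algebraMap A K (((Fintype.card (Gal A n) : ℕ) : A) * a) =
        ∑ g : Gal A n, tw f n g (u - algebraMap A K a) := by
      rw [S_apply]
      simp only [map_sub, Finset.sum_sub_distrib,
        chi_zero, MonoidHom.one_apply, inv_one, Units.val_one, one_smul, map_mul, map_natCast]
      congr 1
      rw [Finset.sum_congr rfl fun g _ => (tw f n g).commutes a, Finset.sum_const, Finset.card_univ,
        nsmul_eq_mul]
    rw [h3]
    exact Ideal.sum_mem _ fun g _ => hIt g _ ha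
  have ha' : IsUnit (algebraMap A K a) := by
    by_contra h
    have h4 : u ∈ maximalIdeal K := by
      have := Ideal.add_mem _ (hI ha) ((mem_maximalIdeal _).mpr h)
      rwa [sub_add_cancel] at this
    exact (mem_maximalIdeal _).mp h4 hunit
  have h5 : IsUnit (algebraMap A K (((Fintype.card (Gal A n) : ℕ) : A) * a)) := by
    rw [map_mul]
    exact (hu.map _).mul ha'
  have h6 : IsUnit (algebraMap A K w) := by
    by_contra h
    rw [hw] at h2
    have h7 := Ideal.sub_mem _ ((mem_maximalIdeal _).mpr h) (hI h2)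
    rw [sub_sub_cancel] at h7
    exact (mem_maximalIdeal _).mp h7 h5
  exact isUnit_of_map_unit _ _ h6

include hm hf hn hζ hu in
/-- The Kummer algebra is Galois over `A`. -/
theorem isGaloisGroup : letI := act f n; IsGaloisGroup (Gal A n) A (SGA1.kummerAlg A f n) := by
  let := act f n
  have hdom := AbhLocal.isDomain_kummer A f hm hf n hn
  have hinj := AbhLocal.injective_kummer A f n hn
  refine ⟨⟨fun {g h} hgh => ?_⟩, ⟨fun g a x => map_smul (tw f n g) a x⟩,
    ⟨fun x hx => isInvariant f n hn hζ hu x hx⟩⟩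
  funext i
  have h1 : tw f n g (T f n i) = tw f n h (T f n i) := hgh _
  rw [tw_T, tw_T, smul_eq, smul_eq] at h1
  have h2 := hinj (mul_right_cancel₀ (Groth.Agent.Sga7.H510.KumAlg.T_prime f n hm hf hn i).ne_zero h1)
  exact Subtype.ext (Units.ext h2)

section Sub

variable (R : Subalgebra A (SGA1.kummerAlg A f n)) [IsDomain R] [IsIntegrallyClosed R]

include hm hf hn in
omit [IsDomain A] [Fintype (Gal A n)] in
/-- Division in `R`. -/
theorem mem_of_mul (x y : SGA1.kummerAlg A f n) (hy : y ∈ R) (hy0 : y ≠ 0) (h : y * x ∈ R) : x ∈ R := by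
  have hdom := AbhLocal.isDomain_kummer A f hm hf n hn
  have hfin := Kummer.finite f n hn
  obtain ⟨b, hb⟩ := AbStable.exists_eq_of_mul R.val Subtype.val_injective x ⟨y, hy⟩ ⟨y * x, h⟩
    (fun h0 => hy0 (congrArg Subtype.val h0)) rfl
  rw [← hb]
  exact b.2

include hm hf hn hζ hu in
theorem S_mem (c : Fin r → ℕ) (x : SGA1.kummerAlg A f n) (hx : x ∈ R) : S f n c x ∈ R := by
  let := act f n
  have hdom := AbhLocal.isDomain_kummer A f hm hf n hn
  have hinj := AbhLocal.injective_kummer A f n hn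
  have hfin := Kummer.finite f n hn
  have hfs : FaithfulSMul A (SGA1.kummerAlg A f n) := (faithfulSMul_iff_algebraMap_injective _ _).mpr hinj
  have hgal := isGaloisGroup f hm hf n hn hζ hu
  rw [S_apply]
  refine R.sum_mem fun g _ => R.smul_mem ?_ _
  obtain ⟨b, hb⟩ := AbStable.exists_smul_eq R.val Subtype.val_injective g ⟨x, hx⟩
  have h1 : tw f n g x = (b : SGA1.kummerAlg A f n) := hb.symm
  rw [h1]
  exact b.2

include hm hf hn hζ hu in
/-- If a unit multiple of a monomial is in `R`, then so is the monomial. -/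
theorem mon_mem (c : Fin r → ℕ) (u : SGA1.kummerAlg A f n) (hunit : IsUnit u)
    (h : mon f n c * u ∈ R) : mon f n c ∈ R := by
  have h1 := S_mem f hm hf n hn hζ hu R c _ h
  obtain ⟨w, hw, hwu⟩ := S_zero_unit f hm n hn hζ hu u hunit
  rw [S_mul, hwu, mul_comm] at h1
  have hdom := AbhLocal.isDomain_kummer A f hm hf n hn
  exact mem_of_mul f hm hf n hn R _ _ (R.algebraMap_mem w) (hw.map _).ne_zero h1

end Sub

section UFD

variable (R : Subalgebra A (SGA1.kummerAlg A f n)) [IsDomain R] [UniqueFactorizationMonoid R]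

include hm hf hn in
omit [IsDomain A] [Fintype (Gal A n)] [IsDomain R] [UniqueFactorizationMonoid R] in
theorem isUnit_of_val (x : R) (hx : IsUnit (x : SGA1.kummerAlg A f n)) : IsUnit x := by
  have hdom := AbhLocal.isDomain_kummer A f hm hf n hn
  have hfin := Kummer.finite f n hn
  have hint : (R.val : R →+* SGA1.kummerAlg A f n).IsIntegral := by
    intro y
    have h1 : IsIntegral A y := Algebra.IsIntegral.isIntegral y
    exact h1.tower_top (A := R)
  have := hint.isLocalHom Subtype.val_injective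
  exact isUnit_of_map_unit (R.val : R →+* SGA1.kummerAlg A f n) x hx

include hm hf hn hζ hu in
/-- The smallest power of `T_i` in `R` is prime. -/
theorem prime_of_min (i : Fin r) (d : ℕ) (hd : 0 < d) (hdR : T f n i ^ d ∈ R)
    (hmin : ∀ k, 0 < k → T f n i ^ k ∈ R → d ≤ k) : Prime (⟨T f n i ^ d, hdR⟩ : R) := by
  have hdom := AbhLocal.isDomain_kummer A f hm hf n hn
  have hT := Groth.Agent.Sga7.H510.KumAlg.T_prime f n hm hf hn i
  have hic : IsIntegrallyClosed R := inferInstance
  apply Irreducible.prime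
  constructor
  · intro h
    have h1 := h.map (R.val : R →+* SGA1.kummerAlg A f n)
    have h2 : IsUnit (T f n i ^ d) := h1
    rw [isUnit_pow_iff hd.ne'] at h2
    exact hT.not_isUnit h2
  · intro x y hxy
    have h1 : (x : SGA1.kummerAlg A f n) * y = T f n i ^ d := (congrArg Subtype.val hxy).symm
    obtain ⟨c, hc, hass⟩ := (dvd_prime_pow hT d).mp (Dvd.intro _ h1)
    obtain ⟨u, hu'⟩ := hass.symm
    have hxR : mon f n (Pi.single i c) * (u : SGA1.kummerAlg A f n) ∈ R := by
      rw [mon_single, hu']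
      exact x.2
    have h2 := mon_mem f hm hf n hn hζ hu R (Pi.single i c) u u.isUnit hxR
    rw [mon_single] at h2
    rcases Nat.eq_zero_or_pos c with rfl | hc0
    · left
      apply isUnit_of_val f hm hf n hn R
      rw [← hu', pow_zero, one_mul]
      exact u.isUnit
    · right
      have h3 : c = d := le_antisymm hc (hmin c hc0 h2)
      subst h3
      apply isUnit_of_val f hm hf n hn R
      have h4 : T f n i ^ c * ((u : SGA1.kummerAlg A f n) * y) = T f n i ^ c * 1 := by
        rw [← mul_assoc, hu', h1, mul_one]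
      have h5 := mul_left_cancel₀ (pow_ne_zero c hT.ne_zero) h4
      exact IsUnit.of_mul_eq_one_right _ h5

include hm hf hn hζ hu in
/-- The monomials in `R`. -/
theorem mon_eq (d : Fin r → ℕ) (hd : ∀ i, 0 < d i) (hdR : ∀ i, T f n i ^ d i ∈ R)
    (hmin : ∀ i k, 0 < k → T f n i ^ k ∈ R → d i ≤ k) (a : Fin r → ℕ) (ha : mon f n a ∈ R) :
    ∃ (w : A) (l : Fin r → ℕ), mon f n a = w • mon f n (fun i => d i * l i) := by
  have hdom := AbhLocal.isDomain_kummer A f hm hf n hn
  let s : Fin r → R := fun i => ⟨T f n i ^ d i, hdR i⟩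
  have hs : ∀ i, Prime (s i) := fun i => prime_of_min f hm hf n hn hζ hu R i (d i) (hd i) (hdR i) (hmin i)
  have hsval : ∀ l : Fin r → ℕ, ((∏ i, s i ^ l i : R) : SGA1.kummerAlg A f n) =
      mon f n (fun i => d i * l i) := by
    intro l
    rw [mon, ← Subalgebra.coe_val, map_prod]
    refine Finset.prod_congr rfl fun i _ => ?_
    rw [map_pow, pow_mul]
    rfl
  let b : R := ⟨mon f n a, ha⟩
  let N : ℕ := ∏ j, d j
  have hN : N ≠ 0 := Finset.prod_ne_zero_iff.mpr fun j _ => (hd j).ne'
  have hdN : ∀ i, d i * (N / d i) = N := fun i => Nat.mul_div_cancel' (Finset.dvd_prod_of_mem d (Finset.mem_univ i))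
  have h1 : b ^ N = ∏ i, s i ^ ((N / d i) * a i) := by
    apply Subtype.ext
    rw [hsval]
    change (mon f n a) ^ N = _
    rw [← mon_nsmul]
    congr 1
    funext i
    rw [← mul_assoc, hdN]
    rfl
  have h2 : b ∣ (∏ i, s i) ^ (∑ i, (N / d i) * a i) := by
    refine (dvd_pow_self b hN).trans ?_
    rw [h1, ← Finset.prod_pow]
    refine Finset.prod_dvd_prod_of_dvd _ _ fun i hi => pow_dvd_pow _ ?_
    exact Finset.single_le_sum (f := fun i => (N / d i) * a i) (fun _ _ => Nat.zero_le _) hi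
  let M : Submonoid R :=
    { carrier := {x | ∃ (u : Rˣ) (l : Fin r → ℕ), x = u * ∏ i, s i ^ l i}
      one_mem' := ⟨1, 0, by simp⟩
      mul_mem' := by
        rintro _ _ ⟨u, l, rfl⟩ ⟨u', l', rfl⟩
        refine ⟨u * u', l + l', ?_⟩
        simp only [Pi.add_apply, pow_add, Finset.prod_mul_distrib, Units.val_mul]
        ring }
  obtain ⟨u, l, hul⟩ : b ∈ M := by
    refine Groth.Agent.Sga7.H510.KumAlg.mem_of_dvd_pow hs M (fun u => ⟨u, 0, by simp⟩) (fun i => ?_) _ b h2
    classical
    refine ⟨1, Pi.single i 1, ?_⟩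
    rw [Finset.prod_eq_single i]
    · simp
    · intro j _ hj
      rw [Pi.single_eq_of_ne hj, pow_zero]
    · simp
  have h3 : mon f n a = mon f n (fun i => d i * l i) * ((u : R) : SGA1.kummerAlg A f n) := by
    rw [← hsval, mul_comm]
    exact congrArg Subtype.val hul
  have hu1 : IsUnit (((u : R)) : SGA1.kummerAlg A f n) := u.isUnit.map (R.val : R →+* SGA1.kummerAlg A f n)
  obtain ⟨w, hw, hwu⟩ := S_zero_unit f hm n hn hζ hu _ hu1
  have h4 : S f n (fun i => d i * l i) (mon f n a) =
      mon f n (fun i => d i * l i) * algebraMap A _ w := by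
    rw [h3, S_mul, hwu]
  have hmon0 : mon f n (fun i => d i * l i) ≠ 0 := by
    rw [mon, Finset.prod_ne_zero_iff]
    exact fun i _ => pow_ne_zero _ (Groth.Agent.Sga7.H510.KumAlg.T_prime f n hm hf hn i).ne_zero
  have h5 : chi (A := A) n a = chi n (fun i => d i * l i) := by
    by_contra h
    rw [S_mon_ne f n _ _ h] at h4
    exact mul_ne_zero hmon0 (hw.map (algebraMap A (SGA1.kummerAlg A f n))).ne_zero h4.symm
  have h6 : S f n (fun i => d i * l i) (mon f n a) =
      ((Fintype.card (Gal A n) : ℕ) : A) • mon f n a := by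
    rw [← S_mon_self, S_apply, S_apply, h5]
  rw [h6] at h4
  obtain ⟨v, hv⟩ := hu
  refine ⟨(v⁻¹ : Aˣ) * w, l, ?_⟩
  rw [mul_smul, smul_eq f n w, mul_comm _ (mon f n _), ← h4, ← hv, smul_smul, Units.inv_mul, one_smul]

include hm hf hn hζ hu in
/-- Factorial subrings of the Kummer algebra are Kummer algebras. -/
theorem main : ∃ m : Fin r → ℕ, (∀ i, 1 ≤ m i) ∧ (∀ i, m i ∣ n i) ∧
    Nonempty (R ≃ₐ[A] SGA1.kummerAlg A f m) := by
  have hdom := AbhLocal.isDomain_kummer A f hm hf n hn
  have hT := Groth.Agent.Sga7.H510.KumAlg.T_prime f n hm hf hn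
  have hic : IsIntegrallyClosed R := inferInstance
  have hinj := AbhLocal.injective_kummer A f n hn
  have hTn : ∀ i, T f n i ^ n i ∈ R := fun i => by
    rw [T_pow]; exact R.algebraMap_mem _
  classical
  have hex : ∀ i, ∃ k, 0 < k ∧ T f n i ^ k ∈ R := fun i => ⟨n i, hn i, hTn i⟩
  let d : Fin r → ℕ := fun i => Nat.find (hex i)
  have hd : ∀ i, 0 < d i := fun i => (Nat.find_spec (hex i)).1
  have hdR : ∀ i, T f n i ^ d i ∈ R := fun i => (Nat.find_spec (hex i)).2
  have hmin : ∀ i k, 0 < k → T f n i ^ k ∈ R → d i ≤ k := fun i k h1 h2 => Nat.find_min' (hex i) ⟨h1, h2⟩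
  have hdvd : ∀ i, d i ∣ n i := by
    intro i
    rw [Nat.dvd_iff_mod_eq_zero]
    by_contra h0
    have h1 : T f n i ^ (n i % d i) ∈ R := by
      refine mem_of_mul f hm hf n hn R _ ((T f n i ^ d i) ^ (n i / d i)) (R.pow_mem (hdR i) _)
        (pow_ne_zero _ (pow_ne_zero _ (hT i).ne_zero)) ?_
      rw [← pow_mul, ← pow_add, Nat.div_add_mod]
      exact hTn i
    have h2 := hmin i _ (Nat.pos_of_ne_zero h0) h1
    have h3 := Nat.mod_lt (n i) (hd i)
    omega
  let m : Fin r → ℕ := fun i => n i / d i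
  have hdm : ∀ i, d i * m i = n i := fun i => Nat.mul_div_cancel' (hdvd i)
  have hm1 : ∀ i, 1 ≤ m i := fun i => by
    rcases Nat.eq_zero_or_pos (m i) with h | h
    · have h1 := hdm i
      rw [h, mul_zero] at h1
      have := hn i
      omega
    · exact h
  refine ⟨m, hm1, fun i => Dvd.intro_left _ (hdm i), ?_⟩
  let s : Fin r → R := fun i => ⟨T f n i ^ d i, hdR i⟩
  let θ : SGA1.kummerAlg A f m →ₐ[A] R := lift f m s (fun i => by
    apply Subtype.ext
    change (T f n i ^ d i) ^ m i = algebraMap A _ (f i)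
    rw [← pow_mul, hdm, T_pow])
  have hθmon : ∀ l : Fin r → ℕ, ((θ (mon f m l) : R) : SGA1.kummerAlg A f n) =
      mon f n (fun i => d i * l i) := by
    intro l
    rw [mon, mon, map_prod, ← Subalgebra.coe_val, map_prod]
    refine Finset.prod_congr rfl fun i _ => ?_
    rw [map_pow, map_pow, lift_T, pow_mul]
    rfl
  have hθsurj : Function.Surjective θ := by
    intro x
    obtain ⟨c, hc⟩ := exists_sum f n hn (x : SGA1.kummerAlg A f n)
    have h1 : ∀ a : (i : Fin r) → Fin (n i), ∃ y, ((θ y : R) : SGA1.kummerAlg A f n) =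
        c a • mon f n (fun i => (a i : ℕ)) := by
      intro a
      by_cases hca : c a = 0
      · exact ⟨0, by rw [hca, zero_smul, map_zero]; rfl⟩
      have h2 := S_mem f hm hf n hn hζ hu R (fun i => (a i : ℕ)) x x.2
      rw [S_sum f n hζ _ c hc a, smul_eq] at h2
      have h3 : mon f n (fun i => (a i : ℕ)) ∈ R := by
        refine mem_of_mul f hm hf n hn R _ _ (R.algebraMap_mem _) ?_ h2
        rw [Ne, map_eq_zero_iff _ hinj]
        exact mul_ne_zero hu.ne_zero hca
      obtain ⟨w, l, hwl⟩ := mon_eq f hm hf n hn hζ hu R d hd hdR hmin _ h3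
      refine ⟨c a • w • mon f m l, ?_⟩
      rw [hwl, ← hθmon, map_smul, map_smul]
      rfl
    choose y hy using h1
    refine ⟨∑ a, y a, Subtype.ext ?_⟩
    rw [map_sum, ← Subalgebra.coe_val, map_sum]
    exact (Finset.sum_congr rfl fun a _ => hy a).trans hc.symm
  have hθinj : Function.Injective θ := by
    have hdom' := AbhLocal.isDomain_kummer A f hm hf m hm1
    have hfin' := Kummer.finite f m hm1
    rw [← AlgHom.coe_toRingHom, RingHom.injective_iff_ker_eq_bot]
    apply Ideal.eq_bot_of_comap_eq_bot (R := A)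
    rw [eq_bot_iff]
    intro x hx
    rw [Ideal.mem_comap, RingHom.mem_ker] at hx
    have h1 : algebraMap A (SGA1.kummerAlg A f n) x = 0 := by
      have h2 : θ (algebraMap A _ x) = algebraMap A R x := θ.commutes x
      have h3 : algebraMap A R x = 0 := by rw [← h2]; exact hx
      exact congrArg Subtype.val h3
    exact (map_eq_zero_iff _ hinj).mp h1
  exact ⟨(AlgEquiv.ofBijective θ ⟨hθinj, hθsurj⟩).symm⟩

end UFD

end Local

end K151.KumStruct
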