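import Groth.Agent.SGA1.K151.ResInt
import Groth.Agent.Sga1.Transit
import Groth.Agent.Sga1.QuotBasic
import Mathlib.FieldTheory.Normal.Closure
import Mathlib.FieldTheory.IsAlgClosed.AlgebraicClosure

/-!
# Residue fields and stabilizers for quotients by finite groups
-/

set_option autoImplicit false
set_option linter.style.haveILetI false
universe u

open CategoryTheory AlgebraicGeometry

namespace K151.QuotRes

/-- If `φ ≫ Spec κ(x) ⟶ X` and `ψ ≫ Spec κ(x) ⟶ X` are two field valued points with
`φ = ψ ≫ g`, then `g x = x` and `φ` is `ψ` composed with the endomorphism of `κ(x)` induced by `g`. -/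
theorem eq_of_comp_eq {X : Scheme.{u}} (g : X ⟶ X) (x : X) {K : Type u} [Field K]
    (φ ψ : X.residueField x ⟶ CommRingCat.of K)
    (h : Spec.map φ ≫ X.fromSpecResidueField x = Spec.map ψ ≫ X.fromSpecResidueField x ≫ g) :
    ∃ e : g x = x, φ = ((X.residueFieldCongr e).inv ≫ g.residueFieldMap x) ≫ ψ := by
  have e : g x = x := by
    have h1 := congrArg (fun k : Spec (CommRingCat.of K) ⟶ X => k default) h
    simp only [Scheme.Hom.comp_apply, Scheme.fromSpecResidueField_apply] at h1
    exact h1.symm
  refine ⟨e, ?_⟩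
  apply Spec.map_injective
  rw [← cancel_mono (X.fromSpecResidueField x), h, Spec.map_comp, Spec.map_comp, Category.assoc,
    Category.assoc]
  congr 1
  have h2 : Spec.map (X.residueFieldCongr e).inv ≫ X.fromSpecResidueField x =
      X.fromSpecResidueField (g x) := X.residueFieldCongr_fromSpecResidueField e.symm
  rw [h2, g.SpecMap_residueFieldMap_fromSpecResidueField]

variable {X Y : Scheme.{u}} {G : Type u} [Group G] [Finite G] {ρ : G →* Aut X} {p : X ⟶ Y}

theorem exists_of_comp_eq (hp : SGA1.IsQuot ρ p) (x : X) {K : Type u} [Field K]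
    (φ ψ : X.residueField x ⟶ CommRingCat.of K)
    (h : p.residueFieldMap x ≫ φ = p.residueFieldMap x ≫ ψ) :
    ∃ (g : G) (e : (ρ g).hom x = x),
      φ = ((X.residueFieldCongr e).inv ≫ (ρ g).hom.residueFieldMap x) ≫ ψ := by
  have h1 : (Spec.map φ ≫ X.fromSpecResidueField x) ≫ p =
      (Spec.map ψ ≫ X.fromSpecResidueField x) ≫ p := by
    rw [Category.assoc, Category.assoc, ← p.SpecMap_residueFieldMap_fromSpecResidueField,
      ← Category.assoc, ← Category.assoc, ← Spec.map_comp, ← Spec.map_comp, h]
  obtain ⟨g, hg⟩ := Groth.Agent.Sga1.Transit.exists_comp_eq hp _ _ h1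
  rw [Category.assoc] at hg
  exact ⟨g, eq_of_comp_eq _ x φ ψ hg⟩

theorem normal (hp : SGA1.IsQuot ρ p) (x : X) :
    letI := (p.residueFieldMap x).hom.toAlgebra
    Normal (Y.residueField (p x)) (X.residueField x) := by
  letI := (p.residueFieldMap x).hom.toAlgebra
  haveI := Groth.Agent.Sga1.QuotBasic.isIntegralHom_of_isQuot hp
  haveI halg := ResInt.isAlgebraic_of_isIntegralHom p x
  rw [normal_iff]
  intro z
  refine ⟨Algebra.IsIntegral.isIntegral z, ?_⟩
  refine Polynomial.Splits.of_splits_map
    (algebraMap (X.residueField x) (AlgebraicClosure (X.residueField x)))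
    (IsAlgClosed.splits _) ?_
  intro r hr
  have hr' : Polynomial.aeval r (minpoly (Y.residueField (p x)) z) = 0 := by
    rw [Polynomial.map_map] at hr
    have := (Polynomial.mem_roots'.mp hr).2
    rwa [Polynomial.IsRoot, Polynomial.eval_map] at this
  obtain ⟨σ, hσ⟩ := IntermediateField.exists_algHom_of_splits_of_aeval
    (fun s => ⟨Algebra.IsIntegral.isIntegral s, IsAlgClosed.splits _⟩) hr'
  obtain ⟨g, e, hg⟩ := exists_of_comp_eq hp x (CommRingCat.ofHom σ.toRingHom)
    (CommRingCat.ofHom (algebraMap (X.residueField x) (AlgebraicClosure (X.residueField x)))) (by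
      ext a
      exact σ.commutes a)
  refine ⟨((X.residueFieldCongr e).inv ≫ (ρ g).hom.residueFieldMap x) z, ?_⟩
  rw [← hσ]
  exact (congrArg (fun k => k.hom z) hg).symm

theorem exists_aut (hp : SGA1.IsQuot ρ p) (x : X) (τ : X.residueField x ≅ X.residueField x)
    (h : p.residueFieldMap x ≫ τ.hom = p.residueFieldMap x) :
    ∃ (g : G) (e : (ρ g).hom x = x),
      τ.hom = (X.residueFieldCongr e).inv ≫ (ρ g).hom.residueFieldMap x := by
  obtain ⟨g, e, hg⟩ := exists_of_comp_eq hp x (K := X.residueField x) τ.hom (𝟙 _)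
    (by rw [h, Category.comp_id])
  exact ⟨g, e, by rw [hg, Category.comp_id]⟩

end K151.QuotRes
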