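import Groth.Agent.SGA1.K151.QuotRes
import Groth.Agent.Sga1.SigmaFinite
import Mathlib.AlgebraicGeometry.PullbackCarrier
import Mathlib.AlgebraicGeometry.Morphisms.Finite
import Mathlib.AlgebraicGeometry.Noetherian
import Mathlib.Topology.Irreducible

/-!
# Finite groups acting transitively on geometric points of the fibres

For a finite group `G` acting on `X` over `S` (`ρ : G →* Aut X`, `q : X ⟶ S` invariant):

* `exists_common_point`: two points of `X` in the same fibre carry geometric points with the same composite to `S`;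
* `exists_apply_eq`: transitivity on geometric points implies transitivity on points;
* `exists_comp_eq_of_normal`: the converse, given normality of residue fields and lifting of automorphisms;
* `image_eq_univ`, `exists_image_eq`: irreducible components.
-/

set_option autoImplicit false
set_option linter.style.haveILetI false
universe u

open CategoryTheory CategoryTheory.Limits AlgebraicGeometry

namespace K151.GeomTrans

variable {X S : Scheme.{u}}

theorem exists_geomPoint (x : X) : ∃ (Ω : Type u) (_ : Field Ω) (_ : IsAlgClosed Ω)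
    (τ : Spec (CommRingCat.of Ω) ⟶ X), ∀ z, τ z = x := by
  refine ⟨AlgebraicClosure (X.residueField x), inferInstance, inferInstance,
    Spec.map (CommRingCat.ofHom (algebraMap (X.residueField x) _)) ≫ X.fromSpecResidueField x,
    fun z => ?_⟩
  rw [Scheme.Hom.comp_apply, Scheme.fromSpecResidueField_apply]

theorem exists_common_point (q : X ⟶ S) (x y : X) (h : q x = q y) :
    ∃ (Ω : Type u) (_ : Field Ω) (_ : IsAlgClosed Ω) (τ₁ τ₂ : Spec (CommRingCat.of Ω) ⟶ X),
      τ₁ ≫ q = τ₂ ≫ q ∧ (∀ z, τ₁ z = x) ∧ (∀ z, τ₂ z = y) := by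
  obtain ⟨z, hz1, hz2⟩ := Scheme.Pullback.exists_preimage_pullback x y h
  obtain ⟨Ω, i1, i2, τ, hτ⟩ := exists_geomPoint z
  refine ⟨Ω, i1, i2, τ ≫ pullback.fst q q, τ ≫ pullback.snd q q, ?_, ?_, ?_⟩
  · rw [Category.assoc, Category.assoc, pullback.condition]
  · intro w
    rw [Scheme.Hom.comp_apply, hτ, hz1]
  · intro w
    rw [Scheme.Hom.comp_apply, hτ, hz2]

variable {G : Type u} [Group G] {ρ : G →* Aut X} {q : X ⟶ S}

theorem exists_apply_eq
    (htrans : ∀ (Ω : Type u) [Field Ω] [IsAlgClosed Ω] (τ₁ τ₂ : Spec (CommRingCat.of Ω) ⟶ X),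
      τ₁ ≫ q = τ₂ ≫ q → ∃ g : G, τ₁ ≫ (ρ g).hom = τ₂) (x y : X) (h : q x = q y) :
    ∃ g : G, (ρ g).hom x = y := by
  obtain ⟨Ω, i1, i2, τ₁, τ₂, hτ, h1, h2⟩ := exists_common_point q x y h
  obtain ⟨g, hg⟩ := htrans Ω τ₁ τ₂ hτ
  refine ⟨g, ?_⟩
  have := congrArg (fun k : Spec (CommRingCat.of Ω) ⟶ X => k default) hg
  simpa only [Scheme.Hom.comp_apply, h1, h2] using this

/-- A field valued point factors through the residue field. -/
theorem exists_factor {Ω : Type u} [Field Ω] (τ : Spec (CommRingCat.of Ω) ⟶ X) (x : X)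
    (hx : τ default = x) : ∃ φ : X.residueField x ⟶ CommRingCat.of Ω,
      τ = Spec.map φ ≫ X.fromSpecResidueField x := by
  have h : τ (IsLocalRing.closedPoint Ω) = x := by
    rw [← hx]
    congr 1
    exact Subsingleton.elim (α := PrimeSpectrum Ω) _ _
  subst h
  exact ⟨X.descResidueField (Scheme.stalkClosedPointTo τ),
    (Scheme.descResidueField_stalkClosedPointTo_fromSpecResidueField Ω X τ).symm⟩

theorem exists_comp_eq_of_normal (hρ : ∀ g : G, (ρ g).hom ≫ q = q)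
    (h1 : ∀ x y : X, q x = q y → ∃ g : G, (ρ g).hom x = y)
    (h2 : ∀ x : X, @Normal (S.residueField (q x)) (X.residueField x) _ _
      (q.residueFieldMap x).hom.toAlgebra)
    (h3 : ∀ (x : X) (σ : X.residueField x ≅ X.residueField x),
      q.residueFieldMap x ≫ σ.hom = q.residueFieldMap x →
      ∃ g : G, X.fromSpecResidueField x ≫ (ρ g).hom = Spec.map σ.hom ≫ X.fromSpecResidueField x)
    (Ω : Type u) [Field Ω] (τ₁ τ₂ : Spec (CommRingCat.of Ω) ⟶ X) (hτ : τ₁ ≫ q = τ₂ ≫ q) :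
    ∃ g : G, τ₁ ≫ (ρ g).hom = τ₂ := by
  have h4 : q (τ₁ default) = q (τ₂ default) :=
    congrArg (fun k : Spec (CommRingCat.of Ω) ⟶ S => k default) hτ
  obtain ⟨g, hg⟩ := h1 _ _ h4
  obtain ⟨x, hx⟩ : ∃ x, τ₂ default = x := ⟨_, rfl⟩
  obtain ⟨φ₁, hφ₁⟩ := exists_factor (τ₁ ≫ (ρ g).hom) x (hg.trans hx)
  obtain ⟨φ₂, hφ₂⟩ := exists_factor τ₂ x hx
  have h5 : q.residueFieldMap x ≫ φ₁ = q.residueFieldMap x ≫ φ₂ := by
    apply Spec.map_injective
    rw [← cancel_mono (S.fromSpecResidueField (q x)), Spec.map_comp, Spec.map_comp, Category.assoc,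
      Category.assoc, q.SpecMap_residueFieldMap_fromSpecResidueField, ← Category.assoc,
      ← Category.assoc, ← hφ₁, ← hφ₂, Category.assoc, hρ, hτ]
  letI a1 : Algebra (S.residueField (q x)) (X.residueField x) := (q.residueFieldMap x).hom.toAlgebra
  haveI := h2 x
  letI a2 : Algebra (X.residueField x) Ω := φ₁.hom.toAlgebra
  letI a3 : Algebra (S.residueField (q x)) Ω := (q.residueFieldMap x ≫ φ₁).hom.toAlgebra
  haveI : IsScalarTower (S.residueField (q x)) (X.residueField x) Ω :=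
    IsScalarTower.of_algebraMap_eq fun a => rfl
  let ϕ : X.residueField x →ₐ[S.residueField (q x)] Ω :=
    { φ₂.hom with commutes' := fun a => congrArg (fun k => k.hom a) h5.symm }
  let σ := ϕ.restrictNormal' (X.residueField x)
  have hσ : ∀ a, φ₁.hom (σ a) = φ₂.hom a := fun a => ϕ.restrictNormal_commutes (X.residueField x) a
  obtain ⟨g', hg'⟩ := h3 x σ.toRingEquiv.toCommRingCatIso (by
    ext a
    exact σ.commutes a)
  refine ⟨g' * g, ?_⟩
  have hmul : (ρ (g' * g)).hom = (ρ g).hom ≫ (ρ g').hom := by rw [map_mul]; rfl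
  rw [hmul, ← Category.assoc, hφ₁, Category.assoc, hg', ← Category.assoc, ← Spec.map_comp]
  have h6 : σ.toRingEquiv.toCommRingCatIso.hom ≫ φ₁ = φ₂ := by
    ext a
    exact hσ a
  rw [h6, ← hφ₂]

/-- The homeomorphism underlying an automorphism. -/
noncomputable def homeo (ρ : G →* Aut X) (g : G) : X ≃ₜ X := Scheme.homeoOfIso (ρ g)

theorem homeo_apply (g : G) (x : X) : homeo ρ g x = (ρ g).hom x := rfl

theorem image_mem_irreducibleComponents (g : G) (T : Set X) (hT : T ∈ irreducibleComponents X) :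
    (fun x => (ρ g).hom x) '' T ∈ irreducibleComponents X := by
  have h1 : IsIrreducible ((fun x => (ρ g).hom x) '' T) :=
    hT.1.image _ (ρ g).hom.continuous.continuousOn
  refine ⟨h1, fun T' hT' hle => ?_⟩
  have h2 : T ⊆ (fun x => (ρ g⁻¹).hom x) '' T' := by
    intro x hx
    refine ⟨(ρ g).hom x, hle ⟨x, hx, rfl⟩, ?_⟩
    change (ρ g⁻¹).hom ((ρ g).hom x) = x
    rw [← Scheme.Hom.comp_apply]
    have : (ρ g).hom ≫ (ρ g⁻¹).hom = 𝟙 X := by
      have : (ρ g).hom ≫ (ρ g⁻¹).hom = (ρ (g⁻¹ * g)).hom := by rw [map_mul]; rfl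
      rw [this, inv_mul_cancel, map_one]; rfl
    rw [this]; rfl
  have h3 : (fun x => (ρ g⁻¹).hom x) '' T' ⊆ T :=
    hT.2 (hT'.image _ (ρ g⁻¹).hom.continuous.continuousOn) h2
  intro y hy
  refine ⟨(ρ g⁻¹).hom y, h3 ⟨y, hy, rfl⟩, ?_⟩
  change (ρ g).hom ((ρ g⁻¹).hom y) = y
  rw [← Scheme.Hom.comp_apply]
  have : (ρ g⁻¹).hom ≫ (ρ g).hom = 𝟙 X := by
    have : (ρ g⁻¹).hom ≫ (ρ g).hom = (ρ (g * g⁻¹)).hom := by rw [map_mul]; rfl
    rw [this, mul_inv_cancel, map_one]; rfl
  rw [this]; rfl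

theorem irreducibleComponents_transitive [IrreducibleSpace S] [Surjective q] [UniversallyClosed q]
    (hρ : ∀ g : G, (ρ g).hom ≫ q = q)
    (htr : ∀ x y : X, q x = q y → ∃ g : G, (ρ g).hom x = y) :
    (∀ T ∈ irreducibleComponents X, (fun x => q x) '' T = Set.univ) ∧
      ∀ T₁ ∈ irreducibleComponents X, ∀ T₂ ∈ irreducibleComponents X,
        ∃ g : G, (fun x => (ρ g).hom x) '' T₁ = T₂ := by
  obtain ⟨x₀, hx₀⟩ := q.surjective (genericPoint S)
  set T₀ := irreducibleComponent x₀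
  have hT₀ : T₀ ∈ irreducibleComponents X := irreducibleComponent_mem_irreducibleComponents x₀
  have himg : (fun x => q x) '' T₀ = Set.univ := by
    have hcl : IsClosed ((fun x => q x) '' T₀) := q.isClosedMap _ isClosed_irreducibleComponent
    have h1 : genericPoint S ∈ (fun x => q x) '' T₀ := ⟨x₀, mem_irreducibleComponent, hx₀⟩
    have h2 : closure {genericPoint S} ⊆ (fun x => q x) '' T₀ :=
      hcl.closure_subset_iff.mpr (Set.singleton_subset_iff.mpr h1)
    rw [genericPoint_closure] at h2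
    exact Set.eq_univ_of_univ_subset h2
  have key : ∀ T ∈ irreducibleComponents X, ∃ g : G, (fun x => (ρ g).hom x) '' T₀ = T := by
    intro T hT
    obtain ⟨η, hη⟩ := QuasiSober.sober hT.1 (isClosed_of_mem_irreducibleComponents T hT)
    have h1 : q η ∈ (fun x => q x) '' T₀ := himg ▸ Set.mem_univ _
    obtain ⟨x, hx, hxη⟩ := h1
    obtain ⟨g, hg⟩ := htr x η hxη
    refine ⟨g, ?_⟩
    have hgT := image_mem_irreducibleComponents (ρ := ρ) g T₀ hT₀
    have h2 : η ∈ (fun x => (ρ g).hom x) '' T₀ := ⟨x, hx, hg⟩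
    have h3 : T ⊆ (fun x => (ρ g).hom x) '' T₀ := by
      rw [← hη.def]
      exact (isClosed_of_mem_irreducibleComponents _ hgT).closure_subset_iff.mpr
        (Set.singleton_subset_iff.mpr h2)
    exact (hT.eq_of_subset hgT.1 h3).symm ▸ rfl
  refine ⟨fun T hT => ?_, fun T₁ hT₁ T₂ hT₂ => ?_⟩
  · obtain ⟨g, rfl⟩ := key T hT
    rw [Set.image_image, ← himg]
    congr 1
    ext x
    rw [← Scheme.Hom.comp_apply, hρ]
  · obtain ⟨g₁, rfl⟩ := key T₁ hT₁
    obtain ⟨g₂, rfl⟩ := key T₂ hT₂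
    refine ⟨g₂ * g₁⁻¹, ?_⟩
    rw [Set.image_image]
    congr 1
    ext x
    rw [← Scheme.Hom.comp_apply]
    have : (ρ g₁).hom ≫ (ρ (g₂ * g₁⁻¹)).hom = (ρ (g₂ * g₁⁻¹ * g₁)).hom := by
      rw [map_mul ρ (g₂ * g₁⁻¹) g₁]; rfl
    rw [this, inv_mul_cancel_right]

theorem isFinite_surjective_graph [Finite G] {Y : Scheme.{u}} [IsFinite q]
    (htrans : ∀ (Ω : Type u) [Field Ω] [IsAlgClosed Ω] (τ₁ τ₂ : Spec (CommRingCat.of Ω) ⟶ X),
      τ₁ ≫ q = τ₂ ≫ q → ∃ g : G, τ₁ ≫ (ρ g).hom = τ₂)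
    (r : Y ⟶ X) {f : Y ⟶ S} (hf : r ≫ q = f) (υ : (∐ fun _ : G => Y) ⟶ pullback f q)
    (hυ₁ : ∀ σ : G, Sigma.ι (fun _ : G => Y) σ ≫ υ ≫ pullback.fst f q = 𝟙 Y)
    (hυ₂ : ∀ σ : G, Sigma.ι (fun _ : G => Y) σ ≫ υ ≫ pullback.snd f q = r ≫ (ρ σ).hom) :
    IsFinite υ ∧ Surjective υ := by
  constructor
  · have h1 : υ ≫ pullback.fst f q = Sigma.desc (fun _ : G => 𝟙 Y) := by
      apply Sigma.hom_ext
      intro σ
      rw [hυ₁, Sigma.ι_desc]
    have h2 : IsFinite (υ ≫ pullback.fst f q) := by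
      rw [h1]
      exact Groth.Agent.Sga1.SigmaFinite.isFinite_sigmaDesc _
    exact IsFinite.of_comp υ (pullback.fst f q)
  · refine ⟨fun z => ?_⟩
    obtain ⟨Ω, i1, i2, τ, hτ⟩ := exists_geomPoint z
    obtain ⟨g, hg⟩ := htrans Ω (τ ≫ pullback.fst f q ≫ r) (τ ≫ pullback.snd f q) (by
      rw [Category.assoc, Category.assoc, Category.assoc, hf, pullback.condition])
    have h3 : τ = (τ ≫ pullback.fst f q) ≫ Sigma.ι (fun _ : G => Y) g ≫ υ := by
      apply pullback.hom_ext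
      · rw [Category.assoc, Category.assoc, Category.assoc, hυ₁, Category.comp_id]
      · rw [Category.assoc, Category.assoc, Category.assoc, hυ₂, ← hg, Category.assoc,
          Category.assoc]
    refine ⟨Sigma.ι (fun _ : G => Y) g ((τ ≫ pullback.fst f q) default), ?_⟩
    rw [← hτ default]
    conv_rhs => rw [h3]
    rfl

end K151.GeomTrans
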