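import Groth.Agent.SGA1.K151.GeomTrans
import Groth.Prelude.Def_SGA1
import Mathlib.AlgebraicGeometry.Morphisms.QuasiFinite
import Mathlib.CategoryTheory.Sites.Hypercover.Zero
import Mathlib.CategoryTheory.Sites.IsSheafFor

/-!
# qfh sheaves and quotients
-/

set_option autoImplicit false
set_option linter.style.haveILetI false
universe w u

open CategoryTheory CategoryTheory.Limits AlgebraicGeometry

namespace K151.QfhInv

theorem univSubmersive_of_universallyClosed {X Y : Scheme.{u}} (f : X ⟶ Y) [Surjective f]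
    [UniversallyClosed f] : SGA1.UnivSubmersive f := by
  intro X' Y' i₁ i₂ f' h
  have h1 : Surjective f' := MorphismProperty.of_isPullback h.flip ‹Surjective f›
  have h2 : UniversallyClosed f' := MorphismProperty.of_isPullback h.flip ‹UniversallyClosed f›
  exact f'.isClosedMap.isQuotientMap f'.continuous f'.surjective

variable (F : Scheme.{u}ᵒᵖ ⥤ Type w)

/-- The sheaf condition for finite families of finite jointly surjective morphisms. -/
def IsFinSheaf : Prop := ∀ ⦃T : Scheme.{u}⦄ (E : PreZeroHypercover.{u} T), Finite E.I₀ →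
    (∀ i, IsFinite (E.f i)) → Surjective (Sigma.desc E.f) → Presieve.IsSheafFor F E.presieve₀

variable {F}

theorem isFinSheaf_of_qfh
    (hF : ∀ ⦃T : Scheme.{u}⦄ (E : PreZeroHypercover.{u} T), Finite E.I₀ →
      (∀ i, LocallyOfFiniteType (E.f i)) → (∀ i, QuasiCompact (E.f i)) →
      (∀ i, LocallyQuasiFinite (E.f i)) → SGA1.UnivSubmersive (Sigma.desc E.f) →
      Presieve.IsSheafFor F E.presieve₀) : IsFinSheaf F := by
  intro T E h1 h2 h3
  have h4 := Groth.Agent.Sga1.SigmaFinite.isFinite_sigmaDesc E.f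
  exact hF E h1 (fun i => inferInstance) (fun i => inferInstance) (fun i => inferInstance)
    (univSubmersive_of_universallyClosed _)

theorem IsFinSheaf.eq (hF : IsFinSheaf F) {T : Scheme.{u}} {ι : Type u} [Finite ι]
    {Y : ι → Scheme.{u}} (f : ∀ i, Y i ⟶ T) [∀ i, IsFinite (f i)] [Surjective (Sigma.desc f)]
    (a b : F.obj (Opposite.op T)) (h : ∀ i, F.map (f i).op a = F.map (f i).op b) : a = b := by
  refine (hF ⟨ι, Y, f⟩ inferInstance inferInstance inferInstance).isSeparatedFor.ext ?_
  rintro Z _ ⟨i⟩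
  exact h i

theorem IsFinSheaf.exists_map_eq (hF : IsFinSheaf F) {X T : Scheme.{u}} (q : X ⟶ T) [IsFinite q]
    [Surjective q] (x : F.obj (Opposite.op X))
    (h : F.map (pullback.fst q q).op x = F.map (pullback.snd q q).op x) :
    ∃ y, F.map q.op y = x := by
  have hs : Surjective (Sigma.desc (fun _ : PUnit.{u + 1} => q)) := by
    have : Sigma.ι (fun _ : PUnit.{u + 1} => X) PUnit.unit ≫ Sigma.desc (fun _ : PUnit.{u + 1} => q) = q :=
      Sigma.ι_desc _ _
    have h2 : Surjective (Sigma.ι (fun _ : PUnit.{u + 1} => X) PUnit.unit ≫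
        Sigma.desc (fun _ : PUnit.{u + 1} => q)) := by rw [this]; infer_instance
    exact Surjective.of_comp (Sigma.ι (fun _ : PUnit.{u + 1} => X) PUnit.unit) _
  have h1 := hF (T := T) ⟨PUnit.{u + 1}, fun _ => X, fun _ => q⟩ inferInstance
    (fun _ => inferInstance) hs
  change Presieve.IsSheafFor F (Presieve.ofArrows (fun _ : PUnit.{u + 1} => X) (fun _ => q)) at h1
  rw [Presieve.isSheafFor_arrows_iff] at h1
  obtain ⟨t, ht, -⟩ := h1 (fun _ => x) (by
    intro i j Z a b hab
    have e1 : pullback.lift a b hab ≫ pullback.fst q q = a := pullback.lift_fst _ _ _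
    have e2 : pullback.lift a b hab ≫ pullback.snd q q = b := pullback.lift_snd _ _ _
    change F.map a.op x = F.map b.op x
    rw [← e1]
    conv_rhs => rw [← e2]
    rw [op_comp, op_comp, F.map_comp, F.map_comp]
    exact congrArg (F.map (pullback.lift a b hab).op) h)
  exact ⟨t, ht PUnit.unit⟩

theorem sections_eq_invariants {X S : Scheme.{u}} (q : X ⟶ S) [IsFinite q] [Surjective q]
    {G : Type u} [Group G] [Finite G] (ρ : G →* Aut X) (hρ : ∀ g : G, (ρ g).hom ≫ q = q)
    (htrans : ∀ (Ω : Type u) [Field Ω] [IsAlgClosed Ω] (τ₁ τ₂ : Spec (CommRingCat.of Ω) ⟶ X),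
      τ₁ ≫ q = τ₂ ≫ q → ∃ g : G, τ₁ ≫ (ρ g).hom = τ₂) (hF : IsFinSheaf F) :
    Function.Injective (F.map q.op) ∧
      Set.range (F.map q.op) = {f : F.obj (Opposite.op X) | ∀ g : G, F.map (ρ g).hom.op f = f} := by
  have hs : Surjective (Sigma.desc (fun _ : PUnit.{u + 1} => q)) := by
    have : Sigma.ι (fun _ : PUnit.{u + 1} => X) PUnit.unit ≫ Sigma.desc (fun _ : PUnit.{u + 1} => q) = q :=
      Sigma.ι_desc _ _
    have h2 : Surjective (Sigma.ι (fun _ : PUnit.{u + 1} => X) PUnit.unit ≫
        Sigma.desc (fun _ : PUnit.{u + 1} => q)) := by rw [this]; infer_instance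
    exact Surjective.of_comp (Sigma.ι (fun _ : PUnit.{u + 1} => X) PUnit.unit) _
  refine ⟨fun a b hab => hF.eq (fun _ : PUnit.{u + 1} => q) a b fun _ => hab, ?_⟩
  ext f
  constructor
  · rintro ⟨a, rfl⟩ g
    have h1 := congrArg (fun k : X ⟶ S => F.map k.op a) (hρ g)
    simp only [op_comp, F.map_comp] at h1
    exact h1
  · intro hf
    apply hF.exists_map_eq q
    let γ : G → (X ⟶ pullback q q) := fun g => pullback.lift (𝟙 X) (ρ g).hom (by
      rw [Category.id_comp, hρ])
    obtain ⟨h1, h2⟩ := GeomTrans.isFinite_surjective_graph htrans (𝟙 X) (Category.id_comp q)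
      (Sigma.desc γ) (fun σ => by rw [Sigma.ι_desc_assoc, pullback.lift_fst])
      (fun σ => by rw [Sigma.ι_desc_assoc, pullback.lift_snd, Category.id_comp])
    have h3 : ∀ g, IsFinite (γ g) := by
      intro g
      have h4 : γ g ≫ pullback.fst q q = 𝟙 X := pullback.lift_fst _ _ _
      have h5 : IsFinite (γ g ≫ pullback.fst q q) := by rw [h4]; infer_instance
      exact IsFinite.of_comp (γ g) (pullback.fst q q)
    apply hF.eq γ
    intro g
    have e1 : γ g ≫ pullback.fst q q = 𝟙 X := pullback.lift_fst _ _ _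
    have e2 : γ g ≫ pullback.snd q q = (ρ g).hom := pullback.lift_snd _ _ _
    have e3 : F.map (γ g).op (F.map (pullback.fst q q).op f) = F.map (γ g ≫ pullback.fst q q).op f := by
      rw [op_comp, F.map_comp]; rfl
    have e4 : F.map (γ g).op (F.map (pullback.snd q q).op f) = F.map (γ g ≫ pullback.snd q q).op f := by
      rw [op_comp, F.map_comp]; rfl
    rw [e3, e4, e1, e2, hf g, op_id, F.map_id]
    rfl

end K151.QfhInv
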