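import Groth.Agent.SGA1.K151.PicLift
import Groth.Agent.Desc.K390.PnSec
import Groth.Agent.CohqB.ProjBC
import Groth.Agent.Ega3A.PChart
import Groth.Agent.Flat2H.ThickFibre
import Groth.Agent.S0023
import Groth.Agent.FormalB.PnCoh
import Groth.Agent.MorSch.K921.IsoLocus
import Groth.Agent.Coherent.K45.HomLift
import Groth.Agent.Fga.HShift

/-!
# Rigidity of projective space over a complete local ring
-/

set_option autoImplicit false
universe u

open CategoryTheory CategoryTheory.Limits AlgebraicGeometry Opposite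

namespace K151.RigidPn

open Groth.Agent IsLocalRing Groth.Agent.Fdesc.LocGen K390.PnSec
open Groth.Agent.CohqB.ProjBC (pmap pmap_toSpec isPullback_pmap)

variable {A : Type u} [CommRing A] [IsNoetherianRing A] [IsLocalRing A] {X : Scheme.{u}}
  [X.Over (Spec (CommRingCat.of A))]
  {Z : Scheme.{u}} {j : Z ⟶ X} {q : Z ⟶ Spec (CommRingCat.of (ResidueField A))}
  (H : IsPullback j q (X ↘ Spec (CommRingCat.of A)) (Spec.map (CommRingCat.ofHom (residue A))))

omit [IsNoetherianRing A] in
include H in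
theorem mem_range_iff (x : X) (hx : (X ↘ Spec (CommRingCat.of A)) x ∈
    PrimeSpectrum.zeroLocus (maximalIdeal A : Set A)) : ∃ z, j z = x := by
  have h1 : Set.range j = (X ↘ Spec (CommRingCat.of A)) ⁻¹'
      Set.range (Spec.map (CommRingCat.ofHom (residue A))) := by
    rw [← Scheme.Pullback.range_fst, ← H.isoPullback_hom_fst, Scheme.Hom.comp_base,
      TopCat.coe_comp, Set.range_comp]
    have : Function.Surjective H.isoPullback.hom := H.isoPullback.hom.surjective
    rw [this.range_eq, Set.image_univ]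
  have h2 : x ∈ Set.range j := by
    rw [h1]
    have h3 : Set.range (Spec.map (CommRingCat.ofHom (residue A))) =
        PrimeSpectrum.zeroLocus (maximalIdeal A : Set A) := by
      have := range_comap_of_surjective _ (residue A) residue_surjective
      rw [ker_residue] at this
      exact this
    change _ ∈ Set.range _
    rw [h3]
    exact hx
  exact h2

include H in
/-- The morphism to projective space given by sections on the closed fibre lifts. -/
theorem exists_map [IsProper (X ↘ Spec (CommRingCat.of A))] [Flat (X ↘ Spec (CommRingCat.of A))]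
    [IsAdicComplete (maximalIdeal A) A] (r : ℕ) (r₀ : Z ⟶ CohB1.ProjSpace r A)
    (hr₀ : r₀ ≫ CohB1.ProjSpace.toSpec r A = j ≫ (X ↘ Spec (CommRingCat.of A)))
    (h1 : Subsingleton (Coh.HH Z (Coh.structureModule Z) 1))
    (h2 : Subsingleton (Coh.HH Z (Coh.structureModule Z) 2))
    (h3 : Subsingleton (Coh.HH Z ((Scheme.Modules.pullback r₀).obj (O1 r A)) 1)) :
    ∃ ρ : X ⟶ CohB1.ProjSpace r A, ρ ≫ CohB1.ProjSpace.toSpec r A = (X ↘ Spec (CommRingCat.of A)) ∧
      j ≫ ρ = r₀ := by
  obtain ⟨L, hL, ⟨e⟩⟩ := PicLift.exists_lift H h1 h2 ((Scheme.Modules.pullback r₀).obj (O1 r A))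
    (Sga2.PicThick.isInvertible_pullback _ (isInvertible_O1 r A))
  have hLf : FlatMod.IsFinLocFree L :=
    Ega2.QCohLocal.isFinLocFree_of_rank (Ega2.QCohLocal.isFinLocFreeOfRank_one_iff.mpr hL)
  obtain ⟨t, ht⟩ : ∃ t, GivenBy r₀ ((Scheme.Modules.pullback j).obj L) t :=
    ⟨_, (GivenBy.refl r₀).of_iso e.symm⟩
  have hs : ∀ i, ∃ s : Γ(L, ⊤), pullTop j s = t i := fun i =>
    ClosedVan.exists_section L (Groth.Agent.PerfA.CohSerre.isCoh_of_isFinLocFree hLf)
      (K45.HomLift.isFlatOver_of_flf _ hLf) H (Fga.HShift.subsingleton_of_iso e.symm 1 h3) (t i)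
  choose s hs using hs
  have hcov : ⨆ i, CohB1.genLocus L (homOf (s i)) = ⊤ := by
    refine K730.NhdTop.eq_top (I := maximalIdeal A) (IsAdicComplete.le_jacobson_bot _)
      (X ↘ Spec (CommRingCat.of A)) (X ↘ Spec (CommRingCat.of A)).isClosedMap _ fun x hx => ?_
    obtain ⟨z, rfl⟩ := mem_range_iff H x hx
    have h4 : z ∈ ⨆ i, CohB1.genLocus _ (homOf (t i)) := by
      rw [ht.iSup_genLocus]
      trivial
    rw [TopologicalSpace.Opens.mem_iSup] at h4 ⊢
    obtain ⟨i, hi⟩ := h4
    refine ⟨i, ?_⟩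
    rw [← hs i, genLocus_pullTop j hL] at hi
    exact hi
  obtain ⟨ρ, hρ, hg⟩ := exists_givenBy (X ↘ Spec (CommRingCat.of A)) s hcov
  refine ⟨ρ, hρ, ?_⟩
  have h5 := hg.comp j
  have h6 : (fun i => pullTop j (s i)) = t := funext hs
  rw [h6] at h5
  refine h5.unique ht ?_
  rw [Category.assoc, hρ, hr₀]

include H in
theorem main [IsProper (X ↘ Spec (CommRingCat.of A))] [Flat (X ↘ Spec (CommRingCat.of A))]
    [IsAdicComplete (maximalIdeal A) A] (r : ℕ) (e₀ : Z ≅ CohB1.ProjSpace r (ResidueField A))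
    (he₀ : e₀.hom ≫ CohB1.ProjSpace.toSpec r (ResidueField A) = q) :
    ∃ e : X ≅ CohB1.ProjSpace r A,
      e.hom ≫ CohB1.ProjSpace.toSpec r A = (X ↘ Spec (CommRingCat.of A)) := by
  have hO : ∀ n, 0 < n → Subsingleton (Coh.HH Z (Coh.structureModule Z) n) := fun n hn =>
    Fga.HShift.subsingleton_of_iso (Fga.UnitRestrict.pullbackUnitIso e₀.hom) n
      ((Flat2H.ThickFibre.subsingleton_HH_pullback_iff e₀.hom _
        (Groth.Agent.Ega2.QCohLocal.isQCoh_structureModule _) n).mpr (S0023.result r _ n hn))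
  have h3 : Subsingleton (Coh.HH Z ((Scheme.Modules.pullback (e₀.hom ≫ pmap (residue A) r)).obj
      (O1 r A)) 1) := by
    refine Fga.HShift.subsingleton_of_iso ((Scheme.Modules.pullback e₀.hom).mapIso
      (Groth.Agent.Ega3A.PChart.pullTwistIso (residue A) r 1).symm ≪≫
      (Scheme.Modules.pullbackComp e₀.hom (pmap (residue A) r)).app (O1 r A)) 1 ?_
    refine (Flat2H.ThickFibre.subsingleton_HH_pullback_iff e₀.hom _
      (Ega2.QCohLocal.isQCoh_of_isInvertible (isInvertible_O1 r _)) 1).mpr ?_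
    exact Groth.Agent.FormalB.PnCoh.vanish r _ 1 1 (by omega) (by omega)
  obtain ⟨ρ, hρ, hj⟩ := exists_map H r (e₀.hom ≫ pmap (residue A) r)
    (by rw [Category.assoc, pmap_toSpec, ← Category.assoc, he₀, H.w]) (hO 1 one_pos) (hO 2 two_pos) h3
  have hP := isPullback_pmap (residue A) r
  have HZ : IsPullback j e₀.hom ρ (pmap (residue A) r) := by
    refine (IsPullback.of_right ?_ hj.symm hP.flip).flip
    rw [he₀, hρ]
    exact H.flip
  have hpr : IsProper (CohB1.ProjSpace.toSpec r A) := inferInstance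
  have hloc : Set.range (Spec.map (CommRingCat.ofHom (residue A))) ⊆
      (K921.IsoLocus.locus ρ (CohB1.ProjSpace.toSpec r A) : Set (Spec (CommRingCat.of A))) :=
    (K921.IsoLocus.isIso_baseChange_iff ρ _ (CohB1.ProjSpace.toSpec r A) hρ HZ hP).mp inferInstance
  have htop : Set.range (𝟙 (Spec (CommRingCat.of A))) ⊆
      (K921.IsoLocus.locus ρ (CohB1.ProjSpace.toSpec r A) : Set (Spec (CommRingCat.of A))) := by
    have h7 : K921.IsoLocus.locus ρ (CohB1.ProjSpace.toSpec r A) = ⊤ := by
      refine K730.NhdTop.eq_top (I := maximalIdeal A) (IsAdicComplete.le_jacobson_bot _)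
        (𝟙 _) (Homeomorph.refl _).isClosedMap _ fun x hx => hloc ?_
      have := range_comap_of_surjective _ (residue A) residue_surjective
      rw [ker_residue] at this
      exact this.symm ▸ hx
    rw [h7]
    exact Set.subset_univ _
  have hiso : IsIso ρ := (K921.IsoLocus.isIso_baseChange_iff ρ _ (CohB1.ProjSpace.toSpec r A) hρ
    (t := 𝟙 _) (f' := ρ) (pX := 𝟙 _) (pY := 𝟙 _) (h' := CohB1.ProjSpace.toSpec r A)
    (IsPullback.of_horiz_isIso ⟨by simp⟩) (IsPullback.of_horiz_isIso ⟨by simp⟩)).mpr htop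
  exact ⟨asIso ρ, hρ⟩

end K151.RigidPn
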