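import Mathlib.RingTheory.Smooth.Local
import Mathlib.RingTheory.Smooth.Locus
import Mathlib.RingTheory.Etale.Kaehler
import Mathlib.RingTheory.LocalRing.Module
import Mathlib.RingTheory.Localization.Algebra
import Mathlib.RingTheory.LocalRing.ResidueField.Ideal
import Mathlib.RingTheory.RingHom.Smooth

/-!
# The Jacobian criterion at a point of a closed subscheme
-/

set_option autoImplicit false
set_option linter.style.haveILetI false
universe u

open TensorProduct IsLocalRing KaehlerDifferential

namespace K151.JacCrit

section Abstract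

variable {L : Type*} [CommRing L] [IsLocalRing L] {J : Type*} [AddCommGroup J] [Module L J]
  [Module.Finite L J] {W : Type*} [AddCommGroup W] [Module (ResidueField L) W]
  (ψ : ResidueField L ⊗[L] J →ₗ[ResidueField L] W)

omit [Module.Finite L J] in
theorem span_tmul_eq_top {ι : Type*} (t : ι → J) (hspan : Submodule.span L (Set.range t) = ⊤) :
    Submodule.span (ResidueField L)
      (Set.range fun i => (1 : ResidueField L) ⊗ₜ[L] t i) = ⊤ := by
  rw [eq_top_iff]
  rintro x -
  induction x with
  | zero => exact zero_mem _
  | add x y hx hy => exact add_mem hx hy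
  | tmul k j =>
    have hj : j ∈ Submodule.span L (Set.range t) := hspan ▸ Submodule.mem_top
    have h1 : (1 : ResidueField L) ⊗ₜ[L] j ∈ Submodule.span (ResidueField L)
        (Set.range fun i => (1 : ResidueField L) ⊗ₜ[L] t i) := by
      induction hj using Submodule.span_induction with
      | mem x hx =>
        obtain ⟨i, rfl⟩ := hx
        exact Submodule.subset_span ⟨i, rfl⟩
      | zero => rw [tmul_zero]; exact zero_mem _
      | add x y _ _ hx hy => rw [tmul_add]; exact add_mem hx hy
      | smul a x _ hx =>
        rw [tmul_smul, ← algebraMap_smul (ResidueField L) a]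
        exact Submodule.smul_mem _ _ hx
    have h2 : k ⊗ₜ[L] j = k • ((1 : ResidueField L) ⊗ₜ[L] j) := by
      rw [smul_tmul', smul_eq_mul, mul_one]
    rw [h2]
    exact Submodule.smul_mem _ _ h1

omit [Module.Finite L J] in
theorem injective_of_linearIndependent {ι : Type*} (t : ι → J)
    (hspan : Submodule.span L (Set.range t) = ⊤)
    (hli : LinearIndependent (ResidueField L) (fun i => ψ (1 ⊗ₜ t i))) : Function.Injective ψ := by
  have h1 : Function.Surjective (Finsupp.linearCombination (ResidueField L)
      (fun i => (1 : ResidueField L) ⊗ₜ[L] t i)) := by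
    rw [← LinearMap.range_eq_top, Finsupp.range_linearCombination, span_tmul_eq_top t hspan]
  have h2 : ψ ∘ₗ Finsupp.linearCombination (ResidueField L)
      (fun i => (1 : ResidueField L) ⊗ₜ[L] t i) =
      Finsupp.linearCombination (ResidueField L) (fun i => ψ (1 ⊗ₜ t i)) := by
    ext i
    simp
  have h3 : Function.Injective (ψ ∘ Finsupp.linearCombination (ResidueField L)
      (fun i => (1 : ResidueField L) ⊗ₜ[L] t i)) := by
    have := hli
    rw [LinearIndependent, ← h2] at this
    exact this
  exact Function.Injective.of_comp_right h3 h1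

theorem exists_of_injective {ι : Type*} (t : ι → J)
    (hspan : Submodule.span L (Set.range t) = ⊤) (hψ : Function.Injective ψ) :
    ∃ (s : Finset ι), Submodule.span L (Set.range fun i : s => t i) = ⊤ ∧
      LinearIndependent (ResidueField L) (fun i : s => ψ (1 ⊗ₜ t i)) := by
  classical
  obtain ⟨κ, a, ha, hsp, hli⟩ := exists_linearIndependent' (ResidueField L)
    (fun i => (1 : ResidueField L) ⊗ₜ[L] t i)
  rw [span_tmul_eq_top t hspan] at hsp
  let b : Module.Basis κ (ResidueField L) (ResidueField L ⊗[L] J) := Module.Basis.mk hli hsp.ge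
  have hfin : Finite κ := Module.Finite.finite_basis b
  cases nonempty_fintype κ
  have h1 : Submodule.span L (Set.range (fun k => t (a k))) = ⊤ :=
    span_eq_top_of_tmul_eq_basis (fun k => t (a k)) b fun k => (Module.Basis.mk_apply hli hsp.ge k).symm
  let e : κ ≃ (Finset.univ.image a : Finset ι) :=
    Equiv.ofBijective (fun k => ⟨a k, Finset.mem_image_of_mem _ (Finset.mem_univ k)⟩)
      ⟨fun x y h => ha (congrArg Subtype.val h), fun ⟨i, hi⟩ => by
        obtain ⟨k, -, hk⟩ := Finset.mem_image.mp hi
        exact ⟨k, Subtype.ext hk⟩⟩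
  refine ⟨Finset.univ.image a, ?_, ?_⟩
  · rw [← h1]
    congr 1
    exact (e.surjective.range_comp _).symm
  · rw [← linearIndependent_equiv e]
    exact hli.map' ψ (LinearMap.ker_eq_bot.mpr hψ)

end Abstract

section Local

variable {R A : Type u} [CommRing R] [CommRing A] [Algebra R A] (I : Ideal A)
  (P : Ideal (A ⧸ I)) [P.IsPrime]

local notation "qq" => P.comap (Ideal.Quotient.mk I)

theorem map_primeCompl : Submonoid.map (Ideal.Quotient.mk I) (qq).primeCompl = P.primeCompl := by
  ext x
  constructor
  · rintro ⟨y, hy, rfl⟩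
    exact hy
  · intro hx
    obtain ⟨y, rfl⟩ := Ideal.Quotient.mk_surjective x
    exact ⟨y, hx, rfl⟩

/-- The map `A_q → (A/I)_P`. -/
noncomputable abbrev locMap : Localization.AtPrime (qq) →+* Localization.AtPrime P :=
  Localization.localRingHom (qq) P (Ideal.Quotient.mk I) rfl

theorem locMap_surjective : Function.Surjective (locMap I P) := by
  intro x
  obtain ⟨⟨y, s⟩, h⟩ := IsLocalization.surj P.primeCompl x
  obtain ⟨y', rfl⟩ := Ideal.Quotient.mk_surjective y
  obtain ⟨s, hs⟩ := s
  obtain ⟨s', rfl⟩ := Ideal.Quotient.mk_surjective s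
  refine ⟨IsLocalization.mk' _ y' (⟨s', hs⟩ : (qq).primeCompl), ?_⟩
  rw [Localization.localRingHom_mk']
  rw [IsLocalization.mk'_eq_iff_eq_mul]
  exact h.symm

theorem ker_locMap : RingHom.ker (locMap I P) =
    I.map (algebraMap A (Localization.AtPrime (qq))) := by
  have := IsLocalization.ker_map (S := Localization.AtPrime (qq)) (Localization.AtPrime P)
    (Ideal.Quotient.mk I) (map_primeCompl I P)
  rw [Ideal.mk_ker] at this
  exact this

end Local

theorem span_eq_top_iff {L : Type*} [CommRing L] (J : Ideal L) {ι : Type*} (t : ι → J) :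
    Submodule.span L (Set.range t) = ⊤ ↔ Ideal.span (Set.range fun i => (t i : L)) = J := by
  rw [← (Submodule.map_injective_of_injective (Submodule.injective_subtype J)).eq_iff,
    Submodule.map_span, Submodule.map_top, Submodule.range_subtype, ← Set.range_comp]
  rfl

section Main

variable (R : Type u) {A : Type u} [CommRing R] [CommRing A] [Algebra R A] (I : Ideal A)
  (P : Ideal (A ⧸ I)) [P.IsPrime]

local notation "qq" => P.comap (Ideal.Quotient.mk I)

/-- The map `(A/I)_P → κ(q)`. -/
noncomputable def toRes : Localization.AtPrime P →+* (qq).ResidueField :=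
  IsLocalization.lift (M := P.primeCompl)
    (g := Ideal.Quotient.lift I (algebraMap A (qq).ResidueField) (fun a ha => by
      rw [← RingHom.mem_ker, Ideal.ker_algebraMap_residueField]
      change Ideal.Quotient.mk I a ∈ P
      rw [Ideal.Quotient.eq_zero_iff_mem.mpr ha]
      exact P.zero_mem)) (by
    rintro ⟨y, hy⟩
    obtain ⟨a, rfl⟩ := Ideal.Quotient.mk_surjective y
    rw [isUnit_iff_ne_zero]
    change algebraMap A (qq).ResidueField a ≠ 0
    rw [Ne, ← RingHom.mem_ker, Ideal.ker_algebraMap_residueField]
    exact hy)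

theorem toRes_comp : (toRes I P).comp (locMap I P) =
    algebraMap (Localization.AtPrime (qq)) (qq).ResidueField := by
  refine IsLocalization.ringHom_ext (qq).primeCompl ?_
  ext a
  change toRes I P (locMap I P (algebraMap A _ a)) = algebraMap _ _ (algebraMap A _ a)
  rw [locMap, Localization.localRingHom_to_map, toRes, IsLocalization.lift_eq]
  exact (IsScalarTower.algebraMap_apply A (Localization.AtPrime (qq)) (qq).ResidueField a).symm

theorem toRes_maximalIdeal : maximalIdeal (Localization.AtPrime P) ≤ RingHom.ker (toRes I P) := by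
  intro x hx
  rw [RingHom.mem_ker]
  by_contra h
  obtain ⟨y, rfl⟩ := locMap_surjective I P x
  have h1 : algebraMap (Localization.AtPrime (qq)) (qq).ResidueField y ≠ 0 := by
    rw [← toRes_comp]
    exact h
  have h2 : IsUnit y := by
    by_contra h3
    exact h1 ((residue_eq_zero_iff y).mpr h3)
  exact hx (h2.map (locMap I P))

variable [IsNoetherianRing A] [Algebra.EssFiniteType R A]

theorem isSmoothAt_iff_injective (hsm : Algebra.IsSmoothAt R (qq)) :
    letI : Algebra (Localization.AtPrime (qq)) (Localization.AtPrime P) := (locMap I P).toAlgebra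
    letI : Algebra (Localization.AtPrime P) (qq).ResidueField := (toRes I P).toAlgebra
    haveI : IsScalarTower (Localization.AtPrime (qq)) (Localization.AtPrime P) (qq).ResidueField :=
      IsScalarTower.of_algebraMap_eq' (toRes_comp I P).symm
    Algebra.IsSmoothAt R P ↔ Function.Injective (cotangentComplexBaseChange R
      (Localization.AtPrime P) (Localization.AtPrime (qq)) (qq).ResidueField) := by
  letI : Algebra (Localization.AtPrime (qq)) (Localization.AtPrime P) := (locMap I P).toAlgebra
  letI : Algebra (Localization.AtPrime P) (qq).ResidueField := (toRes I P).toAlgebra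
  haveI : IsScalarTower (Localization.AtPrime (qq)) (Localization.AtPrime P) (qq).ResidueField :=
    IsScalarTower.of_algebraMap_eq' (toRes_comp I P).symm
  haveI : IsScalarTower R (Localization.AtPrime (qq)) (Localization.AtPrime P) := by
    refine IsScalarTower.of_algebraMap_eq fun r => ?_
    change _ = locMap I P _
    rw [IsScalarTower.algebraMap_apply R A (Localization.AtPrime (qq)), locMap,
      Localization.localRingHom_to_map]
    rfl
  haveI h0 : Algebra.FormallySmooth R (Localization.AtPrime (qq)) := hsm
  haveI : Algebra.EssFiniteType R (Localization.AtPrime (qq)) :=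
    Algebra.EssFiniteType.comp R A (Localization.AtPrime (qq))
  haveI : IsNoetherianRing (Localization.AtPrime (qq)) :=
    IsLocalization.isNoetherianRing (qq).primeCompl _ inferInstance
  haveI : Module.Projective (Localization.AtPrime (qq)) Ω[Localization.AtPrime (qq)⁄R] :=
    inferInstance
  haveI : Module.Free (Localization.AtPrime (qq)) Ω[Localization.AtPrime (qq)⁄R] :=
    Module.free_of_flat_of_isLocalRing
  exact Algebra.FormallySmooth.iff_injective_cotangentComplexBaseChange
    (Localization.AtPrime (qq)) (qq).ResidueField (locMap_surjective I P)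
    (IsNoetherian.noetherian _) (toRes_maximalIdeal I P)

/-- The comparison of differentials. -/
noncomputable def resKaehler :
    (qq).ResidueField ⊗[Localization.AtPrime (qq)] Ω[Localization.AtPrime (qq)⁄R]
      ≃ₗ[(qq).ResidueField] (qq).ResidueField ⊗[A] Ω[A⁄R] :=
  (AlgebraTensorModule.congr (LinearEquiv.refl (qq).ResidueField (qq).ResidueField)
    (tensorKaehlerEquivOfFormallyEtale R A (Localization.AtPrime (qq))).symm) ≪≫ₗ
    AlgebraTensorModule.cancelBaseChange A (Localization.AtPrime (qq)) (qq).ResidueField
      (qq).ResidueField Ω[A⁄R]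

omit [IsNoetherianRing A] [Algebra.EssFiniteType R A] in
theorem resKaehler_apply (a : A) :
    resKaehler R I P ((1 : (qq).ResidueField) ⊗ₜ[Localization.AtPrime (qq)]
      D R (Localization.AtPrime (qq)) (algebraMap A (Localization.AtPrime (qq)) a)) =
      (1 : (qq).ResidueField) ⊗ₜ[A] D R A a := by
  rw [resKaehler, LinearEquiv.trans_apply, AlgebraTensorModule.congr_tmul,
    tensorKaehlerEquivOfFormallyEtale_symm_D_algebraMap, AlgebraTensorModule.cancelBaseChange_tmul]
  simp

theorem exists_psi (hsm : Algebra.IsSmoothAt R (qq)) :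
    ∃ ψ : (qq).ResidueField ⊗[Localization.AtPrime (qq)] (RingHom.ker (locMap I P))
        →ₗ[(qq).ResidueField] (qq).ResidueField ⊗[A] Ω[A⁄R],
      (∀ (a : A) (h : algebraMap A (Localization.AtPrime (qq)) a ∈ RingHom.ker (locMap I P)),
        ψ ((1 : (qq).ResidueField) ⊗ₜ ⟨algebraMap A (Localization.AtPrime (qq)) a, h⟩) =
          (1 : (qq).ResidueField) ⊗ₜ[A] D R A a) ∧
      (Algebra.IsSmoothAt R P ↔ Function.Injective ψ) := by
  letI : Algebra (Localization.AtPrime (qq)) (Localization.AtPrime P) := (locMap I P).toAlgebra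
  letI : Algebra (Localization.AtPrime P) (qq).ResidueField := (toRes I P).toAlgebra
  haveI : IsScalarTower (Localization.AtPrime (qq)) (Localization.AtPrime P) (qq).ResidueField :=
    IsScalarTower.of_algebraMap_eq' (toRes_comp I P).symm
  refine ⟨(resKaehler R I P).toLinearMap ∘ₗ cotangentComplexBaseChange R
    (Localization.AtPrime P) (Localization.AtPrime (qq)) (qq).ResidueField, ?_, ?_⟩
  · intro a h
    rw [LinearMap.comp_apply, cotangentComplexBaseChange_tmul, one_smul]
    exact resKaehler_apply R I P a
  · rw [isSmoothAt_iff_injective R I P hsm, LinearMap.coe_comp]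
    exact ((resKaehler R I P).injective.of_comp_iff _).symm

/-- The Jacobian criterion at a point. -/
theorem isSmoothAt_iff_exists (hsm : Algebra.IsSmoothAt R (qq)) :
    Algebra.IsSmoothAt R P ↔ ∃ s : Finset A, (↑s : Set A) ⊆ (I : Set A) ∧
      Ideal.map (algebraMap A (Localization.AtPrime (qq))) I =
        Ideal.span ((algebraMap A (Localization.AtPrime (qq))) '' (↑s : Set A)) ∧
      LinearIndependent (qq).ResidueField
        (fun g : ↥s => (1 : (qq).ResidueField) ⊗ₜ[A] KaehlerDifferential.D R A (g : A)) := by
  classical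
  obtain ⟨ψ, hψ, hiff⟩ := exists_psi R I P hsm
  haveI : Algebra.EssFiniteType R (Localization.AtPrime (qq)) :=
    Algebra.EssFiniteType.comp R A (Localization.AtPrime (qq))
  haveI : IsNoetherianRing (Localization.AtPrime (qq)) :=
    IsLocalization.isNoetherianRing (qq).primeCompl _ inferInstance
  have hmem : ∀ a ∈ I, algebraMap A (Localization.AtPrime (qq)) a ∈
      RingHom.ker (locMap I P) := fun a ha => by
    rw [ker_locMap]
    exact Ideal.mem_map_of_mem _ ha
  rw [hiff]
  constructor
  · intro hinj
    let t : I → RingHom.ker (locMap I P) := fun a => ⟨algebraMap A _ a, hmem a a.2⟩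
    have ht : Submodule.span (Localization.AtPrime (qq)) (Set.range t) = ⊤ := by
      refine (span_eq_top_iff _ t).mpr (Eq.trans ?_ (ker_locMap I P).symm)
      rw [Ideal.map]
      congr 1
      ext x
      constructor
      · rintro ⟨a, rfl⟩
        exact ⟨a, a.2, rfl⟩
      · rintro ⟨a, ha, rfl⟩
        exact ⟨⟨a, ha⟩, rfl⟩
    obtain ⟨s, hs, hli⟩ := exists_of_injective ψ t ht hinj
    refine ⟨s.map (Function.Embedding.subtype _), ?_, ?_, ?_⟩
    · intro x hx
      simp only [Finset.coe_map, Function.Embedding.subtype_apply, Set.mem_image] at hx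
      obtain ⟨y, -, rfl⟩ := hx
      exact y.2
    · have hs' := ((span_eq_top_iff _ _).mp hs).trans (ker_locMap I P)
      rw [← hs']
      congr 1
      ext x
      simp only [Finset.coe_map, Function.Embedding.subtype_apply, Set.mem_image, Set.mem_range,
        Finset.mem_coe]
      constructor
      · rintro ⟨i, rfl⟩
        exact ⟨i.1, ⟨i.1, i.2, rfl⟩, rfl⟩
      · rintro ⟨_, ⟨y, hy, rfl⟩, rfl⟩
        exact ⟨⟨y, hy⟩, rfl⟩
    · let e : s ≃ s.map (Function.Embedding.subtype (· ∈ I)) :=
        Equiv.ofBijective (fun i => ⟨i.1, Finset.mem_map.mpr ⟨i.1, i.2, rfl⟩⟩)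
          ⟨fun i j h => Subtype.ext (Subtype.ext (Subtype.mk.inj h)), fun ⟨x, hx⟩ => by
            obtain ⟨y, hy, rfl⟩ := Finset.mem_map.mp hx
            exact ⟨⟨y, hy⟩, rfl⟩⟩
      rw [← linearIndependent_equiv e]
      have h1 : (fun i : s => ψ ((1 : (qq).ResidueField) ⊗ₜ t i)) = (fun g :
          (s.map (Function.Embedding.subtype (· ∈ I))) =>
            (1 : (qq).ResidueField) ⊗ₜ[A] KaehlerDifferential.D R A (g : A)) ∘ e := by
        funext i
        exact hψ _ _
      rw [← h1]
      exact hli
  · rintro ⟨s, hs, hsp, hli⟩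
    let t : s → RingHom.ker (locMap I P) := fun a => ⟨algebraMap A _ a, hmem a (hs a.2)⟩
    refine injective_of_linearIndependent ψ t ?_ ?_
    · refine (span_eq_top_iff _ t).mpr (Eq.trans ?_ (ker_locMap I P).symm)
      rw [hsp]
      congr 1
      ext x
      constructor
      · rintro ⟨a, rfl⟩
        exact ⟨a, a.2, rfl⟩
      · rintro ⟨a, ha, rfl⟩
        exact ⟨⟨a, ha⟩, rfl⟩
    · have h1 : (fun i : s => ψ ((1 : (qq).ResidueField) ⊗ₜ t i)) = (fun g : s =>
            (1 : (qq).ResidueField) ⊗ₜ[A] KaehlerDifferential.D R A (g : A)) := by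
        funext i
        exact hψ _ _
      have h2 : LinearIndependent (qq).ResidueField
          (fun i : s => ψ ((1 : (qq).ResidueField) ⊗ₜ t i)) := by
        rw [h1]
        exact hli
      exact h2

/-- The Jacobian criterion for a hypersurface. -/
theorem isSmoothAt_iff_principal (F : A) (hI : I = Ideal.span {F})
    (hsm : Algebra.IsSmoothAt R (qq)) :
    Algebra.IsSmoothAt R P ↔ algebraMap A (Localization.AtPrime (qq)) F = 0 ∨
      (1 : (qq).ResidueField) ⊗ₜ[A] KaehlerDifferential.D R A F ≠ 0 := by
  classical
  obtain ⟨ψ, hψ, hiff⟩ := exists_psi R I P hsm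
  haveI : Algebra.EssFiniteType R (Localization.AtPrime (qq)) :=
    Algebra.EssFiniteType.comp R A (Localization.AtPrime (qq))
  haveI : IsNoetherianRing (Localization.AtPrime (qq)) :=
    IsLocalization.isNoetherianRing (qq).primeCompl _ inferInstance
  have hF : algebraMap A (Localization.AtPrime (qq)) F ∈ RingHom.ker (locMap I P) := by
    rw [ker_locMap]
    exact Ideal.mem_map_of_mem _ (hI ▸ Ideal.mem_span_singleton_self F)
  have hker : RingHom.ker (locMap I P) =
      Ideal.span {algebraMap A (Localization.AtPrime (qq)) F} := by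
    have h0 : I.map (algebraMap A (Localization.AtPrime (qq))) =
        (Ideal.span {F}).map (algebraMap A (Localization.AtPrime (qq))) :=
      congrArg (Ideal.map _) hI
    rw [ker_locMap, h0, Ideal.map_span, Set.image_singleton]
  let t : Unit → RingHom.ker (locMap I P) := fun _ => ⟨algebraMap A _ F, hF⟩
  have ht : Submodule.span (Localization.AtPrime (qq)) (Set.range t) = ⊤ := by
    refine (span_eq_top_iff _ t).mpr (Eq.trans ?_ hker.symm)
    congr 1
    ext x
    simp [t]
  rw [hiff]
  constructor
  · intro hinj
    by_contra! hcon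
    obtain ⟨h0, h1⟩ := hcon
    obtain ⟨s, hs, hli⟩ := exists_of_injective ψ t ht hinj
    by_cases hse : s = ∅
    · subst hse
      have hs' := ((span_eq_top_iff _ _).mp hs).trans hker
      simp only [Set.range_eq_empty, Ideal.span_empty] at hs'
      exact h0 ((Ideal.span_singleton_eq_bot).mp hs'.symm)
    · obtain ⟨i, hi⟩ := Finset.nonempty_iff_ne_empty.mpr hse
      exact hli.ne_zero ⟨i, hi⟩ ((hψ _ _).trans h1)
  · rintro (h | h)
    · have : Subsingleton (RingHom.ker (locMap I P)) := by
        rw [hker, h]
        simp only [Set.singleton_zero, Ideal.span_zero]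
        infer_instance
      have : Subsingleton ((qq).ResidueField ⊗[Localization.AtPrime (qq)]
        (RingHom.ker (locMap I P))) := inferInstance
      exact Function.injective_of_subsingleton _
    · refine injective_of_linearIndependent ψ t ht ?_
      rw [linearIndependent_unique_iff]
      change ψ (1 ⊗ₜ ⟨algebraMap A _ F, hF⟩) ≠ 0
      rw [hψ]
      exact h

end Main

end K151.JacCrit
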