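import Groth.Agent.SGA1.K151.Amitsur
import Groth.Agent.SGA1.K151.TorsFpqc
import Groth.Agent.Sga3B.GaPts
import Groth.Agent.RedSub.H635.GaSm
import Groth.Prelude.Def_GmPts

/-!
# fpqc torsors under the additive and the multiplicative group are Zariski locally trivial
-/

set_option autoImplicit false
universe u

open CategoryTheory CategoryTheory.Limits MonoidalCategory CartesianMonoidalCategory MonObj GrpObj
open AlgebraicGeometry TensorProduct
open Groth.Agent.Books.BorelOrb K551.Tors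

namespace K151.GmGa

section general

variable {S : Scheme.{u}} {G X : Over S} [GrpObj G] {a : AlgGrp.Action G X}
  (ha : NonAbH1.IsPseudoTorsorSch a)

theorem hasSection_of_coboundary {V : Scheme.{u}} (v : V ⟶ S) (T : Over S) (t : T.left ⟶ V)
    (ht : t ≫ v = T.hom) [Surjective t] [Flat t] [QuasiCompact t] (x : T ⟶ X) (f : T ⟶ G)
    (P : Over S) (p₁ p₂ : P ⟶ T) (hP : IsPullback p₁.left p₂.left t t)
    (hf : p₂ ≫ f = dif ha (p₂ ≫ x) (p₁ ≫ x) * (p₁ ≫ f)) : NonAbH1.HasSectionOver X v := by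
  let y : T ⟶ X := sm a f⁻¹ x
  have hy : p₁ ≫ y = p₂ ≫ y := by
    have h2 : p₂ ≫ x = sm a (dif ha (p₂ ≫ x) (p₁ ≫ x)) (p₁ ≫ x) := (sm_dif ha _ _).symm
    change p₁ ≫ sm a f⁻¹ x = p₂ ≫ sm a f⁻¹ x
    rw [comp_sm, comp_sm, h2, ← mul_sm, comp_inv, comp_inv, hf]
    congr 1
    group
  have hy' : p₁.left ≫ y.left = p₂.left ≫ y.left := by
    rw [← Over.comp_left, ← Over.comp_left, hy]
  have hdesc : ∀ {Z : Scheme.{u}} (g₁ g₂ : Z ⟶ T.left), g₁ ≫ t = g₂ ≫ t →
      g₁ ≫ y.left = g₂ ≫ y.left := by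
    intro Z g₁ g₂ h
    have := congrArg (fun m => hP.lift g₁ g₂ h ≫ m) hy'
    simpa using this
  refine ⟨EffectiveEpi.desc t y.left hdesc, ?_⟩
  rw [← cancel_epi t, ← Category.assoc, EffectiveEpi.fac, Over.w, ht]

end general

section affine

variable {S : Scheme.{u}} {R : Type u} [CommRing R] (v : Spec (CommRingCat.of R) ⟶ S)

/-- `Spec C` over `S`, for an `R`-algebra `C`. -/
noncomputable abbrev sp (C : Type u) [CommRing C] [Algebra R C] : Over S :=
  Over.mk (Spec.map (CommRingCat.ofHom (algebraMap R C)) ≫ v)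

variable {B C D : Type u} [CommRing B] [Algebra R B] [CommRing C] [Algebra R C] [CommRing D]
  [Algebra R D]

/-- functoriality of `sp` -/
noncomputable def spMap (φ : B →ₐ[R] C) : sp v C ⟶ sp v B :=
  Over.homMk (Spec.map (CommRingCat.ofHom (φ : B →+* C))) (by
    change Spec.map _ ≫ Spec.map _ ≫ v = Spec.map _ ≫ v
    rw [← Spec.map_comp_assoc, ← CommRingCat.ofHom_comp, φ.comp_algebraMap])

@[simp] theorem spMap_left (φ : B →ₐ[R] C) :
    (spMap v φ).left = Spec.map (CommRingCat.ofHom (φ : B →+* C)) := rfl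

theorem spMap_comp (φ : B →ₐ[R] C) (ψ : C →ₐ[R] D) : spMap v ψ ≫ spMap v φ = spMap v (ψ.comp φ) := by
  ext1
  rw [Over.comp_left, spMap_left, spMap_left, spMap_left, ← Spec.map_comp, ← CommRingCat.ofHom_comp]
  rfl

theorem spMap_comp_assoc (φ : B →ₐ[R] C) (ψ : C →ₐ[R] D) {Z : Over S} (z : sp v B ⟶ Z) :
    spMap v ψ ≫ spMap v φ ≫ z = spMap v (ψ.comp φ) ≫ z := by
  rw [← Category.assoc, spMap_comp]

/-- the function on `Spec C` given by an element of `C` -/
noncomputable def fn (c : C) : Γ((sp v C).left, ⊤) := (Scheme.ΓSpecIso (CommRingCat.of C)).inv c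

/-- the element of `C` given by a function on `Spec C` -/
noncomputable def nf (f : Γ((sp v C).left, ⊤)) : C := (Scheme.ΓSpecIso (CommRingCat.of C)).hom f

@[simp] theorem nf_fn (c : C) : nf v (fn v c) = c :=
  congr(CommRingCat.Hom.hom $((Scheme.ΓSpecIso (CommRingCat.of C)).inv_hom_id) c)

@[simp] theorem fn_nf (f : Γ((sp v C).left, ⊤)) : fn v (nf v f) = f :=
  congr(CommRingCat.Hom.hom $((Scheme.ΓSpecIso (CommRingCat.of C)).hom_inv_id) f)

theorem nf_injective : Function.Injective (nf v (C := C)) := fun x y h => by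
  rw [← fn_nf v x, h, fn_nf]

theorem nf_add (f g : Γ((sp v C).left, ⊤)) : nf v (f + g) = nf v f + nf v g :=
  map_add (Scheme.ΓSpecIso (CommRingCat.of C)).hom.hom f g

theorem nf_mul (f g : Γ((sp v C).left, ⊤)) : nf v (f * g) = nf v f * nf v g :=
  map_mul (Scheme.ΓSpecIso (CommRingCat.of C)).hom.hom f g

theorem isUnit_nf {f : Γ((sp v C).left, ⊤)} (hf : IsUnit f) : IsUnit (nf v f) :=
  hf.map (Scheme.ΓSpecIso (CommRingCat.of C)).hom.hom

theorem isUnit_fn {c : C} (hc : IsUnit c) : IsUnit (fn v c) :=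
  hc.map (Scheme.ΓSpecIso (CommRingCat.of C)).inv.hom

theorem nf_appTop (φ : B →ₐ[R] C) (f : Γ((sp v B).left, ⊤)) :
    nf v ((spMap v φ).left.appTop f) = φ (nf v f) :=
  (congr(CommRingCat.Hom.hom $(Scheme.ΓSpecIso_naturality (CommRingCat.ofHom (φ : B →+* C))) f))

section cocycle

variable {G X : Over S} [GrpObj G] {a : AlgGrp.Action G X}
  (ha : NonAbH1.IsPseudoTorsorSch a) (x : sp v B ⟶ X)

/-- the difference of the two pullbacks of `x` to `Spec (B ⊗ B)` -/
noncomputable def dd : sp v (B ⊗[R] B) ⟶ G :=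
  dif ha (spMap v Algebra.TensorProduct.includeRight ≫ x)
    (spMap v Algebra.TensorProduct.includeLeft ≫ x)

theorem dd_cocycle : (spMap v (Amitsur.p23 R B) ≫ dd v ha x) * (spMap v (Amitsur.p12 R B) ≫ dd v ha x) =
    spMap v (Amitsur.p13 R B) ≫ dd v ha x := by
  simp only [dd, comp_dif, spMap_comp_assoc]
  have e1 : (Amitsur.p12 R B).comp Algebra.TensorProduct.includeRight =
      (Amitsur.p23 R B).comp Algebra.TensorProduct.includeLeft := by ext; simp
  have e2 : (Amitsur.p23 R B).comp Algebra.TensorProduct.includeRight =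
      (Amitsur.p13 R B).comp Algebra.TensorProduct.includeRight := by ext; simp
  have e3 : (Amitsur.p12 R B).comp Algebra.TensorProduct.includeLeft =
      (Amitsur.p13 R B).comp Algebra.TensorProduct.includeLeft := by ext; simp
  rw [e1, e2, e3, dif_mul_dif]

theorem comp_dd (j : B →ₐ[R] C) : spMap v (Algebra.TensorProduct.map j j) ≫ dd v ha x =
    dd v ha (spMap v j ≫ x) := by
  simp only [dd, comp_dif, spMap_comp_assoc]
  have e1 : (Algebra.TensorProduct.map j j).comp Algebra.TensorProduct.includeRight =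
      (Algebra.TensorProduct.includeRight : C →ₐ[R] C ⊗[R] C).comp j := by ext; simp
  have e2 : (Algebra.TensorProduct.map j j).comp Algebra.TensorProduct.includeLeft =
      (Algebra.TensorProduct.includeLeft : C →ₐ[R] C ⊗[R] C).comp j := by ext; simp
  rw [e1, e2]

/-- `Spec (B ⊗ B)` as a fibre product over a monomorphism -/
theorem isPullback_sp {V : Scheme.{u}} (m : V ⟶ Spec (CommRingCat.of R)) [Mono m]
    (t : (sp v B).left ⟶ V) (ht : t ≫ m = Spec.map (CommRingCat.ofHom (algebraMap R B))) :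
    IsPullback (spMap v (Algebra.TensorProduct.includeLeft : B →ₐ[R] B ⊗[R] B)).left
      (spMap v (Algebra.TensorProduct.includeRight : B →ₐ[R] B ⊗[R] B)).left t t := by
  have h : IsPullback (spMap v (Algebra.TensorProduct.includeLeft : B →ₐ[R] B ⊗[R] B)).left
      (spMap v (Algebra.TensorProduct.includeRight : B →ₐ[R] B ⊗[R] B)).left (t ≫ m) (t ≫ m) := by
    rw [ht]
    exact isPullback_SpecMap_of_isPushout _ _ _ _ (CommRingCat.isPushout_tensorProduct R B B)
  have hw : (spMap v (Algebra.TensorProduct.includeLeft : B →ₐ[R] B ⊗[R] B)).left ≫ t =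
      (spMap v (Algebra.TensorProduct.includeRight : B →ₐ[R] B ⊗[R] B)).left ≫ t := by
    rw [← cancel_mono m, Category.assoc, Category.assoc, h.w]
  exact ⟨⟨hw⟩, ⟨PullbackCone.IsLimit.mk _
    (fun s => h.lift s.fst s.snd (by rw [← Category.assoc, s.condition, Category.assoc]))
    (fun s => h.lift_fst _ _ _) (fun s => h.lift_snd _ _ _)
    (fun s m' h1 h2 => h.hom_ext (by rw [h1, h.lift_fst]) (by rw [h2, h.lift_snd]))⟩⟩

end cocycle

theorem surjective_spec [Module.FaithfullyFlat R B] :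
    Surjective (Spec.map (CommRingCat.ofHom (algebraMap R B))) :=
  ⟨PrimeSpectrum.comap_surjective_of_faithfullyFlat⟩

theorem flat_spec [Module.Flat R B] :
    Flat (Spec.map (CommRingCat.ofHom (algebraMap R B))) := by
  rw [HasRingHomProperty.Spec_iff (P := @Flat)]
  exact (RingHom.flat_algebraMap_iff (R := R) (S := B)).mpr inferInstance

/-- A torsor under the additive group over an affine scheme has a section. -/
theorem hasSection_ga {X : Over S} {a : AlgGrp.Action (Red.Ga S) X}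
    (ha : NonAbH1.IsPseudoTorsorSch a) [Module.FaithfullyFlat R B] (x : sp v B ⟶ X) :
    NonAbH1.HasSectionOver X v := by
  let u : B ⊗[R] B := nf v (Red.gaFn (dd v ha x))
  have hu : Amitsur.p12 R B u + Amitsur.p23 R B u = Amitsur.p13 R B u := by
    have h := congrArg (fun g => nf v (Red.gaFn g)) (dd_cocycle v ha x)
    simp only [Groth.Agent.Sga3B.GaPts.gaFn_mul, Groth.Agent.Sga3B.GaPts.gaFn_comp, nf_add,
      nf_appTop] at h
    rw [add_comm]
    exact h
  obtain ⟨b, hb⟩ := Amitsur.exists_of_add u hu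
  have h1 := surjective_spec (R := R) (B := B)
  have h2 := flat_spec (R := R) (B := B)
  have h3 : QuasiCompact (Spec.map (CommRingCat.ofHom (algebraMap R B))) := inferInstance
  refine hasSection_of_coboundary ha v (sp v B)
    (Spec.map (CommRingCat.ofHom (algebraMap R B))) rfl x
    (Groth.Agent.Sga3B.GaPts.gaPt _ (fn v b)) (sp v (B ⊗[R] B))
    (spMap v Algebra.TensorProduct.includeLeft) (spMap v Algebra.TensorProduct.includeRight)
    (isPullback_sp v (𝟙 _) _ (Category.comp_id _)) ?_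
  apply Groth.Agent.Sga3B.GaPts.gaFn_injective
  apply nf_injective
  rw [Groth.Agent.Sga3B.GaPts.gaFn_mul, Groth.Agent.Sga3B.GaPts.gaFn_comp,
    Groth.Agent.Sga3B.GaPts.gaFn_comp, Groth.Agent.Sga3B.GaPts.gaFn_gaPt, nf_add, nf_appTop,
    nf_appTop, nf_fn]
  change _ = u + _
  rw [← hb]
  simp

/-- A torsor under the multiplicative group which becomes trivial by a unit solution. -/
theorem hasSection_gm {X : Over S} {a : AlgGrp.Action (Red.Gm S) X}
    (ha : NonAbH1.IsPseudoTorsorSch a) {V : Scheme.{u}} (m : V ⟶ Spec (CommRingCat.of R)) [Mono m]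
    (t : (sp v B).left ⟶ V) (ht : t ≫ m = Spec.map (CommRingCat.ofHom (algebraMap R B)))
    [Surjective t] [Flat t] [QuasiCompact t] (x : sp v B ⟶ X) (k : B) (hk : IsUnit k)
    (h : (1 : B) ⊗ₜ[R] k = nf v (Red.gmFn (dd v ha x)) * (k ⊗ₜ[R] (1 : B))) :
    NonAbH1.HasSectionOver X (m ≫ v) := by
  refine hasSection_of_coboundary ha (m ≫ v) (sp v B) t
    (by rw [← Category.assoc, ht]; rfl) x
    (GmPts.ptOfUnit (isUnit_fn v hk).unit) (sp v (B ⊗[R] B))
    (spMap v Algebra.TensorProduct.includeLeft) (spMap v Algebra.TensorProduct.includeRight)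
    (isPullback_sp v m t ht) ?_
  apply GmPts.gmFn_injective
  apply nf_injective
  dsimp only
  rw [GmPts.gmFn_mul, GmPts.gmFn_comp, GmPts.gmFn_comp, GmPts.gmFn_ptOfUnit, nf_mul, nf_appTop,
    nf_appTop]
  change Algebra.TensorProduct.includeRight (nf v (fn v k)) = nf v (Red.gmFn (dd v ha x)) *
    Algebra.TensorProduct.includeLeft (nf v (fn v k))
  rw [nf_fn]
  exact h

end affine

section final

variable {S : Scheme.{u}}

theorem exists_sp (X : Over S) [IsAffineHom X.hom] [Flat X.hom] [Surjective X.hom] {R : Type u}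
    [CommRing R] (v : Spec (CommRingCat.of R) ⟶ S) :
    ∃ (B : Type u) (_ : CommRing B) (_ : Algebra R B) (_ : Module.FaithfullyFlat R B),
      Nonempty (sp v B ⟶ X) := by
  let Z := pullback X.hom v
  have hZ : IsAffine Z := isAffine_of_isAffineHom (pullback.snd X.hom v)
  obtain ⟨φ, hφ⟩ := Spec.map_surjective (Z.isoSpec.inv ≫ pullback.snd X.hom v)
  algebraize [φ.hom]
  have hφ' : Spec.map (CommRingCat.ofHom (algebraMap R Γ(Z, ⊤))) =
      Z.isoSpec.inv ≫ pullback.snd X.hom v := hφ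
  have h1 : Flat (Spec.map φ) := by rw [hφ]; infer_instance
  have h2 : Surjective (Spec.map φ) := by rw [hφ]; infer_instance
  have h3 : Module.FaithfullyFlat R Γ(Z, ⊤) := by
    have := (flat_and_surjective_SpecMap_iff φ).mp ⟨h1, h2⟩
    exact this
  refine ⟨Γ(Z, ⊤), inferInstance, inferInstance, h3,
    ⟨Over.homMk (Z.isoSpec.inv ≫ pullback.fst X.hom v) ?_⟩⟩
  change (Z.isoSpec.inv ≫ pullback.fst X.hom v) ≫ X.hom = Spec.map _ ≫ v
  rw [hφ', Category.assoc, Category.assoc, pullback.condition]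

theorem isLocallyTrivialFor_zariski (X : Over S)
    (h : ∀ s : S, ∃ (V : Scheme.{u}) (v : V ⟶ S) (_ : IsOpenImmersion v), s ∈ Set.range v ∧
      NonAbH1.HasSectionOver X v) : NonAbH1.IsLocallyTrivialFor Scheme.zariskiPrecoverage X := by
  choose V v hv hs hsec using h
  refine ⟨Presieve.ofArrows V v, ?_, ?_⟩
  · rw [Scheme.ofArrows_mem_precoverage_iff]
    exact ⟨fun s => ⟨s, hs s⟩, hv⟩
  · rintro _ _ ⟨i⟩
    exact hsec i

theorem isAffineHom_ga : IsAffineHom (Red.Ga S).hom := by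
  have h1 : IsAffineHom Red.GaZ.{u}.hom :=
    inferInstanceAs (IsAffineHom (Spec.map (CommRingCat.ofHom (algebraMap (ULift.{u} ℤ)
      (SymmetricAlgebra (ULift.{u} ℤ) (ULift.{u} ℤ))))))
  exact MorphismProperty.pullback_snd _ _ h1

theorem flat_gm : Flat (Red.Gm S).hom := by
  have h1 : Flat (Red.diag (ULift.{u} ℤ) ℤ).hom := by
    change Flat (Spec.map (CommRingCat.ofHom (algebraMap (ULift.{u} ℤ)
      (MonoidAlgebra (ULift.{u} ℤ) (Multiplicative ℤ)))))
    rw [HasRingHomProperty.Spec_iff (P := @Flat)]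
    change (algebraMap (ULift.{u} ℤ) (MonoidAlgebra (ULift.{u} ℤ) (Multiplicative ℤ))).Flat
    rw [RingHom.flat_algebraMap_iff]
    infer_instance
  exact MorphismProperty.pullback_snd (P := @Flat) _ _ h1

theorem isAffineHom_gm : IsAffineHom (Red.Gm S).hom := by
  have h1 : IsAffineHom (Red.diag (ULift.{u} ℤ) ℤ).hom :=
    inferInstanceAs (IsAffineHom (Spec.map (CommRingCat.ofHom (algebraMap (ULift.{u} ℤ)
      (MonoidAlgebra (ULift.{u} ℤ) (Multiplicative ℤ))))))
  exact MorphismProperty.pullback_snd (P := @IsAffineHom) _ _ h1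

theorem zariski_ga {X : Over S} (a : AlgGrp.Action (Red.Ga S) X)
    (h : NonAbH1.IsTorsorFor Scheme.fpqcPrecoverage a) :
    NonAbH1.IsTorsorFor Scheme.zariskiPrecoverage a := by
  have h1 : IsAffineHom (Red.Ga S).hom := isAffineHom_ga
  have h2 : Smooth (Red.Ga S).hom := Groth.Agent.RedSub.H635.GaSm.smooth_ga
  have := TorsFpqc.isAffineHom_of_torsor h
  have := TorsFpqc.flat_of_torsor h
  have := TorsFpqc.surjective_of_isLocallyTrivialFor h.2
  refine ⟨h.1, isLocallyTrivialFor_zariski X fun s => ?_⟩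
  obtain ⟨_, ⟨U, hU, rfl⟩, hsU, -⟩ := S.isBasis_affineOpens.exists_subset_of_mem_open
    (Set.mem_univ s) isOpen_univ
  have hU : IsAffineOpen U := hU
  obtain ⟨B, _, _, _, ⟨x⟩⟩ := exists_sp X hU.fromSpec
  exact ⟨_, hU.fromSpec, inferInstance, by rw [hU.range_fromSpec]; exact hsU,
    hasSection_ga hU.fromSpec h.1 x⟩

/-- The local statement for the multiplicative group, over an affine base. -/
theorem exists_section_gm {X : Over S} {a : AlgGrp.Action (Red.Gm S) X}
    (ha : NonAbH1.IsPseudoTorsorSch a) {R : Type u} [CommRing R]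
    (v : Spec (CommRingCat.of R) ⟶ S) [IsOpenImmersion v] {B : Type u} [CommRing B] [Algebra R B]
    [Module.FaithfullyFlat R B] (x : sp v B ⟶ X) (p : Spec (CommRingCat.of R)) :
    ∃ (V : Scheme.{u}) (w : V ⟶ S) (_ : IsOpenImmersion w), v p ∈ Set.range w ∧
      NonAbH1.HasSectionOver X w := by
  let u : B ⊗[R] B := nf v (Red.gmFn (dd v ha x))
  have hunit : IsUnit u := isUnit_nf v (GmPts.isUnit_gmFn _)
  have hu : Amitsur.p12 R B u * Amitsur.p23 R B u = Amitsur.p13 R B u := by
    have h := congrArg (fun g => nf v (Red.gmFn g)) (dd_cocycle v ha x)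
    simp only [GmPts.gmFn_mul, GmPts.gmFn_comp, nf_mul, nf_appTop] at h
    rw [mul_comm]
    exact h
  have hspan := Amitsur.span_eq_top u hunit hu
  obtain ⟨q, hq⟩ := PrimeSpectrum.comap_surjective_of_faithfullyFlat (B := B) p
  obtain ⟨k, hk, hkq⟩ : ∃ k ∈ {k : B | (1 : B) ⊗ₜ[R] k = u * (k ⊗ₜ[R] (1 : B))},
      k ∉ q.asIdeal := by
    by_contra! hcon
    have : Ideal.span {k : B | (1 : B) ⊗ₜ[R] k = u * (k ⊗ₜ[R] (1 : B))} ≤ q.asIdeal :=
      Ideal.span_le.mpr hcon
    rw [hspan] at this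
    exact q.isPrime.ne_top (top_le_iff.mp this)
  have hk' : (1 : B) ⊗ₜ[R] k = u * (k ⊗ₜ[R] (1 : B)) := hk
  -- the image of `D(k)` is open
  have hsat : ∀ q₁ q₂ : PrimeSpectrum B, PrimeSpectrum.comap (algebraMap R B) q₁ =
      PrimeSpectrum.comap (algebraMap R B) q₂ → k ∉ q₁.asIdeal → k ∉ q₂.asIdeal := by
    intro q₁ q₂ h h1 h2
    have sq : IsPullback (Spec.map (CommRingCat.ofHom (Algebra.TensorProduct.includeLeft :
        B →ₐ[R] B ⊗[R] B).toRingHom)) (Spec.map (CommRingCat.ofHom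
        (Algebra.TensorProduct.includeRight : B →ₐ[R] B ⊗[R] B).toRingHom))
        (Spec.map (CommRingCat.ofHom (algebraMap R B)))
        (Spec.map (CommRingCat.ofHom (algebraMap R B))) :=
      isPullback_SpecMap_of_isPushout _ _ _ _ (CommRingCat.isPushout_tensorProduct R B B)
    obtain ⟨r, hr1, hr2⟩ := Scheme.exists_preimage_of_isPullback sq q₁ q₂ h
    have h3 : (k ⊗ₜ[R] (1 : B)) ∉ (r : PrimeSpectrum (B ⊗[R] B)).asIdeal := by
      intro h4
      apply h1
      rw [← hr1]
      exact h4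
    have h4 : ((1 : B) ⊗ₜ[R] k) ∈ (r : PrimeSpectrum (B ⊗[R] B)).asIdeal := by
      rw [← hr2] at h2
      exact h2
    rw [hk'] at h4
    rcases (r : PrimeSpectrum (B ⊗[R] B)).isPrime.mem_or_mem h4 with h5 | h5
    · exact (r : PrimeSpectrum (B ⊗[R] B)).isPrime.ne_top (Ideal.eq_top_of_isUnit_mem _ h5 hunit)
    · exact h3 h5
  have hsurj := surjective_spec (R := R) (B := B)
  have hflat := flat_spec (R := R) (B := B)
  have hquot : Topology.IsQuotientMap (PrimeSpectrum.comap (algebraMap R B)) :=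
    Flat.isQuotientMap_of_surjective (Spec.map (CommRingCat.ofHom (algebraMap R B)))
  let W : Set (PrimeSpectrum R) := PrimeSpectrum.comap (algebraMap R B) ''
    (PrimeSpectrum.basicOpen k : Set (PrimeSpectrum B))
  have hWpre : PrimeSpectrum.comap (algebraMap R B) ⁻¹' W =
      (PrimeSpectrum.basicOpen k : Set (PrimeSpectrum B)) := by
    ext q₂
    constructor
    · rintro ⟨q₁, h1, h2⟩
      exact hsat q₁ q₂ h2 h1
    · intro h
      exact ⟨q₂, h, rfl⟩
  have hWopen : IsOpen W := by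
    rw [← hquot.isOpen_preimage, hWpre]
    exact (PrimeSpectrum.basicOpen k).isOpen
  have hpW : (p : PrimeSpectrum R) ∈ W := ⟨q, hkq, hq⟩
  obtain ⟨_, ⟨_, ⟨r, rfl⟩, rfl⟩, hpr, hrW⟩ :=
    PrimeSpectrum.isBasis_basic_opens.exists_subset_of_mem_open hpW hWopen
  have hle : PrimeSpectrum.basicOpen (algebraMap R B r) ≤ PrimeSpectrum.basicOpen k := by
    intro q' hq'
    have h1 : q' ∈ PrimeSpectrum.comap (algebraMap R B) ⁻¹' W := hrW hq'
    rw [hWpre] at h1
    exact h1
  obtain ⟨n, hn⟩ := (PrimeSpectrum.basicOpen_le_basicOpen_iff _ _).mp hle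
  obtain ⟨c, hc⟩ := Ideal.mem_span_singleton'.mp hn
  let R' := Localization.Away r
  let B' := R' ⊗[R] B
  let j : B →ₐ[R] B' := Algebra.TensorProduct.includeRight
  have hk1 : IsUnit (j k) := by
    have h1 : IsUnit (algebraMap R B' r) := by
      rw [IsScalarTower.algebraMap_apply R R' B']
      exact (IsLocalization.Away.algebraMap_isUnit r).map (algebraMap R' B')
    have h2 : j c * j k = algebraMap R B' r ^ n := by
      rw [← map_mul, hc, map_pow, AlgHom.commutes]
    exact isUnit_of_mul_isUnit_right (h2 ▸ h1.pow n)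
  have hfc : ((algebraMap R' B').comp (algebraMap R R')) = algebraMap R B' :=
    (IsScalarTower.algebraMap_eq R R' B').symm
  have i1 : Surjective (Spec.map (CommRingCat.ofHom (algebraMap R' B'))) :=
    surjective_spec (R := R') (B := B')
  have i2 : Flat (Spec.map (CommRingCat.ofHom (algebraMap R' B'))) :=
    flat_spec (R := R') (B := B')
  have i3 : QuasiCompact (Spec.map (CommRingCat.ofHom (algebraMap R' B'))) := inferInstance
  have i4 : IsOpenImmersion (Spec.map (CommRingCat.ofHom (algebraMap R R'))) :=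
    IsOpenImmersion.of_isLocalization r
  refine ⟨Spec (CommRingCat.of R'), Spec.map (CommRingCat.ofHom (algebraMap R R')) ≫ v,
    inferInstance, ?_, ?_⟩
  · have h1 : p ∈ Set.range (Spec.map (CommRingCat.ofHom (algebraMap R R'))) := by
      have h2 := PrimeSpectrum.localization_away_comap_range R' r
      change p ∈ Set.range (PrimeSpectrum.comap (algebraMap R R'))
      rw [h2]
      exact hpr
    obtain ⟨p', hp'⟩ := h1
    exact ⟨p', by rw [Scheme.Hom.comp_apply, hp']⟩
  · refine hasSection_gm v ha (Spec.map (CommRingCat.ofHom (algebraMap R R')))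
      (Spec.map (CommRingCat.ofHom (algebraMap R' B'))) ?_ (spMap v j ≫ x) (j k) hk1 ?_
    · rw [← Spec.map_comp, ← CommRingCat.ofHom_comp, hfc]
    · rw [← comp_dd, GmPts.gmFn_comp, nf_appTop]
      change _ = (Algebra.TensorProduct.map j j) u * _
      have h1 := congrArg (Algebra.TensorProduct.map j j) hk'
      rw [map_mul] at h1
      simpa using h1

theorem zariski_gm {X : Over S} (a : AlgGrp.Action (Red.Gm S) X)
    (h : NonAbH1.IsTorsorFor Scheme.fpqcPrecoverage a) :
    NonAbH1.IsTorsorFor Scheme.zariskiPrecoverage a := by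
  have h1 : IsAffineHom (Red.Gm S).hom := isAffineHom_gm
  have h2 : Flat (Red.Gm S).hom := flat_gm
  have := TorsFpqc.isAffineHom_of_torsor h
  have := TorsFpqc.flat_of_torsor h
  have := TorsFpqc.surjective_of_isLocallyTrivialFor h.2
  refine ⟨h.1, isLocallyTrivialFor_zariski X fun s => ?_⟩
  obtain ⟨_, ⟨U, hU, rfl⟩, hsU, -⟩ := S.isBasis_affineOpens.exists_subset_of_mem_open
    (Set.mem_univ s) isOpen_univ
  have hU : IsAffineOpen U := hU
  obtain ⟨p, hp⟩ : s ∈ Set.range hU.fromSpec := by rw [hU.range_fromSpec]; exact hsU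
  obtain ⟨B, _, _, _, ⟨x⟩⟩ := exists_sp X hU.fromSpec
  obtain ⟨V, w, hw, h3, h4⟩ := exists_section_gm h.1 hU.fromSpec x p
  exact ⟨V, w, hw, hp ▸ h3, h4⟩

end final

end K151.GmGa
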