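import Groth.Agent.NonAbH1.K554.Fpqc
import Groth.Agent.NonAbH1.K551.Tors
import Groth.Agent.NonAbH1.K552.Push

/-!
# The exact cohomology sequence for torsors under group schemes
-/

set_option autoImplicit false
universe u

open CategoryTheory CategoryTheory.Limits MonoidalCategory CartesianMonoidalCategory MonObj GrpObj
open AlgebraicGeometry
open Groth.Agent.Books.BorelOrb K551.Tors

namespace K151.ExSeq

variable {S : Scheme.{u}}

section cover

variable (K : Precoverage Scheme.{u})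

/-- Local triviality can be checked on the composite of coverings. -/
theorem isLocallyTrivialFor_comp [K.IsStableUnderComposition] {X : Over S} {R : Presieve S}
    (hR : R ∈ K S) (h : ∀ ⦃T : Scheme.{u}⦄ (f : T ⟶ S), R f → ∃ R' ∈ K T,
      ∀ ⦃T' : Scheme.{u}⦄ (g : T' ⟶ T), R' g → NonAbH1.HasSectionOver X (g ≫ f)) :
    NonAbH1.IsLocallyTrivialFor K X := by
  obtain ⟨I, Y, f, rfl⟩ := R.exists_eq_ofArrows
  have h' : ∀ i, ∃ (σ : Type (u + 1)) (Z : σ → Scheme.{u}) (g : ∀ j, Z j ⟶ Y i),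
      Presieve.ofArrows Z g ∈ K (Y i) ∧ ∀ j, NonAbH1.HasSectionOver X (g j ≫ f i) := by
    intro i
    obtain ⟨R', hR', hsec⟩ := h (f i) ⟨i⟩
    obtain ⟨σ, Z, g, rfl⟩ := R'.exists_eq_ofArrows
    exact ⟨σ, Z, g, hR', fun j => hsec (g j) ⟨j⟩⟩
  choose σ Z g hg hsec using h'
  refine ⟨_, Precoverage.IsStableUnderComposition.comp_mem_coverings f hR g hg, ?_⟩
  rintro _ _ ⟨i⟩
  exact hsec _ _

variable [K.toGrothendieck.Subcanonical]

/-- the member of a covering of `T.left`, over `S` -/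
abbrev mem {T : Over S} {T' : Scheme.{u}} (f : T' ⟶ T.left) : Over S := Over.mk (f ≫ T.hom)

/-- its structure morphism -/
abbrev memι {T : Over S} {T' : Scheme.{u}} (f : T' ⟶ T.left) : mem f ⟶ T := Over.homMk f rfl

include K in
theorem over_eq_of_cover {T Y : Over S} {R : Presieve T.left} (hR : R ∈ K T.left) {s t : T ⟶ Y}
    (h : ∀ ⦃T' : Scheme.{u}⦄ (f : T' ⟶ T.left), R f → memι f ≫ s = memι f ≫ t) : s = t := by
  ext1
  refine K554.Fpqc.eq_of_cover K hR fun T' f hf => ?_
  exact congrArg (fun z => z.left) (h f hf)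

variable [K.IsStableUnderBaseChange]

include K in
omit [K.toGrothendieck.Subcanonical] in
/-- points lift locally along a locally trivial morphism -/
theorem exists_local_lift {W P : Over S} (π : W ⟶ P)
    (hπ : NonAbH1.IsLocallyTrivialFor K (Over.mk π.left : Over P.left)) {T : Over S} (x : T ⟶ P) :
    ∃ R ∈ K T.left, ∀ ⦃T' : Scheme.{u}⦄ (f : T' ⟶ T.left), R f →
      ∃ w : mem f ⟶ W, w ≫ π = memι f ≫ x := by
  obtain ⟨R, hR, hsec⟩ := hπ
  refine ⟨_, Precoverage.pullbackArrows_mem x.left hR, ?_⟩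
  rintro _ _ ⟨Z, c, hc⟩
  obtain ⟨σ, hσ⟩ := hsec c hc
  have hσ' : σ ≫ π.left = c := hσ
  refine ⟨Over.homMk (pullback.fst c x.left ≫ σ) ?_, ?_⟩
  · change (pullback.fst c x.left ≫ σ) ≫ W.hom = pullback.snd c x.left ≫ T.hom
    rw [← Over.w π, Category.assoc, ← Category.assoc σ, hσ', pullback.condition_assoc, Over.w]
  · ext1
    change (pullback.fst c x.left ≫ σ) ≫ π.left = pullback.snd c x.left ≫ x.left
    rw [Category.assoc, hσ', pullback.condition]

include K in
theorem over_exists_desc {W P Y : Over S} (π : W ⟶ P)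
    (hπ : NonAbH1.IsLocallyTrivialFor K (Over.mk π.left : Over P.left)) (ψ : W ⟶ Y)
    (h : ∀ {T : Over S} (w w' : T ⟶ W), w ≫ π = w' ≫ π → w ≫ ψ = w' ≫ ψ) :
    ∃ φ : P ⟶ Y, π ≫ φ = ψ := by
  obtain ⟨t, ht⟩ := K554.Fpqc.exists_desc K hπ ψ.left (by
    let T : Over S := Over.mk (pullback.fst π.left π.left ≫ W.hom)
    let w : T ⟶ W := Over.homMk (pullback.fst π.left π.left) rfl
    let w' : T ⟶ W := Over.homMk (pullback.snd π.left π.left) (by
      change pullback.snd π.left π.left ≫ W.hom = pullback.fst π.left π.left ≫ W.hom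
      rw [← Over.w π, pullback.condition_assoc])
    have := h w w' (by ext1; exact pullback.condition)
    exact congrArg (fun z => z.left) this)
  have ht' : π.left ≫ t = ψ.left := ht
  refine ⟨Over.homMk t ?_, ?_⟩
  · apply K554.Fpqc.epi_of_isLocallyTrivialFor K hπ
    change π.left ≫ t ≫ Y.hom = π.left ≫ P.hom
    rw [← Category.assoc, ht', Over.w, Over.w]
  · ext1
    exact ht'

include K in
omit [K.IsStableUnderBaseChange] in
theorem over_eq_of_comp {W P Y : Over S} (π : W ⟶ P)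
    (hπ : NonAbH1.IsLocallyTrivialFor K (Over.mk π.left : Over P.left)) {φ φ' : P ⟶ Y}
    (h : π ≫ φ = π ≫ φ') : φ = φ' := by
  ext1
  exact K554.Fpqc.epi_of_isLocallyTrivialFor K hπ (congrArg (fun z => z.left) h)

omit [K.toGrothendieck.Subcanonical] in
/-- the projection `P × Q ⟶ P` is locally trivial when `Q` is -/
theorem isLocallyTrivialFor_fst (P Q : Over S) (hQ : NonAbH1.IsLocallyTrivialFor K Q) :
    NonAbH1.IsLocallyTrivialFor K (Over.mk (fst P Q).left : Over P.left) := by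
  obtain ⟨R, hR, hsec⟩ := hQ
  refine ⟨_, Precoverage.pullbackArrows_mem P.hom hR, ?_⟩
  rintro _ _ ⟨Z, c, hc⟩
  obtain ⟨σ, hσ⟩ := hsec c hc
  let T : Over S := Over.mk (pullback.snd c P.hom ≫ P.hom)
  let p : T ⟶ P := Over.homMk (pullback.snd c P.hom) rfl
  let q : T ⟶ Q := Over.homMk (pullback.fst c P.hom ≫ σ) (by
    rw [Category.assoc, hσ, pullback.condition]; rfl)
  refine ⟨(lift p q).left, ?_⟩
  change (lift p q).left ≫ (fst P Q).left = _
  rw [← Over.comp_left, lift_fst]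
  rfl

end cover

section

variable {G G' X X' : Over S} [GrpObj G] [GrpObj G']

theorem pushforward_iff (φ : G ⟶ G') (a : AlgGrp.Action G X) (a' : AlgGrp.Action G' X')
    (f : X ⟶ X') : a.act ≫ f = lift (fst G X ≫ φ) (snd G X ≫ f) ≫ a'.act ↔
      ∀ {T : Over S} (g : T ⟶ G) (x : T ⟶ X), sm a g x ≫ f = sm a' (g ≫ φ) (x ≫ f) := by
  constructor
  · intro h T g x
    rw [sm, Category.assoc, h, ← Category.assoc, comp_lift, ← Category.assoc, ← Category.assoc,
      lift_fst, lift_snd]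
    rfl
  · intro h
    have := h (fst G X) (snd G X)
    rw [sm, lift_fst_snd, Category.id_comp] at this
    exact this

end

section exact

variable {G G' G'' : Over S} [GrpObj G] [GrpObj G'] [GrpObj G''] {K : Precoverage Scheme.{u}}
  {u : G' ⟶ G} {v : G ⟶ G''} (hex : NonAbH1.IsExactSeq K u v)

omit [GrpObj G''] [GrpObj G'] in
theorem comp_translate {T : Over S} (l : T ⟶ G ⊗ G') :
    l ≫ (G ◁ u) ≫ μ[G] = (l ≫ fst G G') * ((l ≫ snd G G') ≫ u) := by
  rw [Hom.mul_def, ← Category.assoc]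
  congr 1
  ext1 <;> simp

include hex

theorem exists_of_eq {T : Over S} {x y : T ⟶ G} (h : x ≫ v = y ≫ v) :
    ∃ g' : T ⟶ G', y = x * (g' ≫ u) := by
  obtain ⟨-, -, -, hpb, -⟩ := hex
  have h1 := hpb.lift_fst x y h
  have h2 := hpb.lift_snd x y h
  rw [comp_translate, h1] at h2
  exact ⟨_, h2.symm⟩

theorem u_injective {T : Over S} {g h : T ⟶ G'} (e : g ≫ u = h ≫ u) : g = h := by
  obtain ⟨-, -, -, hpb, -⟩ := hex
  have h1 : lift (1 : T ⟶ G) g = lift (1 : T ⟶ G) h := by
    apply hpb.hom_ext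
    · rw [lift_fst, lift_fst]
    · rw [← Category.assoc, ← Category.assoc, lift_whiskerLeft, lift_whiskerLeft, e]
  have := congrArg (fun z => z ≫ snd G G') h1
  simpa using this

theorem exists_local_lift_v [K.IsStableUnderBaseChange] {T : Over S} (y : T ⟶ G'') :
    ∃ R ∈ K T.left, ∀ ⦃T' : Scheme.{u}⦄ (f : T' ⟶ T.left), R f →
      ∃ x : mem f ⟶ G, x ≫ v = memι f ≫ y :=
  exists_local_lift K v hex.2.2.2.2 y

end exact

section boundary

variable {G G' G'' : Over S} [GrpObj G] [GrpObj G'] [GrpObj G''] {K : Precoverage Scheme.{u}}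
  {u : G' ⟶ G} {v : G ⟶ G''} (hex : NonAbH1.IsExactSeq K u v)

section

variable (f : 𝟙_ (Over S) ⟶ G'')

/-- the inverse image of the section `f` -/
noncomputable abbrev fib (v : G ⟶ G'') (f : 𝟙_ (Over S) ⟶ G'') : Over S := pullback v f

/-- points of the inverse image -/
noncomputable def mkPt {T : Over S} (g : T ⟶ G) (h : g ≫ v = toUnit T ≫ f) : T ⟶ fib v f :=
  pullback.lift g (toUnit T) h

omit [GrpObj G] [GrpObj G''] in
@[simp] theorem mkPt_fst {T : Over S} (g : T ⟶ G) (h : g ≫ v = toUnit T ≫ f) :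
    mkPt f g h ≫ pullback.fst v f = g := pullback.lift_fst _ _ _

omit [GrpObj G] [GrpObj G''] in
theorem fib_ext {T : Over S} {p q : T ⟶ fib v f}
    (h : p ≫ pullback.fst v f = q ≫ pullback.fst v f) : p = q :=
  pullback.hom_ext h (toUnit_unique _ _)

omit [GrpObj G] [GrpObj G''] in
theorem fib_condition {T : Over S} (p : T ⟶ fib v f) :
    (p ≫ pullback.fst v f) ≫ v = toUnit T ≫ f := by
  rw [Category.assoc, pullback.condition, ← Category.assoc, toUnit_unique (p ≫ _) (toUnit T)]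

include hex in
theorem fibAct_aux {T : Over S} (g' : T ⟶ G') (p : T ⟶ fib v f) :
    ((p ≫ pullback.fst v f) * (g' ≫ u)⁻¹) ≫ v = toUnit T ≫ f := by
  obtain ⟨hu, hv, huv, -, -⟩ := hex
  rw [mul_comp, inv_comp, Category.assoc g' u v, huv, comp_one, inv_one, _root_.mul_one,
    fib_condition]

/-- `G'` acts on the inverse image of `f` by right translations. -/
noncomputable def fibAct : AlgGrp.Action G' (fib v f) :=
  K552.Push.ofPoints (fun {T} g' p => mkPt f ((p ≫ pullback.fst v f) * (g' ≫ u)⁻¹)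
      (fibAct_aux hex f g' p))
    (by
      intro T T' t g' p
      apply fib_ext
      rw [Category.assoc, mkPt_fst, mkPt_fst, comp_mul, comp_inv, Category.assoc, Category.assoc])
    (by
      intro T p
      apply fib_ext
      have := hex.1
      rw [mkPt_fst, one_comp, inv_one, _root_.mul_one])
    (by
      intro T g h p
      apply fib_ext
      have := hex.1
      rw [mkPt_fst, mkPt_fst, mkPt_fst, mul_comp, _root_.mul_inv_rev, _root_.mul_assoc])

theorem sm_fibAct {T : Over S} (g' : T ⟶ G') (p : T ⟶ fib v f) :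
    sm (fibAct hex f) g' p ≫ pullback.fst v f = (p ≫ pullback.fst v f) * (g' ≫ u)⁻¹ := by
  change (lift g' p ≫ mkPt f ((snd G' (fib v f) ≫ pullback.fst v f) *
    (fst G' (fib v f) ≫ u)⁻¹) (fibAct_aux hex f _ _)) ≫ pullback.fst v f = _
  rw [Category.assoc, mkPt_fst, comp_mul, comp_inv, ← Category.assoc, lift_snd, ← Category.assoc,
    lift_fst]

theorem isPseudoTorsor_fibAct : NonAbH1.IsPseudoTorsorSch (fibAct hex f) := by
  apply isPseudoTorsorSch_of_points
  intro T p p'
  obtain ⟨h, hh⟩ := exists_of_eq hex (x := p ≫ pullback.fst v f) (y := p' ≫ pullback.fst v f)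
    (by rw [fib_condition, fib_condition])
  refine ⟨h, ?_, ?_⟩
  · apply fib_ext
    rw [sm_fibAct, hh]
    group
  · intro g hg
    apply u_injective hex
    have h1 := congrArg (fun z => z ≫ pullback.fst v f) hg
    simp only [sm_fibAct] at h1
    rw [hh, _root_.mul_assoc, mul_eq_left, mul_inv_eq_one] at h1
    exact h1.symm

end

variable [K.toGrothendieck.Subcanonical] [K.IsStableUnderBaseChange]

include hex in
theorem pushforward_trivial_iff (Q : NonAbH1.TorsorSch G' K) :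
    NonAbH1.IsPushforwardAlongSch u Q.act (NonAbH1.trivialAction G) ↔
      ∃ (f : 𝟙_ (Over S) ⟶ G'') (i : Q.X ⟶ G), NonAbH1.IsPullbackTorsor u v f i Q.act := by
  obtain ⟨hu, hv, huv, -, -⟩ := id hex
  constructor
  · rintro ⟨f₀, hf₀⟩
    rw [pushforward_iff] at hf₀
    let i : Q.X ⟶ G := f₀⁻¹
    have hi : ∀ {T : Over S} (g' : T ⟶ G') (p : T ⟶ Q.X),
        sm Q.act g' p ≫ i = (p ≫ i) * (g' ≫ u)⁻¹ := by
      intro T g' p
      change sm Q.act g' p ≫ f₀⁻¹ = (p ≫ f₀⁻¹) * (g' ≫ u)⁻¹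
      rw [comp_inv, hf₀, K554.Fpqc.sm_trivialAction, _root_.mul_inv_rev, comp_inv]
    -- descend `i ≫ v`
    have hloc : NonAbH1.IsLocallyTrivialFor K (Over.mk (toUnit Q.X).left :
        Over (𝟙_ (Over S)).left) := by
      obtain ⟨R, hR, hsec⟩ := Q.isTorsor.2
      refine ⟨R, hR, fun S' c hc => ?_⟩
      obtain ⟨σ, hσ⟩ := hsec c hc
      exact ⟨σ, by
        have h1 : (toUnit Q.X).left = Q.X.hom := by
          have := Over.w (toUnit Q.X)
          rw [← this]
          exact (Category.comp_id _).symm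
        change σ ≫ (toUnit Q.X).left = c
        rw [h1, hσ]⟩
    obtain ⟨f, hf⟩ := over_exists_desc K (toUnit Q.X) hloc (i ≫ v) (by
      intro T w w' _
      have h1 : w = sm Q.act (dif Q.isTorsor.1 w w') w' := (sm_dif _ _ _).symm
      rw [h1, ← Category.assoc, hi, mul_comp, inv_comp, Category.assoc (dif _ _ _), huv, comp_one,
        inv_one, _root_.mul_one, Category.assoc])
    refine ⟨f, i, hu, hv, ?_, fun T g' p => ?_⟩
    · let m : Q.X ⟶ fib v f := mkPt f i hf.symm
      have hm : AlgGrp.Action.IsEquivariant Q.act (fibAct hex f) m := by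
        rw [K554.Fpqc.isEquivariant_iff]
        intro T g' p
        apply fib_ext
        rw [sm_fibAct, Category.assoc, Category.assoc, mkPt_fst, hi]
      have : IsIso m := K554.Fpqc.isIso_of_isEquivariant K Q.act (fibAct hex f) Q.isTorsor
        (isPseudoTorsor_fibAct hex f) m hm
      exact IsPullback.of_iso_pullback ⟨hf.symm⟩ (asIso m) (mkPt_fst _ _ _) (toUnit_unique _ _)
    · exact (hi g' p)
  · rintro ⟨f, i, -, -, -, hi⟩
    refine ⟨i⁻¹, ?_⟩
    rw [pushforward_iff]
    intro T g x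
    have h1 : sm Q.act g x ≫ i = (x ≫ i) * (g ≫ u)⁻¹ := by
      rw [sm, Category.assoc]
      exact hi T g x
    rw [comp_inv, h1, K554.Fpqc.sm_trivialAction, _root_.mul_inv_rev, _root_.inv_inv, comp_inv]

end boundary

section push

variable {G G' G'' : Over S} [GrpObj G] [GrpObj G'] [GrpObj G''] {K : Precoverage Scheme.{u}}
  {u : G' ⟶ G} {v : G ⟶ G''} (hex : NonAbH1.IsExactSeq K u v)
  [K.toGrothendieck.Subcanonical] [K.IsStableUnderBaseChange]

include hex in
theorem push_trivial_of_push (P : NonAbH1.TorsorSch G K) (Q : NonAbH1.TorsorSch G' K)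
    (hQ : NonAbH1.IsPushforwardAlongSch u Q.act P.act) :
    NonAbH1.IsPushforwardAlongSch v P.act (NonAbH1.trivialAction G'') := by
  obtain ⟨hu, hv, huv, -, -⟩ := id hex
  obtain ⟨h, hh⟩ := hQ
  rw [pushforward_iff] at hh
  have hP := P.isTorsor.1
  have hQ := Q.isTorsor.1
  let W : Over S := P.X ⊗ Q.X
  let ψ : W ⟶ G'' := dif hP (fst P.X Q.X) (snd P.X Q.X ≫ h) ≫ v
  have hψ : ∀ {T : Over S} (x : T ⟶ P.X) (q : T ⟶ Q.X), lift x q ≫ ψ = dif hP x (q ≫ h) ≫ v := by
    intro T x q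
    rw [← Category.assoc, comp_dif, lift_fst, ← Category.assoc, lift_snd]
  have hloc := isLocallyTrivialFor_fst K P.X Q.X Q.isTorsor.2
  have hW : ∀ {T : Over S} (w : T ⟶ W), w = lift (w ≫ fst P.X Q.X) (w ≫ snd P.X Q.X) := by
    intro T w
    ext1 <;> simp
  obtain ⟨φ, hφ⟩ := over_exists_desc K (fst P.X Q.X) hloc ψ (by
    intro T w w' hw
    rw [hW w, hW w', hψ, hψ, ← hw]
    set x := w ≫ fst P.X Q.X
    set q := w ≫ snd P.X Q.X
    set q' := w' ≫ snd P.X Q.X
    have h1 : q = sm Q.act (dif hQ q q') q' := (sm_dif _ _ _).symm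
    rw [h1, hh, dif_sm_right, mul_comp, inv_comp, Category.assoc (dif _ _ _) u v, huv, comp_one,
      inv_one, _root_.mul_one])
  refine ⟨φ, ?_⟩
  rw [pushforward_iff]
  intro T g x
  obtain ⟨R, hR, hsec⟩ := exists_local_lift K (fst P.X Q.X) hloc x
  refine over_eq_of_cover K hR fun T' f hf => ?_
  obtain ⟨w, hw⟩ := hsec f hf
  have e1 : (memι f ≫ x) ≫ φ = dif hP (memι f ≫ x) ((w ≫ snd P.X Q.X) ≫ h) ≫ v := by
    rw [← hψ, ← hφ, ← Category.assoc, lift_fst]
  have e2 : sm P.act (memι f ≫ g) (memι f ≫ x) ≫ φ =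
      dif hP (sm P.act (memι f ≫ g) (memι f ≫ x)) ((w ≫ snd P.X Q.X) ≫ h) ≫ v := by
    rw [← hψ, ← hφ, ← Category.assoc, lift_fst]
  rw [← Category.assoc, comp_sm, e2, dif_sm_left, mul_comp, ← e1, K554.Fpqc.sm_trivialAction,
    comp_mul, Category.assoc, Category.assoc]

section kernel

variable {P : Over S} (a : AlgGrp.Action G P) (φ : P ⟶ G'')
  (hφ : ∀ {T : Over S} (g : T ⟶ G) (x : T ⟶ P), sm a g x ≫ φ = (g ≫ v) * (x ≫ φ))

/-- the kernel of an equivariant morphism -/
noncomputable abbrev ker (φ : P ⟶ G'') : Over S := pullback φ η[G'']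

/-- points of the kernel -/
noncomputable def kPt {T : Over S} (x : T ⟶ P) (h : x ≫ φ = 1) : T ⟶ ker φ :=
  pullback.lift x (toUnit T) h

@[simp] theorem kPt_fst {T : Over S} (x : T ⟶ P) (h : x ≫ φ = 1) :
    kPt φ x h ≫ pullback.fst φ η[G''] = x := pullback.lift_fst _ _ _

theorem ker_ext {T : Over S} {p q : T ⟶ ker φ}
    (h : p ≫ pullback.fst φ η[G''] = q ≫ pullback.fst φ η[G'']) : p = q :=
  pullback.hom_ext h (toUnit_unique _ _)

theorem ker_condition {T : Over S} (p : T ⟶ ker φ) :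
    (p ≫ pullback.fst φ η[G'']) ≫ φ = 1 := by
  rw [Category.assoc, pullback.condition, ← Category.assoc, toUnit_unique (p ≫ _) (toUnit T)]
  rfl

include hex hφ in
omit [K.toGrothendieck.Subcanonical] [K.IsStableUnderBaseChange] in
theorem kerAct_aux {T : Over S} (g' : T ⟶ G') (p : T ⟶ ker φ) :
    sm a (g' ≫ u) (p ≫ pullback.fst φ η[G'']) ≫ φ = 1 := by
  rw [hφ, Category.assoc g' u v, hex.2.2.1, comp_one, ker_condition, _root_.mul_one]

/-- `G'` acts on the kernel. -/
noncomputable def kerAct : AlgGrp.Action G' (ker φ) :=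
  K552.Push.ofPoints (fun {T} g' p => kPt φ (sm a (g' ≫ u) (p ≫ pullback.fst φ η[G'']))
      (kerAct_aux hex a φ hφ g' p))
    (by
      intro T T' t g' p
      apply ker_ext
      rw [Category.assoc, kPt_fst, kPt_fst, comp_sm, Category.assoc, Category.assoc])
    (by
      intro T p
      apply ker_ext
      have := hex.1
      rw [kPt_fst, one_comp, one_sm])
    (by
      intro T g h p
      apply ker_ext
      have := hex.1
      rw [kPt_fst, kPt_fst, kPt_fst, mul_comp, mul_sm])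

omit [K.toGrothendieck.Subcanonical] [K.IsStableUnderBaseChange] in
theorem sm_kerAct {T : Over S} (g' : T ⟶ G') (p : T ⟶ ker φ) :
    sm (kerAct hex a φ hφ) g' p ≫ pullback.fst φ η[G''] =
      sm a (g' ≫ u) (p ≫ pullback.fst φ η[G'']) := by
  change (lift g' p ≫ kPt φ (sm a (fst G' (ker φ) ≫ u) (snd G' (ker φ) ≫ pullback.fst φ η[G'']))
    (kerAct_aux hex a φ hφ _ _)) ≫ pullback.fst φ η[G''] = _
  rw [Category.assoc, kPt_fst, comp_sm, ← Category.assoc, lift_fst, ← Category.assoc,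
    lift_snd]

omit [K.toGrothendieck.Subcanonical] [K.IsStableUnderBaseChange] in
theorem isPseudoTorsor_kerAct (ha : NonAbH1.IsPseudoTorsorSch a) :
    NonAbH1.IsPseudoTorsorSch (kerAct hex a φ hφ) := by
  have := hex.2.1
  apply isPseudoTorsorSch_of_points
  intro T p p'
  set x := p ≫ pullback.fst φ η[G''] with hx
  set x' := p' ≫ pullback.fst φ η[G''] with hx'
  have h1 : dif ha x x' ≫ v = 1 := by
    have h2 := hφ (dif ha x x') x'
    rw [sm_dif, hx, ker_condition, hx', ker_condition, _root_.mul_one] at h2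
    exact h2.symm
  obtain ⟨h, hh⟩ := exists_of_eq hex (x := (1 : T ⟶ G)) (y := dif ha x x')
    (by rw [one_comp, h1])
  rw [_root_.one_mul] at hh
  refine ⟨h, ?_, ?_⟩
  · apply ker_ext
    rw [sm_kerAct, ← hh, sm_dif]
  · intro g hg
    apply u_injective hex
    have h1 := congrArg (fun z => z ≫ pullback.fst φ η[G'']) hg
    simp only [sm_kerAct] at h1
    rw [← hh]
    exact (dif_eq ha h1).symm

include hex hφ in
theorem isLocallyTrivial_ker [K.IsStableUnderComposition]
    (hP : NonAbH1.IsLocallyTrivialFor K P) : NonAbH1.IsLocallyTrivialFor K (ker φ) := by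
  have := hex.2.1
  obtain ⟨R, hR, hsec⟩ := hP
  refine isLocallyTrivialFor_comp K hR fun T f hf => ?_
  obtain ⟨σ, hσ⟩ := hsec f hf
  let x : (Over.mk f : Over S) ⟶ P := Over.homMk σ hσ
  obtain ⟨R', hR', hsec'⟩ := exists_local_lift_v hex (x ≫ φ)
  refine ⟨R', hR', fun T' g hg => ?_⟩
  obtain ⟨z, hz⟩ := hsec' g hg
  let y : mem (T := Over.mk f) g ⟶ ker φ := kPt φ (sm a z⁻¹ (memι (T := Over.mk f) g ≫ x)) (by
    rw [hφ, inv_comp, hz, Category.assoc, inv_mul_cancel])
  exact ⟨y.left, Over.w y⟩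

end kernel

include hex in
theorem exists_push_iff [K.IsStableUnderComposition] (P : NonAbH1.TorsorSch G K) :
    NonAbH1.IsPushforwardAlongSch v P.act (NonAbH1.trivialAction G'') ↔
      ∃ Q : NonAbH1.TorsorSch G' K, NonAbH1.IsPushforwardAlongSch u Q.act P.act := by
  refine ⟨fun h => ?_, fun ⟨Q, hQ⟩ => push_trivial_of_push hex P Q hQ⟩
  obtain ⟨φ, hφ'⟩ := h
  have hφ : ∀ {T : Over S} (g : T ⟶ G) (x : T ⟶ P.X),
      sm P.act g x ≫ φ = (g ≫ v) * (x ≫ φ) := by
    intro T g x
    rw [pushforward_iff] at hφ'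
    rw [hφ', K554.Fpqc.sm_trivialAction]
  refine ⟨⟨ker φ, kerAct hex P.act φ hφ, isPseudoTorsor_kerAct hex P.act φ hφ P.isTorsor.1,
    isLocallyTrivial_ker hex P.act φ hφ P.isTorsor.2⟩, pullback.fst φ η[G''], ?_⟩
  rw [pushforward_iff]
  intro T g x
  exact sm_kerAct hex P.act φ hφ g x

end push

end K151.ExSeq
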