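import Mathlib.RingTheory.Invariant.Basic
import Mathlib.RingTheory.Filtration
import Mathlib.RingTheory.Ideal.GoingUp
import Mathlib.RingTheory.Ideal.MinimalPrime.Localization
import Mathlib.RingTheory.Nakayama
import Mathlib.RingTheory.Localization.AtPrime.Basic
import Mathlib.RingTheory.Localization.Submodule

/-!
# Rings of invariants: the completed local ring of the decomposition ring
-/

set_option autoImplicit false

open scoped Pointwise
open IsLocalRing

namespace K151.DecompCpl

section abstractLocal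

variable {A L : Type*} [CommRing A] [IsLocalRing A] [CommRing L] [IsLocalRing L]
  [IsNoetherianRing L] (φ : A →+* L) [IsLocalHom φ]

theorem bijective_mod_pow (hS : ∀ y : L, ∃ a : A, y - φ a ∈ maximalIdeal L ^ 2)
    (hT : ∀ n, ∃ N, Ideal.comap φ (maximalIdeal L ^ N) ≤ maximalIdeal A ^ n) (n : ℕ) :
    Function.Surjective ((Ideal.Quotient.mk (maximalIdeal L ^ n)).comp φ) ∧
      Ideal.comap φ (maximalIdeal L ^ n) = maximalIdeal A ^ n := by
  have hle : (maximalIdeal A).map φ ≤ maximalIdeal L := by
    rw [Ideal.map_le_iff_le_comap]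
    intro a ha
    rw [Ideal.mem_comap, mem_maximalIdeal, mem_nonunits_iff, isUnit_map_iff]
    exact ha
  have hmax : (maximalIdeal A).map φ = maximalIdeal L := by
    refine le_antisymm hle ?_
    refine Submodule.le_of_le_smul_of_le_jacobson_bot (I := maximalIdeal L)
      (IsNoetherian.noetherian _) (IsLocalRing.maximalIdeal_le_jacobson _) ?_
    intro y hy
    obtain ⟨a, ha⟩ := hS y
    have h1 : φ a ∈ maximalIdeal L := by
      have h2 : y - φ a ∈ maximalIdeal L := Ideal.pow_le_self two_ne_zero ha
      have h3 := (maximalIdeal L).sub_mem hy h2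
      rwa [sub_sub_cancel] at h3
    have h2 : a ∈ maximalIdeal A := by
      rw [mem_maximalIdeal, mem_nonunits_iff, isUnit_map_iff] at h1
      exact h1
    refine Submodule.mem_sup.mpr ⟨φ a, Ideal.mem_map_of_mem _ h2, y - φ a, ?_, by ring⟩
    rw [smul_eq_mul, ← pow_two]
    exact ha
  have key : ∀ n, ∀ w ∈ maximalIdeal L ^ n, ∃ c ∈ maximalIdeal A ^ n,
      w - φ c ∈ maximalIdeal L ^ (n + 1) := by
    intro n w hw
    rw [← hmax, ← Ideal.map_pow] at hw
    induction hw using Submodule.span_induction with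
    | mem x hx =>
      obtain ⟨c, hc, rfl⟩ := hx
      exact ⟨c, hc, by simp⟩
    | zero => exact ⟨0, zero_mem _, by simp⟩
    | add x y _ _ hx hy =>
      obtain ⟨c, hc, hc'⟩ := hx
      obtain ⟨d, hd, hd'⟩ := hy
      refine ⟨c + d, add_mem hc hd, ?_⟩
      have : x + y - φ (c + d) = (x - φ c) + (y - φ d) := by rw [map_add]; ring
      rw [this]
      exact add_mem hc' hd'
    | smul l x _ hx =>
      obtain ⟨c, hc, hc'⟩ := hx
      obtain ⟨a, ha⟩ := hS l
      refine ⟨a * c, Ideal.mul_mem_left _ _ hc, ?_⟩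
      have : l • x - φ (a * c) = l * (x - φ c) + (l - φ a) * φ c := by
        rw [smul_eq_mul, map_mul]; ring
      rw [this]
      refine add_mem (Ideal.mul_mem_left _ _ hc') ?_
      rw [pow_succ' (maximalIdeal L) n]
      refine Ideal.mul_mem_mul (Ideal.pow_le_self two_ne_zero ha) ?_
      rw [← hmax, ← Ideal.map_pow]
      exact Ideal.mem_map_of_mem _ hc
  have hsurj : ∀ n, ∀ y : L, ∃ a : A, y - φ a ∈ maximalIdeal L ^ n := by
    intro n
    induction n with
    | zero => intro y; exact ⟨0, by simp⟩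
    | succ n ih =>
      intro y
      obtain ⟨a, ha⟩ := ih y
      obtain ⟨c, -, hc⟩ := key n _ ha
      exact ⟨a + c, by rw [map_add, ← sub_sub]; exact hc⟩
  refine ⟨fun x => ?_, le_antisymm ?_ ?_⟩
  · obtain ⟨y, rfl⟩ := Ideal.Quotient.mk_surjective x
    obtain ⟨a, ha⟩ := hsurj n y
    refine ⟨a, ?_⟩
    rw [RingHom.comp_apply, eq_comm, Ideal.Quotient.eq]
    exact ha
  · intro a ha
    rw [Ideal.mem_comap] at ha
    have h1 : ∀ k, ∃ c ∈ maximalIdeal A ^ n, φ a - φ c ∈ maximalIdeal L ^ (n + k) := by
      intro k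
      induction k with
      | zero => exact ⟨0, zero_mem _, by simpa using ha⟩
      | succ k ih =>
        obtain ⟨c, hc, hc'⟩ := ih
        obtain ⟨d, hd, hd'⟩ := key (n + k) _ hc'
        refine ⟨c + d, add_mem hc (Ideal.pow_le_pow_right (Nat.le_add_right n k) hd), ?_⟩
        rw [map_add, ← sub_sub]
        exact hd'
    obtain ⟨N, hN⟩ := hT n
    obtain ⟨c, hc, hc'⟩ := h1 N
    have h2 : a - c ∈ maximalIdeal A ^ n := hN (by
      rw [Ideal.mem_comap, map_sub]
      exact Ideal.pow_le_pow_right (Nat.le_add_left N n) hc')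
    have h3 := add_mem h2 hc
    rwa [sub_add_cancel] at h3
  · rw [← Ideal.map_le_iff_le_comap, Ideal.map_pow]
    exact Ideal.pow_right_mono hle n

end abstractLocal

section inv

variable {B R G : Type*} [CommRing B] [CommRing R] [Algebra B R] [Group G] [Finite G]
  [MulSemiringAction G R] [SMulCommClass G B R] [Algebra.IsInvariant B R G]

variable (G) in
theorem exists_mem_of_not_le (q : Ideal R) [q.IsPrime] (𝔞 : Ideal R)
    (h : ∀ g : G, ¬ 𝔞 ≤ g • q) : ∃ s : B, s ∉ q.under B ∧ algebraMap B R s ∈ 𝔞 := by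
  have hint : Algebra.IsIntegral B R := Algebra.IsInvariant.isIntegral B R G
  by_contra! hcon
  have hle : 𝔞.comap (algebraMap B R) ≤ q.under B := by
    intro s hs
    by_contra hs'
    exact hcon s hs' hs
  obtain ⟨Q, hQ, hQp, hQq⟩ := Ideal.exists_ideal_over_prime_of_isIntegral (q.under B) 𝔞 hle
  obtain ⟨g, rfl⟩ := Algebra.IsInvariant.exists_smul_of_under_eq B R G q Q hQq.symm
  exact h g hQ

omit [Finite G] [Algebra.IsInvariant B R G] in
theorem smul_mem_map (g : G) (I : Ideal B) {y : R} (hy : y ∈ I.map (algebraMap B R)) :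
    g • y ∈ I.map (algebraMap B R) := by
  induction hy using Submodule.span_induction with
  | mem x hx =>
    obtain ⟨b, hb, rfl⟩ := hx
    rw [smul_algebraMap]
    exact Ideal.mem_map_of_mem _ hb
  | zero => rw [smul_zero]; exact zero_mem _
  | add x y _ _ hx hy => rw [smul_add]; exact add_mem hx hy
  | smul a x _ hx => rw [smul_eq_mul, smul_mul']; exact Ideal.mul_mem_left _ _ hx

end inv

section top

variable {B R : Type*} [CommRing B] [CommRing R] [Algebra B R]

theorem exists_mul_mem_map_pow [IsNoetherianRing R] [Algebra.IsIntegral B R] (q : Ideal R)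
    [q.IsPrime] (n : ℕ) : ∃ N, ∀ y ∈ q ^ N, ∃ t ∉ q,
      t * y ∈ (q.under B ^ n).map (algebraMap B R) := by
  have hmin := Ideal.IsIntegral.mem_minimalPrimes_map_under (R := B) q
  have hnoeth : IsNoetherianRing (Localization.AtPrime q) :=
    IsLocalization.isNoetherianRing q.primeCompl _ inferInstance
  have hrad := IsLocalization.AtPrime.radical_map_of_mem_minimalPrimes
    (Localization.AtPrime q) q _ hmin
  obtain ⟨N, hN⟩ := (((q.under B).map (algebraMap B R)).map
    (algebraMap R (Localization.AtPrime q))).exists_radical_pow_le_of_fg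
      (IsNoetherian.noetherian _)
  rw [hrad] at hN
  refine ⟨N * n, fun y hy => ?_⟩
  have h1 : algebraMap R (Localization.AtPrime q) y ∈
      ((q.under B ^ n).map (algebraMap B R)).map (algebraMap R (Localization.AtPrime q)) := by
    rw [Ideal.map_pow, Ideal.map_pow]
    refine Ideal.pow_right_mono hN n ?_
    rw [← pow_mul, ← Ideal.map_pow]
    exact Ideal.mem_map_of_mem _ hy
  obtain ⟨t, ht, h2⟩ := (IsLocalization.algebraMap_mem_map_algebraMap_iff q.primeCompl
    (Localization.AtPrime q) _ _).mp h1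
  exact ⟨t, ht, h2⟩

theorem exists_pow_comap_le [IsNoetherianRing B] [Module.Finite B R]
    (hinj : Function.Injective (algebraMap B R)) (p : Ideal B) (n : ℕ) :
    ∃ n', ∀ x : B, algebraMap B R x ∈ (p ^ n').map (algebraMap B R) → x ∈ p ^ n := by
  obtain ⟨k, hk⟩ := p.exists_pow_inf_eq_pow_smul (LinearMap.range (Algebra.linearMap B R))
  refine ⟨n + k, fun x hx => ?_⟩
  have h1 : algebraMap B R x ∈ p ^ (n + k) • (⊤ : Submodule B R) ⊓
      LinearMap.range (Algebra.linearMap B R) := by
    refine ⟨?_, ⟨x, rfl⟩⟩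
    rw [Ideal.smul_top_eq_map]
    exact hx
  rw [hk (n + k) (Nat.le_add_left k n), Nat.add_sub_cancel] at h1
  have h2 : algebraMap B R x ∈ p ^ n • LinearMap.range (Algebra.linearMap B R) :=
    Submodule.smul_mono le_rfl inf_le_right h1
  rw [← Submodule.map_top, ← Submodule.map_smul''] at h2
  obtain ⟨y, hy, hy'⟩ := h2
  rw [← hinj hy']
  simpa using hy

end top

/-- Comparison of the topologies. -/
theorem exists_topology {B R : Type*} (G : Type*) [CommRing B] [CommRing R] [Algebra B R]
    [Group G] [Finite G] [MulSemiringAction G R] [SMulCommClass G B R] [Algebra.IsInvariant B R G]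
    [IsNoetherianRing B] [Module.Finite B R]
    (hinj : Function.Injective (algebraMap B R)) (q : Ideal R) [q.IsPrime] (n : ℕ) :
    ∃ N, ∀ x : B, ∀ t ∉ q, t * algebraMap B R x ∈ q ^ N →
      ∃ s ∉ q.under B, s * x ∈ (q.under B) ^ n := by
  have hint : Algebra.IsIntegral B R := Algebra.IsInvariant.isIntegral B R G
  have hR : IsNoetherianRing R := IsNoetherianRing.of_finite B R
  obtain ⟨n', hn'⟩ := exists_pow_comap_le hinj (q.under B) n
  obtain ⟨N, hN⟩ := exists_mul_mem_map_pow (B := B) q n'
  refine ⟨N, fun x t ht hx => ?_⟩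
  obtain ⟨t', ht', h1⟩ := hN _ hx
  let 𝔞 : Ideal R := Submodule.comap (LinearMap.mulRight R (algebraMap B R x))
    ((q.under B ^ n').map (algebraMap B R))
  have hmem : ∀ r, r ∈ 𝔞 ↔ r * algebraMap B R x ∈ (q.under B ^ n').map (algebraMap B R) :=
    fun r => Iff.rfl
  obtain ⟨s, hs, hs'⟩ := exists_mem_of_not_le (B := B) G q 𝔞 (by
    intro g hle
    have h2 : t' * t ∈ 𝔞 := by rw [hmem, mul_assoc]; exact h1
    have h3 : g • (t' * t) ∈ 𝔞 := by
      rw [hmem] at h2 ⊢
      have := smul_mem_map g _ h2
      rwa [smul_mul', smul_algebraMap] at this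
    have h4 := hle h3
    rw [Ideal.smul_mem_pointwise_smul_iff] at h4
    rcases (inferInstance : q.IsPrime).mem_or_mem h4 with h5 | h5
    · exact ht' h5
    · exact ht h5)
  refine ⟨s, hs, hn' _ ?_⟩
  rw [hmem, ← map_mul] at hs'
  exact hs'

section main

theorem not_under_le {B R' R G : Type*} [CommRing B] [CommRing R'] [CommRing R] [Algebra B R']
    [Algebra R' R] [Algebra B R] [IsScalarTower B R' R] [Group G] [Finite G]
    [MulSemiringAction G R] [SMulCommClass G B R] [Algebra.IsInvariant B R G] (H : Subgroup G)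
    [SMulCommClass H R' R] [Algebra.IsInvariant R' R H] [Algebra.IsIntegral B R']
    (q : Ideal R) [q.IsPrime] (hD : MulAction.stabilizer G q ≤ H) {g : G} (hg : g ∉ H) :
    ¬ (g • q).under R' ≤ q.under R' := by
  intro hle
  have hB : ((g • q).under R').comap (algebraMap B R') = (q.under R').comap (algebraMap B R') := by
    ext b
    change algebraMap R' R (algebraMap B R' b) ∈ g • q ↔ algebraMap R' R (algebraMap B R' b) ∈ q
    rw [← IsScalarTower.algebraMap_apply, Ideal.mem_pointwise_smul_iff_inv_smul_mem,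
      smul_algebraMap]
  have heq : (g • q).under R' = q.under R' := by
    by_contra hne
    exact absurd hB (Ideal.IsIntegral.comap_lt_comap (R := B) (lt_of_le_of_ne hle hne)).ne
  obtain ⟨h, hh⟩ := Algebra.IsInvariant.exists_smul_of_under_eq R' R H (g • q) q heq
  have h1 : (h : G) * g ∈ MulAction.stabilizer G q := by
    rw [MulAction.mem_stabilizer_iff, mul_smul]
    exact hh.symm
  have h2 := hD h1
  exact hg ((Subgroup.mul_mem_cancel_left H h.2).mp h2)

/-- The relative trace of an element which is small at the other primes. -/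
theorem exists_trace {B R' R G : Type*} [CommRing B] [CommRing R'] [CommRing R]
    [Algebra R' R] [Algebra B R] [Group G] [Finite G]
    [MulSemiringAction G R] [Algebra.IsInvariant B R G] (H : Subgroup G)
    [SMulCommClass H R' R]
    (q : Ideal R) (y : R') (N : ℕ) (hy : ∀ g ∉ H, algebraMap R' R y ∈ (g • q) ^ N) :
    ∃ b : B, algebraMap B R b - algebraMap R' R y ∈ q ^ N := by
  classical
  cases nonempty_fintype G
  have hyH : ∀ h ∈ H, h • algebraMap R' R y = algebraMap R' R y := fun h hh =>
    smul_algebraMap (⟨h, hh⟩ : H) y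
  let t : G ⧸ H → R := Quotient.lift (fun g : G => g • algebraMap R' R y) (by
    intro a b hab
    have h : a⁻¹ * b ∈ H := QuotientGroup.leftRel_apply.1 hab
    have h2 := hyH _ h
    change a • algebraMap R' R y = b • algebraMap R' R y
    conv_lhs => rw [← h2]
    rw [smul_smul, mul_inv_cancel_left])
  have ht : ∀ g : G, t (g : G ⧸ H) = g • algebraMap R' R y := fun g => rfl
  obtain ⟨b, hb⟩ := Algebra.IsInvariant.isInvariant (A := B) (G := G) (∑ c : G ⧸ H, t c) (by
    intro g
    rw [Finset.smul_sum]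
    refine Fintype.sum_equiv (MulAction.toPerm g) _ _ fun c => ?_
    induction c using QuotientGroup.induction_on with
    | H δ =>
      change g • t (δ : G ⧸ H) = t ((g * δ : G) : G ⧸ H)
      rw [ht, ht, mul_smul])
  refine ⟨b, ?_⟩
  rw [hb, ← Finset.add_sum_erase _ t (Finset.mem_univ ((1 : G) : G ⧸ H)), ht, one_smul,
    add_sub_cancel_left]
  refine Ideal.sum_mem _ fun c hc => ?_
  induction c using QuotientGroup.induction_on with
  | H δ =>
    have hδ : δ ∉ H := by
      intro h
      apply (Finset.mem_erase.1 hc).1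
      rw [eq_comm, QuotientGroup.eq, inv_one, one_mul]
      exact h
    rw [ht]
    have h1 := hy δ⁻¹ (fun h => hδ (inv_mem_iff.mp h))
    have h2 : δ • algebraMap R' R y ∈ δ • ((δ⁻¹ • q) ^ N) := Ideal.smul_mem_pointwise_smul _ _ _ h1
    rwa [smul_pow', smul_inv_smul] at h2

theorem exists_approx {B R' R G : Type*} [CommRing B] [CommRing R'] [CommRing R] [Algebra B R']
    [Algebra R' R] [Algebra B R] [IsScalarTower B R' R] [Group G] [Finite G]
    [MulSemiringAction G R] [SMulCommClass G B R] [Algebra.IsInvariant B R G] (H : Subgroup G)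
    [SMulCommClass H R' R] [Algebra.IsInvariant R' R H] [Algebra.IsIntegral B R']
    [IsNoetherianRing R'] [Module.Finite R' R] (hinj : Function.Injective (algebraMap R' R))
    (q : Ideal R) [q.IsPrime] (hD : MulAction.stabilizer G q ≤ H) (x : R') :
    ∃ b b₁ : B, algebraMap B R' b₁ ∉ q.under R' ∧ ∃ s ∉ q.under R',
      s * (x * algebraMap B R' b₁ - algebraMap B R' b) ∈ q.under R' ^ 2 := by
  classical
  cases nonempty_fintype G
  obtain ⟨N, hN⟩ := exists_topology (B := R') (R := R) H hinj q 2
  have h1 : ∀ g : G, ∃ e : R', e ∉ q.under R' ∧ (g ∉ H → algebraMap R' R e ∈ g • q) := by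
    intro g
    by_cases hg : g ∈ H
    · exact ⟨1, (Ideal.ne_top_iff_one _).mp (Ideal.IsPrime.ne_top inferInstance),
        fun h => absurd hg h⟩
    · obtain ⟨e, he, he'⟩ := SetLike.not_le_iff_exists.mp
        (not_under_le (B := B) (R' := R') H q hD hg)
      exact ⟨e, he', fun _ => he⟩
  choose e he he' using h1
  let E : R' := ∏ g : G, e g ^ (N + 1)
  have hE : E ∉ q.under R' := by
    intro h
    obtain ⟨g, -, hg⟩ := Ideal.IsPrime.prod_mem_iff.mp h
    exact he g (Ideal.IsPrime.mem_of_pow_mem inferInstance _ hg)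
  have hE' : ∀ g ∉ H, algebraMap R' R E ∈ (g • q) ^ (N + 1) := by
    intro g hg
    have : e g ^ (N + 1) ∣ E := Finset.dvd_prod_of_mem _ (Finset.mem_univ g)
    refine Ideal.mem_of_dvd _ (map_dvd (algebraMap R' R) this) ?_
    rw [map_pow]
    exact Ideal.pow_mem_pow (he' g hg) _
  obtain ⟨b₁, hb₁⟩ := exists_trace (B := B) H q E (N + 1) hE'
  obtain ⟨b, hb⟩ := exists_trace (B := B) H q (E * x) (N + 1) (fun g hg => by
    rw [map_mul]
    exact Ideal.mul_mem_right _ _ (hE' g hg))
  have hpow : q ^ (N + 1) ≤ q ^ N := Ideal.pow_le_pow_right (Nat.le_succ N)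
  obtain ⟨s₁, hs₁, h1⟩ := hN (algebraMap B R' b₁ - E) 1
    ((Ideal.ne_top_iff_one _).mp (Ideal.IsPrime.ne_top inferInstance)) (by
      rw [one_mul, map_sub, ← IsScalarTower.algebraMap_apply]
      exact hpow hb₁)
  obtain ⟨s, hs, h2⟩ := hN (algebraMap B R' b - E * x) 1
    ((Ideal.ne_top_iff_one _).mp (Ideal.IsPrime.ne_top inferInstance)) (by
      rw [one_mul, map_sub, ← IsScalarTower.algebraMap_apply]
      exact hpow hb)
  refine ⟨b, b₁, ?_, s₁ * s, ?_, ?_⟩
  · intro h
    apply hE
    have h3 : algebraMap R' R (algebraMap B R' b₁) - algebraMap R' R E ∈ q := by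
      rw [← IsScalarTower.algebraMap_apply]
      exact Ideal.pow_le_self (Nat.succ_ne_zero N) hb₁
    have h4 := q.sub_mem (show algebraMap R' R (algebraMap B R' b₁) ∈ q from h) h3
    rwa [sub_sub_cancel] at h4
  · intro h
    rcases (inferInstance : (q.under R').IsPrime).mem_or_mem h with h | h
    · exact hs₁ h
    · exact hs h
  · have h3 : s₁ * s * (x * algebraMap B R' b₁ - algebraMap B R' b) =
        s * x * (s₁ * (algebraMap B R' b₁ - E)) - s₁ * (s * (algebraMap B R' b - E * x)) := by
      ring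
    rw [h3]
    exact Ideal.sub_mem _ (Ideal.mul_mem_left _ _ h1) (Ideal.mul_mem_left _ _ h2)

/-- The local rings `B_p` and `R'_{q'}` have the same completion. -/
theorem final {B R' R G : Type*} [CommRing B] [CommRing R'] [CommRing R] [Algebra B R']
    [Algebra R' R] [Algebra B R] [IsScalarTower B R' R] [Group G] [Finite G]
    [MulSemiringAction G R] [SMulCommClass G B R] [Algebra.IsInvariant B R G] (H : Subgroup G)
    [SMulCommClass H R' R] [Algebra.IsInvariant R' R H] [Algebra.IsIntegral B R']
    [IsNoetherianRing B] [Module.Finite B R]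
    [IsNoetherianRing R'] [Module.Finite R' R] (hinj : Function.Injective (algebraMap R' R))
    (hinj' : Function.Injective (algebraMap B R))
    (q : Ideal R) [q.IsPrime] (hD : MulAction.stabilizer G q ≤ H)
    (q' : Ideal R') [q'.IsPrime] (hq' : q' = q.under R') (p : Ideal B) [p.IsPrime]
    (hp : p = q'.comap (algebraMap B R')) (n : ℕ) :
    Function.Surjective ((Ideal.Quotient.mk (maximalIdeal (Localization.AtPrime q') ^ n)).comp
      (Localization.localRingHom p q' (algebraMap B R') hp)) ∧
      Ideal.comap (Localization.localRingHom p q' (algebraMap B R') hp)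
        (maximalIdeal (Localization.AtPrime q') ^ n) =
        maximalIdeal (Localization.AtPrime p) ^ n := by
  have hnoeth : IsNoetherianRing (Localization.AtPrime q') :=
    IsLocalization.isNoetherianRing q'.primeCompl _ inferInstance
  have hpq : p = q.under B := by
    rw [hp, hq']
    ext b
    change algebraMap R' R (algebraMap B R' b) ∈ q ↔ algebraMap B R b ∈ q
    rw [← IsScalarTower.algebraMap_apply]
  let φ := Localization.localRingHom p q' (algebraMap B R') hp
  have hφ : ∀ b : B, φ (algebraMap B _ b) = algebraMap R' _ (algebraMap B R' b) :=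
    fun b => Localization.localRingHom_to_map _ _ _ _ _
  have hmemL : ∀ (x : R') (k : ℕ), algebraMap R' (Localization.AtPrime q') x ∈
      maximalIdeal (Localization.AtPrime q') ^ k ↔ ∃ s ∉ q', s * x ∈ q' ^ k := by
    intro x k
    rw [← Localization.AtPrime.map_eq_maximalIdeal, ← Ideal.map_pow]
    exact IsLocalization.algebraMap_mem_map_algebraMap_iff q'.primeCompl _ _ _
  have hmemA : ∀ (x : B) (k : ℕ), (∃ s ∉ p, s * x ∈ p ^ k) →
      algebraMap B (Localization.AtPrime p) x ∈ maximalIdeal (Localization.AtPrime p) ^ k := by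
    intro x k h
    rw [← Localization.AtPrime.map_eq_maximalIdeal, ← Ideal.map_pow]
    exact (IsLocalization.algebraMap_mem_map_algebraMap_iff p.primeCompl _ _ _).mpr h
  refine bijective_mod_pow φ ?_ ?_ n
  · -- approximation
    have happ : ∀ x : R', ∃ b b₁ : B, b₁ ∉ p ∧ algebraMap R' (Localization.AtPrime q')
        (x * algebraMap B R' b₁ - algebraMap B R' b) ∈
          maximalIdeal (Localization.AtPrime q') ^ 2 := by
      intro x
      obtain ⟨b, b₁, h1, s, hs, h2⟩ := exists_approx (B := B) (R' := R') H hinj q hD x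
      refine ⟨b, b₁, ?_, (hmemL _ _).mpr ⟨s, ?_, ?_⟩⟩
      · rw [hp, hq']; exact h1
      · rw [hq']; exact hs
      · rw [hq']; exact h2
    intro y
    obtain ⟨x, t, rfl⟩ := IsLocalization.exists_mk'_eq q'.primeCompl y
    obtain ⟨b, b₁, hb₁, h1⟩ := happ x
    obtain ⟨c, c₁, hc₁, h2⟩ := happ t
    have hc : c ∉ p := by
      intro hc
      have h3 : algebraMap B R' c ∈ q' := by rw [hp] at hc; exact hc
      obtain ⟨s, hs, h4⟩ := (hmemL _ _).mp h2
      have h5 : s * ((t : R') * algebraMap B R' c₁) ∈ q' := by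
        have h6 : s * ((t : R') * algebraMap B R' c₁ - algebraMap B R' c) ∈ q' :=
          Ideal.pow_le_self two_ne_zero h4
        have h7 := q'.add_mem h6 (q'.mul_mem_left s h3)
        rwa [← mul_add, sub_add_cancel] at h7
      rcases (inferInstance : q'.IsPrime).mem_or_mem h5 with h6 | h6
      · exact hs h6
      · rcases (inferInstance : q'.IsPrime).mem_or_mem h6 with h7 | h7
        · exact t.2 h7
        · exact hc₁ (by rw [hp]; exact h7)
    have hb₁c : b₁ * c ∈ p.primeCompl := fun h =>
      ((inferInstance : p.IsPrime).mem_or_mem h).elim hb₁ hc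
    refine ⟨IsLocalization.mk' _ (b * c₁) (⟨b₁ * c, hb₁c⟩ : p.primeCompl), ?_⟩
    set L := Localization.AtPrime q'
    set α := algebraMap R' L
    have u1 : IsUnit (α t) := IsLocalization.map_units L t
    have u2 : IsUnit (φ (algebraMap B _ (b₁ * c))) :=
      (IsLocalization.map_units (Localization.AtPrime p) (⟨b₁ * c, hb₁c⟩ : p.primeCompl)).map φ
    have e1 : IsLocalization.mk' L x t * α t = α x := IsLocalization.mk'_spec _ _ _
    have e2 : φ (IsLocalization.mk' _ (b * c₁) (⟨b₁ * c, hb₁c⟩ : p.primeCompl)) *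
        φ (algebraMap B _ (b₁ * c)) = φ (algebraMap B _ (b * c₁)) := by
      rw [← map_mul]
      congr 1
      exact IsLocalization.mk'_spec _ _ (⟨b₁ * c, hb₁c⟩ : p.primeCompl)
    set Y := IsLocalization.mk' L x t
    set Z := φ (IsLocalization.mk' _ (b * c₁) (⟨b₁ * c, hb₁c⟩ : p.primeCompl))
    rw [hφ, map_mul, map_mul] at u2
    rw [hφ, hφ, map_mul, map_mul, map_mul, map_mul] at e2
    rw [map_sub, map_mul] at h1 h2
    have h3 : (α t * (α (algebraMap B R' b₁) * α (algebraMap B R' c))) * (Y - Z) ∈
        maximalIdeal L ^ 2 := by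
      have h4 : (α t * (α (algebraMap B R' b₁) * α (algebraMap B R' c))) * (Y - Z) =
          α (algebraMap B R' c) * (α x * α (algebraMap B R' b₁) - α (algebraMap B R' b)) -
            α (algebraMap B R' b) * (α t * α (algebraMap B R' c₁) - α (algebraMap B R' c)) := by
        linear_combination (α (algebraMap B R' b₁) * α (algebraMap B R' c)) * e1 - α t * e2
      rw [h4]
      exact Ideal.sub_mem _ (Ideal.mul_mem_left _ _ h1) (Ideal.mul_mem_left _ _ h2)
    exact ((maximalIdeal L ^ 2).unit_mul_mem_iff_mem (u1.mul u2)).mp h3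
  · -- topology
    intro n
    obtain ⟨N, hN⟩ := exists_topology (B := B) (R := R) G hinj' q n
    refine ⟨N, fun a ha => ?_⟩
    obtain ⟨b, s, rfl⟩ := IsLocalization.exists_mk'_eq p.primeCompl a
    have e1 : IsLocalization.mk' (Localization.AtPrime p) b s * algebraMap B _ (s : B) =
      algebraMap B _ b := IsLocalization.mk'_spec _ _ _
    have u1 : IsUnit (algebraMap B (Localization.AtPrime p) (s : B)) :=
      IsLocalization.map_units _ s
    have h1 : algebraMap R' (Localization.AtPrime q') (algebraMap B R' b) ∈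
        maximalIdeal (Localization.AtPrime q') ^ N := by
      rw [← hφ, ← e1, map_mul]
      exact Ideal.mul_mem_right _ _ ha
    obtain ⟨t, ht, h2⟩ := (hmemL _ _).mp h1
    obtain ⟨s', hs', h3⟩ := hN b (algebraMap R' R t) (fun h => ht (by rw [hq']; exact h)) (by
      rw [IsScalarTower.algebraMap_apply B R' R, ← map_mul]
      have h4 : algebraMap R' R (t * algebraMap B R' b) ∈ (q' ^ N).map (algebraMap R' R) :=
        Ideal.mem_map_of_mem _ h2
      rw [Ideal.map_pow] at h4
      exact Ideal.pow_right_mono (by rw [Ideal.map_le_iff_le_comap, hq']) N h4)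
    have h4 := hmemA b n ⟨s', by rw [hpq]; exact hs', by rw [hpq]; exact h3⟩
    rw [← e1] at h4
    exact ((maximalIdeal (Localization.AtPrime p) ^ n).mul_unit_mem_iff_mem u1).mp h4

end main

end K151.DecompCpl
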