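import Mathlib.RingTheory.IsGaloisGroup.Basic
import Mathlib.FieldTheory.Galois.IsGaloisGroup
import Mathlib.FieldTheory.Galois.Abelian
import Mathlib.RingTheory.Localization.FractionRing
import Mathlib.RingTheory.IntegralClosure.IntegrallyClosed

/-!
# Integrally closed intermediate rings of an abelian Galois extension

`A ⊆ B ⊆ K` domains, `K` with an action of a finite commutative group `G` with invariants `A`, and
`B` integrally closed and integral over `A`: then `B` is stable under `G`.
-/

set_option autoImplicit false

universe u v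

namespace K151.AbStable

section Frac

variable {A K B : Type u} [CommRing A] [CommRing K] [IsDomain K] [Algebra A K]
  [CommRing B] [IsDomain B] [IsIntegrallyClosed B] [Algebra A B] (ψ : B →ₐ[A] K)
  (hψ : Function.Injective ψ)

include hψ in
omit [IsDomain K] [IsDomain B] [IsIntegrallyClosed B] in
theorem injective_comp : Function.Injective ((algebraMap K (FractionRing K)).comp (ψ : B →+* K)) :=
  (IsFractionRing.injective K (FractionRing K)).comp hψ

/-- The induced map on fraction fields. -/
noncomputable def fracMap : FractionRing B →+* FractionRing K :=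
  IsFractionRing.lift (injective_comp ψ hψ)

omit [IsIntegrallyClosed B] in
theorem fracMap_algebraMap (b : B) :
    fracMap ψ hψ (algebraMap B (FractionRing B) b) = algebraMap K (FractionRing K) (ψ b) := by
  rw [fracMap, IsFractionRing.lift_algebraMap]
  rfl

/-- Integral elements of `K` in the fraction field of `B` are in `B`. -/
theorem exists_eq_of_frac (x : K) (hx : IsIntegral A x) (z : FractionRing B)
    (hz : fracMap ψ hψ z = algebraMap K (FractionRing K) x) : ∃ b, ψ b = x := by
  have hcomp : (fracMap ψ hψ).comp ((algebraMap B (FractionRing B)).comp (algebraMap A B)) =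
      (algebraMap K (FractionRing K)).comp (algebraMap A K) := by
    ext a
    simp only [RingHom.comp_apply]
    rw [fracMap_algebraMap, ψ.commutes]
  obtain ⟨p, hp, hpx⟩ := hx
  have hint : IsIntegral B z := by
    refine ⟨p.map (algebraMap A B), hp.map _, ?_⟩
    rw [Polynomial.eval₂_map]
    apply (fracMap ψ hψ).injective
    rw [map_zero, Polynomial.hom_eval₂, hz, hcomp, ← Polynomial.hom_eval₂, hpx, map_zero]
  obtain ⟨b, hb⟩ := IsIntegrallyClosed.isIntegral_iff.mp hint
  refine ⟨b, IsFractionRing.injective K (FractionRing K) ?_⟩
  rw [← hz, ← hb, fracMap_algebraMap]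

include hψ in
/-- Division in integrally closed subrings. -/
theorem exists_eq_of_mul [Algebra.IsIntegral A K] (x : K) (y b : B) (hy : y ≠ 0) (h : ψ y * x = ψ b) :
    ∃ b', ψ b' = x := by
  refine exists_eq_of_frac ψ hψ x (Algebra.IsIntegral.isIntegral x)
    (algebraMap B (FractionRing B) b / algebraMap B (FractionRing B) y) ?_
  have hy' : algebraMap K (FractionRing K) (ψ y) ≠ 0 := by
    rw [Ne, map_eq_zero_iff _ (IsFractionRing.injective K (FractionRing K)), map_eq_zero_iff _ hψ]
    exact hy
  rw [map_div₀, fracMap_algebraMap, fracMap_algebraMap, div_eq_iff hy', ← map_mul, mul_comm x, h]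

end Frac

/-- Integrally closed intermediate rings of an abelian Galois extension are stable under the Galois
group. -/
theorem exists_smul_eq {G : Type v} [CommGroup G] [Finite G] {A K B : Type u} [CommRing A] [IsDomain A]
    [CommRing K] [IsDomain K] [Algebra A K] [FaithfulSMul A K] [MulSemiringAction G K]
    [IsGaloisGroup G A K] [CommRing B] [IsDomain B] [IsIntegrallyClosed B] [Algebra A B]
    [Algebra.IsIntegral A K] (ψ : B →ₐ[A] K) (hψ : Function.Injective ψ) (g : G) (b : B) :
    ∃ b', ψ b' = g • ψ b := by
  let FA := FractionRing A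
  let FK := FractionRing K
  let : Algebra FA FK := FractionRing.liftAlgebra A FK
  have : IsScalarTower A FA FK := FractionRing.isScalarTower_liftAlgebra A FK
  let : MulSemiringAction G FK := IsFractionRing.mulSemiringAction G K FK
  have hG : IsGaloisGroup G FA FK := IsGaloisGroup.to_isFractionRing G A K FA FK
  have hgal : IsGalois FA FK := IsGaloisGroup.isGalois G FA FK
  have hfd : FiniteDimensional FA FK := IsGaloisGroup.finiteDimensional G FA FK
  have hab : IsAbelianGalois FA FK :=
    { hgal with
      is_comm := ⟨fun σ τ => by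
        have h1 := (IsGaloisGroup.mulEquivAlgEquiv G FA FK).symm.injective
        apply h1
        rw [map_mul, map_mul, mul_comm]⟩ }
  let E : IntermediateField FA FK :=
    (fracMap ψ hψ).fieldRange.toIntermediateField (fun x => by
      obtain ⟨a, s, hs, rfl⟩ := IsFractionRing.div_surjective A x
      rw [map_div₀]
      have h1 : ∀ a : A, algebraMap FA FK (algebraMap A FA a) ∈ (fracMap ψ hψ).fieldRange := by
        intro a
        refine ⟨algebraMap B _ (algebraMap A B a), ?_⟩
        rw [fracMap_algebraMap, ψ.commutes, ← IsScalarTower.algebraMap_apply,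
          ← IsScalarTower.algebraMap_apply]
      exact div_mem (h1 a) (h1 s))
  have hnormal : Normal FA E := inferInstance
  let σ : FK ≃ₐ[FA] FK := IsGaloisGroup.mulEquivAlgEquiv G FA FK g
  have hmap : E.map (σ : FK →ₐ[FA] FK) = E := by
    have := (IntermediateField.normal_iff_forall_map_eq'.mp hnormal) σ
    exact this
  have hmem : algebraMap K FK (ψ b) ∈ E := ⟨algebraMap B _ b, fracMap_algebraMap ψ hψ b⟩
  have hmem2 : σ (algebraMap K FK (ψ b)) ∈ E := by
    rw [← hmap]
    exact ⟨_, hmem, rfl⟩
  obtain ⟨z, hz⟩ := hmem2
  have hσ : σ (algebraMap K FK (ψ b)) = algebraMap K FK (g • ψ b) := by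
    have h1 : σ (algebraMap K FK (ψ b)) = g • (algebraMap K FK (ψ b)) := rfl
    rw [h1]
    exact (algebraMap.coe_smul' g (ψ b) FK).symm
  exact exists_eq_of_frac ψ hψ (g • ψ b) (Algebra.IsIntegral.isIntegral _) z (hz.trans hσ)

end K151.AbStable
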