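import Groth.Agent.Ega3B.SecLiftMain
import Groth.Agent.Ega3B.FibreCmp
import Groth.Agent.PerfB.StructFlat
import Groth.Agent.Fdesc.LocGenPullback

/-!
# Vanishing of cohomology and lifting of sections from the closed fibre

`X` proper over `Spec A`, `A` Noetherian local, `N` coherent on `X` and flat over `A`.

* `subsingleton_HH`: if `H^q` of the closed fibre vanishes, then so does `H^q(X_B, N_B)` for every
  `A`-algebra `B`;
* `exists_section`: if `H^1` of the closed fibre vanishes, sections of the restriction of `N` to the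
  closed fibre lift.
-/

set_option autoImplicit false
universe u

open CategoryTheory CategoryTheory.Limits AlgebraicGeometry Opposite

namespace K151.ClosedVan

open Groth.Agent Groth.Agent.Ega3B

variable {A : Type u} [CommRing A] [IsNoetherianRing A] [IsLocalRing A] {X : Scheme.{u}}
  [X.Over (Spec (CommRingCat.of A))]

open IsLocalRing

theorem subsingleton_T [IsProper (X ↘ Spec (CommRingCat.of A))] (N : X.Modules) (hN : Coh.IsCoh N)
    (hfl : FlatMod.IsFlatOver (X ↘ Spec (CommRingCat.of A)) N) (q : ℕ)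
    (h : Subsingleton ((CohIII.tensorAFunctor A N ⋙ CohIII.HAb X q).obj
      (ModuleCat.of A (maximalIdeal A).ResidueField))) (M : ModuleCat.{u} A) :
    Subsingleton ((CohIII.tensorAFunctor A N ⋙ CohIII.HAb X q).obj M) := by
  obtain ⟨P, hP, -, he⟩ := Master.exists_complex X N hN hfl
  obtain ⟨e⟩ := he q
  have hz : IsZero ((CohIII.TFun P (-(q : ℤ))).obj (ModuleCat.of A (maximalIdeal A).ResidueField)) := by
    rw [ModuleCat.isZero_iff_subsingleton]
    exact (e.app _).symm.addCommGroupIsoToAddEquiv.toEquiv.subsingleton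
  obtain ⟨s, hs, hkill⟩ := LiftFibre.exists_smul_T_eq_zero P hP (maximalIdeal A) (-(q : ℤ)) hz
  have hsu : IsUnit s := by
    by_contra h0
    exact hs ((mem_maximalIdeal s).mpr h0)
  have hsub : Subsingleton ((CohIII.TFun P (-(q : ℤ))).obj M) := by
    refine subsingleton_of_forall_eq 0 fun x => ?_
    exact (hsu.smul_eq_zero).mp (hkill M x)
  exact @Equiv.subsingleton _ _ (e.app M).addCommGroupIsoToAddEquiv.toEquiv hsub

/-- The residue field of the maximal ideal. -/
noncomputable def resEquiv (A : Type u) [CommRing A] [IsLocalRing A] :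
    ResidueField A ≃+* (maximalIdeal A).ResidueField :=
  RingEquiv.ofBijective (algebraMap (A ⧸ maximalIdeal A) (maximalIdeal A).ResidueField)
    (Ideal.bijective_algebraMap_quotient_residueField (maximalIdeal A))

theorem resEquiv_residue (A : Type u) [CommRing A] [IsLocalRing A] (a : A) :
    resEquiv A (residue A a) = algebraMap A (maximalIdeal A).ResidueField a := rfl

/-- `Spec κ(m) ≅ Spec k`. -/
noncomputable def specRes (A : Type u) [CommRing A] [IsLocalRing A] :
    Spec (CommRingCat.of (maximalIdeal A).ResidueField) ≅ Spec (CommRingCat.of (ResidueField A)) :=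
  Scheme.Spec.mapIso (resEquiv A).toCommRingCatIso.op

theorem specRes_hom (A : Type u) [CommRing A] [IsLocalRing A] :
    (specRes A).hom ≫ Spec.map (CommRingCat.ofHom (residue A)) =
      Spec.map (CommRingCat.ofHom (algebraMap A (maximalIdeal A).ResidueField)) := by
  have h1 : (specRes A).hom = Spec.map (CommRingCat.ofHom ((resEquiv A : ResidueField A ≃+* _) :
    ResidueField A →+* (maximalIdeal A).ResidueField)) := rfl
  rw [h1, ← Spec.map_comp]
  rfl

omit [IsNoetherianRing A] in
theorem isPullback_res {Z : Scheme.{u}} {j : Z ⟶ X} {q : Z ⟶ Spec (CommRingCat.of (ResidueField A))}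
    (H : IsPullback j q (X ↘ Spec (CommRingCat.of A)) (Spec.map (CommRingCat.ofHom (residue A)))) :
    IsPullback j (q ≫ (specRes A).inv) (X ↘ Spec (CommRingCat.of A))
      (Spec.map (CommRingCat.ofHom (algebraMap A (maximalIdeal A).ResidueField))) := by
  refine IsPullback.of_iso H (Iso.refl _) (Iso.refl _) (specRes A).symm (Iso.refl _) ?_ ?_ ?_ ?_
  · simp
  · simp
  · simp
  · rw [Iso.refl_hom, Category.comp_id, ← specRes_hom, Iso.symm_hom, Iso.inv_hom_id_assoc]

/-- Vanishing of `H^q` of the closed fibre implies vanishing after any base change. -/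
theorem subsingleton_HH [IsProper (X ↘ Spec (CommRingCat.of A))] (N : X.Modules) (hN : Coh.IsCoh N)
    (hfl : FlatMod.IsFlatOver (X ↘ Spec (CommRingCat.of A)) N) (n : ℕ)
    {Z : Scheme.{u}} {j : Z ⟶ X} {q : Z ⟶ Spec (CommRingCat.of (ResidueField A))}
    (H : IsPullback j q (X ↘ Spec (CommRingCat.of A)) (Spec.map (CommRingCat.ofHom (residue A))))
    (h : Subsingleton (Coh.HH Z ((Scheme.Modules.pullback j).obj N) n))
    {B : Type u} [CommRing B] [Algebra A B] {Z' : Scheme.{u}} {j' : Z' ⟶ X}
    {q' : Z' ⟶ Spec (CommRingCat.of B)} (H' : IsPullback j' q' (X ↘ Spec (CommRingCat.of A))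
      (Spec.map (CommRingCat.ofHom (algebraMap A B)))) :
    Subsingleton (Coh.HH Z' ((Scheme.Modules.pullback j').obj N) n) := by
  obtain ⟨e, -⟩ := FibreCmp.exists_cmp j _ (isPullback_res H) N hN.1 n
  have h1 := subsingleton_T N hN hfl n e.symm.toEquiv.subsingleton (ModuleCat.of A B)
  obtain ⟨e', -⟩ := FibreCmp.exists_cmp j' q' H' N hN.1 n
  exact e'.toEquiv.subsingleton

open Groth.Agent.Fdesc.LocGen Groth.Agent.Ega3B.EqzSections in
/-- Sections of the restriction to the closed fibre lift if `H^1` of the closed fibre vanishes. -/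
theorem exists_section [IsProper (X ↘ Spec (CommRingCat.of A))] (N : X.Modules) (hN : Coh.IsCoh N)
    (hfl : FlatMod.IsFlatOver (X ↘ Spec (CommRingCat.of A)) N)
    {Z : Scheme.{u}} {j : Z ⟶ X} {q : Z ⟶ Spec (CommRingCat.of (ResidueField A))}
    (H : IsPullback j q (X ↘ Spec (CommRingCat.of A)) (Spec.map (CommRingCat.ofHom (residue A))))
    (h : Subsingleton (Coh.HH Z ((Scheme.Modules.pullback j).obj N) 1))
    (t : Γ((Scheme.Modules.pullback j).obj N, ⊤)) : ∃ s : Γ(N, ⊤), pullTop j s = t := by
  obtain ⟨e, -⟩ := FibreCmp.exists_cmp j _ (isPullback_res H) N hN.1 1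
  obtain ⟨a, s, ha, hs⟩ := SecLiftMain.exists_sec_lift N hN hfl (maximalIdeal A)
    e.symm.toEquiv.subsingleton (isPullback_res H) t
  have ha' : IsUnit a := by
    by_contra h0
    exact ha ((mem_maximalIdeal a).mpr h0)
  obtain ⟨b, hb⟩ := ha'.exists_left_inv
  have h2 : Groth.Agent.VarietyB.PullSec.sec j N (le_refl (j ⁻¹ᵁ ⊤)) s = pullTop j s :=
    res_refl _ (pullSec j s)
  refine ⟨TensorASec.algSec A (⊤ : X.Opens) b • s, ?_⟩
  refine (pullSec_smul j (TensorASec.algSec A (⊤ : X.Opens) b) s).trans ?_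
  have h4 := SecLift.appLE_algSec (isPullback_res H) ⊤ (le_refl (j ⁻¹ᵁ ⊤)) b
  have h5 : j.app ⊤ (TensorASec.algSec A (⊤ : X.Opens) b) =
      secMap (q ≫ (specRes A).inv) (j ⁻¹ᵁ ⊤) (algebraMap A (maximalIdeal A).ResidueField b) := by
    rw [← h4, Scheme.Hom.app_eq_appLE]
  rw [h5]
  have hs' : pullTop j s = secMap (q ≫ (specRes A).inv) ⊤
      (algebraMap A (maximalIdeal A).ResidueField a) • t := h2.symm.trans hs
  change secMap (q ≫ (specRes A).inv) ⊤ (algebraMap A (maximalIdeal A).ResidueField b) •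
    pullTop j s = t
  rw [hs', smul_smul, ← map_mul, ← map_mul, hb, map_one, map_one, one_smul]

end K151.ClosedVan
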