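import Groth.Agent.SGA1.K151.ClosedVan
import Groth.Agent.PicLoc.K730.LeffProper
import Groth.Agent.Lefx.H80.NhdPic
import Groth.Agent.Pic13.H126.ThickH1
import Groth.Agent.Sga2.PicThick

/-!
# Lifting invertible modules from the closed fibre over a complete local ring

`A` complete Noetherian local, `X` proper and flat over `A` with `H^1(X₀, O) = H^2(X₀, O) = 0`,
`X₀` the closed fibre: every invertible module on `X₀` is the restriction of an invertible module
on `X`.
-/

set_option autoImplicit false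
universe u

open CategoryTheory CategoryTheory.Limits AlgebraicGeometry Opposite

namespace K151.PicLift

open Groth.Agent IsLocalRing
open Groth.Agent.Sga2lef.H96.ModSysFormal (isGenBy_comap)

section Ideal

variable {A : Type u} [CommRing A] {X : Scheme.{u}} [X.Over (Spec (CommRingCat.of A))]

theorem idl_pow (I : Ideal A) (n : ℕ) :
    K730.NhdTop.idl I (X ↘ Spec (CommRingCat.of A)) ^ n =
      K730.NhdTop.idl (I ^ n) (X ↘ Spec (CommRingCat.of A)) := by
  have h1 := (isGenBy_comap (X := X) I).pow n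
  have h2 := isGenBy_comap (X := X) (I ^ n)
  exact Scheme.IdealSheafData.ext (funext fun V => (h1 V).trans (h2 V).symm)

omit [X.Over (Spec (CommRingCat.of A))] in
/-- `V(I O_X) = X ×_A A/I`. -/
theorem exists_isPullback (I : Ideal A) {f : X ⟶ Spec (CommRingCat.of A)} (K : X.IdealSheafData)
    (hK : K = K730.NhdTop.idl I f) :
    ∃ q, IsPullback K.subschemeι q f (Spec.map (CommRingCat.ofHom (Ideal.Quotient.mk I))) := by
  subst hK
  let g := Spec.map (CommRingCat.ofHom (Ideal.Quotient.mk I))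
  have hg : IsClosedImmersion g := IsClosedImmersion.spec_of_surjective _ Ideal.Quotient.mk_surjective
  have hi : IsIso g.toImage := inferInstance
  have h1 : IsPullback (pullback.fst f g.ker.subschemeι) (pullback.snd f g.ker.subschemeι) f
    g.ker.subschemeι := IsPullback.of_hasPullback _ _
  refine ⟨(g.ker.comapIso f).hom ≫ pullback.snd f g.ker.subschemeι ≫ (asIso g.toImage).inv,
    IsPullback.of_iso h1 (g.ker.comapIso f).symm (Iso.refl _) (asIso g.toImage).symm
    (Iso.refl _) ?_ ?_ ?_ ?_⟩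
  · exact (Category.comp_id _).trans (Scheme.IdealSheafData.comapIso_inv_subschemeι _ _).symm
  · rw [Iso.symm_hom, Iso.symm_hom, Iso.inv_hom_id_assoc]
  · simp
  · rw [Iso.refl_hom, Category.comp_id, Iso.symm_hom, Iso.eq_inv_comp]
    exact g.toImage_imageι

end Ideal

section Van

variable {A : Type u} [CommRing A] [IsNoetherianRing A] [IsLocalRing A] {X : Scheme.{u}}
  [X.Over (Spec (CommRingCat.of A))] [IsProper (X ↘ Spec (CommRingCat.of A))]
  [Flat (X ↘ Spec (CommRingCat.of A))]
  {Z : Scheme.{u}} {j : Z ⟶ X} {q : Z ⟶ Spec (CommRingCat.of (ResidueField A))}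
  (H : IsPullback j q (X ↘ Spec (CommRingCat.of A)) (Spec.map (CommRingCat.ofHom (residue A))))

include H in
/-- Vanishing of `H^n(O)` after base change. -/
theorem subsingleton_structure (n : ℕ) (h : Subsingleton (Coh.HH Z (Coh.structureModule Z) n))
    {B : Type u} [CommRing B] [Algebra A B] {Z' : Scheme.{u}} {j' : Z' ⟶ X}
    {q' : Z' ⟶ Spec (CommRingCat.of B)} (H' : IsPullback j' q' (X ↘ Spec (CommRingCat.of A))
      (Spec.map (CommRingCat.ofHom (algebraMap A B)))) :
    Subsingleton (Coh.HH Z' (Coh.structureModule Z') n) := by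
  have hln : IsLocallyNoetherian X := LocallyOfFiniteType.isLocallyNoetherian (X ↘ Spec (CommRingCat.of A))
  have h1 := ClosedVan.subsingleton_HH (Coh.structureModule X)
    (Groth.Agent.Fdesc.StructMod.isCoh_structureModule _)
    (Groth.Agent.PerfB.StructFlat.isFlatOver_structure _) n H
    (Sga2.ThickCoh.subsingleton_HH_of_iso (Fga.UnitRestrict.pullbackUnitIso j).symm n h) H'
  exact Sga2.ThickCoh.subsingleton_HH_of_iso (Fga.UnitRestrict.pullbackUnitIso j') n h1

include H in
theorem subsingleton_quotMod (n : ℕ) (h : Subsingleton (Coh.HH Z (Coh.structureModule Z) n))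
    (I : Ideal A) (K : X.IdealSheafData)
    (hK : K = K730.NhdTop.idl I (X ↘ Spec (CommRingCat.of A))) :
    Subsingleton (Coh.HH X (ClSub.quotMod K) n) := by
  obtain ⟨q', hq'⟩ := exists_isPullback I K hK
  exact Sga2.PicThick.subsingleton_HH_pushforward _ _ n (subsingleton_structure H n h hq')

theorem subsingleton_kernel {X : Scheme.{u}} {I J : X.IdealSheafData} (h : I ≤ J) (n : ℕ)
    (h1 : Subsingleton (Coh.HH X (ClSub.quotMod J) n))
    (h2 : Subsingleton (Coh.HH X (ClSub.quotMod I) (n + 1))) :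
    Subsingleton (Coh.HH X (kernel (Lef.quotMap h)) (n + 1)) := by
  have h3 := Pic13.H126.ThickH1.epi_toSubscheme J
  rw [← Pic13.H126.ThickH1.toSubscheme_quotMap h] at h3
  have h4 : Epi (Lef.quotMap h) := epi_of_epi (ClSub.toSubscheme I) _
  have hS : (ShortComplex.mk (kernel.ι (Lef.quotMap h)) (Lef.quotMap h)
    (kernel.condition _)).ShortExact := { exact := ShortComplex.exact_kernel _ }
  have key : ∀ x : Coh.HH X (kernel (Lef.quotMap h)) (n + 1), x = 0 := by
    intro x
    obtain ⟨y, hy⟩ := FormalB.HHLin.exact₁ hS n x (Subsingleton.elim (α := Coh.HH X (ClSub.quotMod I) (n + 1)) _ _)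
    have hy0 : y = 0 := Subsingleton.elim (α := Coh.HH X (ClSub.quotMod J) n) _ _
    rw [← hy, hy0, map_zero]
  exact ⟨fun a b => (key a).trans (key b).symm⟩

include H in
/-- Invertible modules lift from the closed fibre. -/
theorem exists_lift [IsAdicComplete (maximalIdeal A) A]
    (h1 : Subsingleton (Coh.HH Z (Coh.structureModule Z) 1))
    (h2 : Subsingleton (Coh.HH Z (Coh.structureModule Z) 2))
    (L₀ : Z.Modules) (hL₀ : PicF.IsInvertible L₀) :
    ∃ L : X.Modules, PicF.IsInvertible L ∧ Nonempty ((Scheme.Modules.pullback j).obj L ≅ L₀) := by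
  have hln : IsLocallyNoetherian X := LocallyOfFiniteType.isLocallyNoetherian (X ↘ Spec (CommRingCat.of A))
  let f := X ↘ Spec (CommRingCat.of A)
  let 𝓘 := K730.NhdTop.idl (maximalIdeal A) f
  have hleff : LefX.LeffCond X 𝓘 := K730.LeffProper.leffCond (maximalIdeal A)
  have hker : ∀ m : ℕ, 0 ≤ m →
      Subsingleton (Coh.HH X (kernel (Lef.quotMap (Lef.pow_succ_le 𝓘 m))) 2) := by
    intro m _
    exact subsingleton_kernel _ 1
      (subsingleton_quotMod H 1 h1 (maximalIdeal A ^ (m + 1)) _ (idl_pow _ _))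
      (subsingleton_quotMod H 2 h2 (maximalIdeal A ^ (m + 1 + 1)) _ (idl_pow _ _))
  -- the closed fibre as a closed subscheme
  obtain ⟨q', hq'⟩ := exists_isPullback (maximalIdeal A) (𝓘 ^ (0 + 1)) (by rw [zero_add, pow_one])
  let φ : (𝓘 ^ (0 + 1)).subscheme ≅ Z := hq'.isoIsPullback _ _ H
  have hφ : φ.hom ≫ j = (𝓘 ^ (0 + 1)).subschemeι := IsPullback.isoIsPullback_hom_fst _ _ _ _
  obtain ⟨U, L, g, hU, hg, hL, ⟨e⟩⟩ := Groth.Agent.Lefx.H80.NhdPic.exists_nhd 𝓘 hleff 0 hker
    ((Scheme.Modules.pullback φ.hom).obj L₀) (Sga2.PicThick.isInvertible_pullback _ hL₀)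
  have hUt : U = ⊤ := K730.NhdTop.eq_top_of_support (IsAdicComplete.le_jacobson_bot _) f f.isClosedMap U hU
  subst hUt
  let t : X ⟶ (⊤ : X.Opens) := X.topIso.inv
  have htι : t ≫ (⊤ : X.Opens).ι = 𝟙 X := X.topIso.inv_hom_id
  have hjt : φ.inv ≫ g = j ≫ t := by
    rw [← cancel_mono (⊤ : X.Opens).ι, Category.assoc, hg, Category.assoc, htι, Category.comp_id,
      ← hφ, Iso.inv_hom_id_assoc]
  refine ⟨(Scheme.Modules.pullback t).obj L, Sga2.PicThick.isInvertible_pullback _ hL, ⟨?_⟩⟩
  exact (Scheme.Modules.pullbackComp j t).app L ≪≫ (Scheme.Modules.pullbackCongr hjt.symm).app L ≪≫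
    ((Scheme.Modules.pullbackComp φ.inv g).symm.app L) ≪≫ (Scheme.Modules.pullback φ.inv).mapIso e ≪≫
    (Scheme.Modules.pullbackComp φ.inv φ.hom).app L₀ ≪≫
    (Scheme.Modules.pullbackCongr φ.inv_hom_id).app L₀ ≪≫ (Scheme.Modules.pullbackId _).app L₀

end Van

end K151.PicLift
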