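import Mathlib.AlgebraicGeometry.Morphisms.Integral
import Mathlib.AlgebraicGeometry.ResidueField
import Mathlib.RingTheory.Algebraic.Integral

/-!
# Residue field extensions of integral morphisms are algebraic

* `exists_evaluation`: every element of `κ(x)` is a fraction of values of sections over an affine open
  neighbourhood;
* `isAlgebraic_of_isIntegralHom`.
-/

set_option autoImplicit false
set_option linter.style.haveILetI false
universe u

open CategoryTheory AlgebraicGeometry

namespace K151.ResInt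

theorem exists_evaluation {X : Scheme.{u}} {U : X.Opens} (hU : IsAffineOpen U) (x : X) (hx : x ∈ U)
    (z : X.residueField x) : ∃ b s : Γ(X, U), (X.evaluation U x hx).hom s ≠ 0 ∧
      z * (X.evaluation U x hx).hom s = (X.evaluation U x hx).hom b := by
  obtain ⟨t, rfl⟩ := X.residue_surjective x z
  letI := (X.presheaf.germ U x hx).hom.toAlgebra
  haveI := hU.isLocalization_stalk ⟨x, hx⟩
  obtain ⟨⟨b, s⟩, h⟩ := IsLocalization.surj (hU.primeIdealOf ⟨x, hx⟩).asIdeal.primeCompl t
  refine ⟨b, s, ?_, ?_⟩
  · have h1 : IsUnit (X.presheaf.germ U x hx (s : Γ(X, U))) :=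
      IsLocalization.map_units (M := (hU.primeIdealOf ⟨x, hx⟩).asIdeal.primeCompl) _ s
    have h2 := h1.map (X.residue x).hom
    exact h2.ne_zero
  · have := congrArg (X.residue x).hom h
    rw [map_mul] at this
    exact this

theorem isAlgebraic_of_isIntegralHom {X Y : Scheme.{u}} (f : X ⟶ Y) [IsIntegralHom f] (x : X) :
    letI := (f.residueFieldMap x).hom.toAlgebra
    Algebra.IsAlgebraic (Y.residueField (f x)) (X.residueField x) := by
  letI := (f.residueFieldMap x).hom.toAlgebra
  obtain ⟨V, hV, hxV, -⟩ := TopologicalSpace.Opens.isBasis_iff_nbhd.mp Y.isBasis_affineOpens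
    (show f x ∈ (⊤ : Y.Opens) from trivial)
  have hV' : IsAffineOpen V := hV
  have hU : IsAffineOpen (f ⁻¹ᵁ V) := hV'.preimage f
  have hint : ∀ b : Γ(X, f ⁻¹ᵁ V), IsAlgebraic (Y.residueField (f x))
      ((X.evaluation (f ⁻¹ᵁ V) x hxV).hom b) := by
    intro b
    have h1 : (f.app V).hom.IsIntegralElem b := IsIntegralHom.isIntegral_app f V hV' b
    have h2 : (X.evaluation (f ⁻¹ᵁ V) x hxV).hom.comp (f.app V).hom =
        (algebraMap (Y.residueField (f x)) (X.residueField x)).comp
          (Y.evaluation V (f x) hxV).hom := by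
      have := Scheme.evaluation_naturality f x hxV
      exact congrArg CommRingCat.Hom.hom this.symm
    obtain ⟨P, hP, hP0⟩ := h1
    refine IsIntegral.isAlgebraic ⟨P.map (Y.evaluation V (f x) hxV).hom, hP.map _, ?_⟩
    rw [Polynomial.eval₂_map, ← h2, ← Polynomial.hom_eval₂, hP0, map_zero]
  refine ⟨fun z => ?_⟩
  obtain ⟨b, s, hs, h⟩ := exists_evaluation hU x hxV z
  have : z = (X.evaluation (f ⁻¹ᵁ V) x hxV).hom b * ((X.evaluation (f ⁻¹ᵁ V) x hxV).hom s)⁻¹ := by
    rw [← h, mul_assoc, mul_inv_cancel₀ hs, mul_one]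
  rw [this]
  exact (hint b).mul (hint s).inv

end K151.ResInt
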